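import Cfsg.Agent.SmallSimple.TheoremCCor
import Cfsg.Agent.SmallSimple.DegreeData
import Cfsg.Agent.CharactersDeep.ModCongr
import Mathlib
import Cfsg.Agent.SmallSimple.DegreeSearch
import Cfsg.Agent.Characters.Central
import Cfsg.Agent.Characters.CentralCharacter
import Cfsg.Agent.Characters.GaloisBasic
import Cfsg.Agent.Blocks.Basic
import Cfsg.Agent.LThreeFi22.Ctx
import Cfsg.Agent.LThreeFi22.Inst
import Cfsg.Agent.S0145
import Cfsg.Agent.SporadicA.M11CharSimple
import Cfsg.Agent.H570.Ore.Blk_m3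
import Cfsg.Agent.H713.Spor.Fi22
import Cfsg.Agent.SmallSimple.ThetaSetup
import Cfsg.Agent.SmallSimple.InvolColumn
import Cfsg.Agent.Characters.ClassMul
import Cfsg.Agent.Characters.DefectZero
import Cfsg.Agent.H856.F23.Deg_m3
import Cfsg.Agent.H839.SeventeenMain_m3
import Cfsg.Agent.J3Type.CharTools
import Cfsg.Agent.H614.Chars
import Mathlib.GroupTheory.Perm.Centralizer
import Cfsg.Agent.LThreeFi23.CentUuComp
import Cfsg.Agent.H614.Height
import Cfsg.Agent.Lib.Refl
import Cfsg.Agent.H360.LD.RowJ3_m3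
import Cfsg.Agent.H713.Spor.Small
import Cfsg.Agent.H55.OutGen
import Cfsg.Agent.H678.DG.PairRep_m3
import Cfsg.Agent.H289.Eight.FiQDeg
import Cfsg.Agent.H489.OutSpor
import Cfsg.Agent.R08.AutT
import Cfsg.Agent.H66.LD.Three
import Cfsg.Agent.KFacts.FiTF.FixZ_m3
import Cfsg.Agent.Fischer.Fi23Simple
import Cfsg.Agent.Blocks.ClassScalar
import Cfsg.Agent.HKS.CosetTwo
import Cfsg.Agent.H968.Tor.FiFour
import Cfsg.Agent.H843.Ore.R11
import Cfsg.Agent.H642.PQ.Full
import Cfsg.Agent.H849.OZ.Bad_m3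
import Cfsg.Prelude.Def_DegreeGraph
import Cfsg.Agent.S2081
import Cfsg.Agent.H348.PPD.Rows_m3
import Cfsg.Agent.H717.SmallClass
import Cfsg.Agent.H348.PPD.RowSuz
import Cfsg.Agent.H299.K4.SuzX
import Cfsg.Agent.H289.Eight.SuzDeg
import Cfsg.Agent.H812.SuzSeven_m3
import Cfsg.Agent.FastGrp
import Cfsg.Agent.Prune
set_option linter.all false

-- part: H618/LD/Prin2
section
prune_inst 0x7ffdeffcfbaffbfeffff7e3fafd9fffdb3ae8fffe6dff943ffe86b9fcb9f03b309c5fba509e018fede56e0b410b87843fb7eefffe86fdc7ffffdfff41ffbee4ff5f7350951d180241fbc0ffe83f1778e6f3ffffffffffffffffffff7fffffffffffff3feffff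
set_option linter.all false
open scoped Cfsg.Agent.FastGrp

-- part: H618/LD/Blk
section
/-!
# S4910, row Fi22 (helper618): the characters over the trivial character, prime order
-/

set_option autoImplicit false
set_option linter.unusedSectionVars false

open Cfsg
open scoped ComplexConjugate

namespace Cfsg.Agent.H618.LD.Blk

open Subgroup
open Cfsg.Agent.Characters.Core
open Cfsg.Agent.SmallSimple.PrimeDual Cfsg.Agent.SmallSimple.ThetaSetup
open Cfsg.Agent.SmallSimple.ThetaOrtho Cfsg.Agent.SmallSimple.ThetaGroup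
open Cfsg.Agent.SmallSimple.TheoremC Cfsg.Agent.SmallSimple.TheoremCCor

universe u

variable {G : Type u} [Group G]

/-- the trivial character -/
def one (G : Type u) [Group G] : IrrCharacter G := ⟨1, isIrr_one⟩

/-- the degree as an integer -/
noncomputable def dg (χ : IrrCharacter G) : ℤ := (charDegree (χ : G → ℂ) : ℤ)

theorem dg_cast [Finite G] (χ : IrrCharacter G) : (χ : G → ℂ) 1 = (dg χ : ℂ) := by
  unfold dg
  rw [Blocks.Basic.irr_one_eq_charDegree χ.2]
  push_cast
  rfl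

variable [Finite G] {p : ℕ} [hp : Fact p.Prime]

/-- the principal block -/
structure PB (P : Sylow p G) (K : Subgroup G) (e t : ℕ) (NE X : Finset (IrrCharacter G)) (ε : IrrCharacter G → ℤ)
    (d : ℤ) : Prop where
  mem : ∀ χ, χ ∈ Over P (1 : K → ℂ) ↔ χ ∈ NE ∨ χ ∈ X
  disj : Disjoint NE X
  cNE : NE.card = e
  cX : X.card = t
  one : one G ∈ NE
  eone : ε (Blk.one G) = 1
  sg : ∀ χ ∈ NE, ε χ = 1 ∨ ε χ = -1
  sd : d = 1 ∨ d = -1
  val : ∀ χ ∈ NE, ∀ x : P, x ≠ 1 → ∀ y : K, (χ : G → ℂ) (x * y) = ε χ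
  rel : ∀ Θ ∈ X, ∀ g : G, ¬ p ∣ orderOf g → ∑ χ ∈ NE, (ε χ : ℂ) * (χ : G → ℂ) g = d * (Θ : G → ℂ) g
  cong : ∀ χ ∈ NE, (p : ℤ) ∣ ε χ * dg χ - 1
  congX : ∀ Θ ∈ X, (p : ℤ) ∣ d * dg Θ - e

/-- `χ(g) ≡ χ(x⁻¹ g)` for the `p`-part `x`, integral values -/
theorem int_cong (χ : IrrCharacter G) {g x y : G} (hxy : x * y = g) (hc : Commute x y) {k : ℕ}
    (hx : orderOf x = p ^ k) (hy : ¬ p ∣ orderOf y) {m n : ℤ} (h1 : (χ : G → ℂ) g = m) (h2 : (χ : G → ℂ) y = n) :
    (p : ℤ) ∣ m - n := by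
  obtain ⟨M, hM⟩ := Blocks.ExistsModular.exists_isPModular hp.out
  have h3 := Cfsg.Agent.CharactersDeep.ModCongr.memLocalIdeal_character_sub hM χ.2 g x ⟨y, hxy, hc, ⟨k, hx⟩, hy⟩
  have h4 : x⁻¹ * g = y := by rw [← hxy]; group
  rw [h4, h1, h2] at h3
  have h5 : (m : ℂ) - (n : ℂ) = ((m - n : ℤ) : ℂ) := by push_cast; ring
  rw [h5] at h3
  exact (Blocks.Local.memLocalIdeal_intCast_iff hM _).1 h3

theorem not_dvd_one : ¬ p ∣ orderOf (1 : G) := by
  rw [orderOf_one]
  exact fun h => hp.out.one_lt.ne' (Nat.dvd_one.1 h)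

theorem stable {P : Sylow p G} {K : Subgroup G} (hK : IsComp p (P : Subgroup G) K) :
    ∀ n ∈ normalizer ((P : Subgroup G) : Set G), tw (1 : K → ℂ) n = 1 := by
  intro n hn
  funext y
  rw [tw_apply hK _ hn]
  rfl

theorem exists_pb {P : Sylow p G} (hP : Nat.card P = p) {K : Subgroup G} (hK : IsComp p (P : Subgroup G) K) {e t : ℕ}
    (he : (centralizer ((P : Subgroup G) : Set G)).relIndex (normalizer ((P : Subgroup G) : Set G)) = e)
    (ht : e * t = p - 1) (hlt : e < p - 1) :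
    ∃ NE X ε d, PB P K e t NE X ε d := by
  classical
  have hst := stable hK
  have hse := card_stabAct_of_stable hK hP isIrr_one hst
  obtain ⟨NE, X, ε, d, S, h1, h2, h3, h4, h5, h6, h7, h8, -, -, h9⟩ :=
    theoremC hK hP isIrr_one (hse.trans he) ht
  have hone : (Blk.one G) ∈ Over P (1 : K → ℂ) ∧ ∀ x : P, part (1 : K → ℂ) (Blk.one G : G → ℂ) x = 1 := by
    have hpart : ∀ x : P, part (1 : K → ℂ) (Blk.one G : G → ℂ) x = 1 := by
      intro x
      have := Fintype.ofFinite K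
      rw [part_eq]
      have h10 : ∀ y : K, (Blk.one G : G → ℂ) (x * y) * conj ((1 : K → ℂ) y) = 1 := by
        intro y
        show (1 : ℂ) * conj (1 : ℂ) = 1
        rw [map_one, mul_one]
      rw [Finset.sum_congr rfl fun y _ => h10 y, Finset.sum_const, Finset.card_univ, nsmul_eq_mul, mul_one,
        ← Nat.card_eq_fintype_card, inv_mul_cancel₀ (by exact_mod_cast Nat.card_pos.ne')]
    refine ⟨?_, hpart⟩
    have : Nontrivial P := by
      rw [← Finite.one_lt_card_iff_nontrivial, hP]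
      exact hp.out.one_lt
    obtain ⟨x, hx⟩ := exists_ne (1 : P)
    exact mem_Over.2 ⟨x, hx, by rw [hpart x]; exact one_ne_zero⟩
  have hval : ∀ χ ∈ NE, ∀ x : P, x ≠ 1 → ∀ y : K, (χ : G → ℂ) (x * y) = ε χ := by
    intro χ hχ x hx y
    rw [apply_of_stable hK hP isIrr_one hst ((h1 χ).2 (Or.inl hχ)) hx, h7 χ hχ x hx]
    show (ε χ : ℂ) * 1 = _
    rw [mul_one]
  have hcong : ∀ χ ∈ NE, (p : ℤ) ∣ ε χ * dg χ - 1 := by
    intro χ hχ
    have h10 := SmallSimple.DegreeData.nonexc_modEq (P := (P : Subgroup G)) (p := p) hP (h5 χ hχ) (χ := χ) (by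
      intro x hx hx1
      have h11 := hval χ hχ ⟨x, hx⟩ (fun h => hx1 (congrArg Subtype.val h)) 1
      rw [Subgroup.coe_one, mul_one] at h11
      exact h11)
    exact (Int.modEq_iff_dvd.1 h10.symm)
  have hone' : Blk.one G ∈ NE := by
    rcases (h1 _).1 hone.1 with h10 | h10
    · exact h10
    · exfalso
      obtain ⟨k1, k2, -, k3⟩ := h8 _ h10
      have hfp : Fintype (P : Subgroup G) := Fintype.ofFinite _
      have q1 : ∀ x : (P : Subgroup G), part (1 : K → ℂ) (Blk.one G : G → ℂ) x = 1 := fun x => hone.2 x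
      have q2 : ∀ x : (P : Subgroup G), x ≠ 1 → part (1 : K → ℂ) (Blk.one G : G → ℂ) x =
        (d : ℂ) * ∑ l ∈ S (Blk.one G), ((l x : ℂˣ) : ℂ) := fun x hx => k3 x hx
      have hP' : Fintype.card (P : Subgroup G) = p := Nat.card_eq_fintype_card.symm.trans hP
      have h11 : ∑ x ∈ Finset.univ.erase (1 : (P : Subgroup G)), part (1 : K → ℂ) (Blk.one G : G → ℂ) x = ((p - 1 : ℕ) : ℂ) := by
        rw [Finset.sum_congr rfl fun x _ => q1 x, Finset.sum_const, Finset.card_erase_of_mem (Finset.mem_univ _),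
          Finset.card_univ, hP', nsmul_eq_mul, mul_one]
      have h12 : ∑ x ∈ Finset.univ.erase (1 : (P : Subgroup G)), part (1 : K → ℂ) (Blk.one G : G → ℂ) x = -(d * e : ℤ) := by
        rw [Finset.sum_congr rfl fun x hx => q2 x (Finset.mem_erase.1 hx).1, ← Finset.mul_sum, Finset.sum_comm]
        have h13 : ∀ l ∈ S (Blk.one G), ∑ x ∈ Finset.univ.erase (1 : (P : Subgroup G)), ((l x : ℂˣ) : ℂ) = -1 := by
          intro l hl
          have h14 := sum_hom_eq_zero (l := l) (fun h0 => k2 (h0 ▸ hl))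
          have h16 := Finset.add_sum_erase Finset.univ (fun x : (P : Subgroup G) => ((l x : ℂˣ) : ℂ))
            (Finset.mem_univ (1 : (P : Subgroup G)))
          have h17 : ∑ x : (P : Subgroup G), ((l x : ℂˣ) : ℂ) = 0 := by
            convert h14
          rw [h17] at h16
          have h18 : ((l 1 : ℂˣ) : ℂ) = 1 := by rw [map_one, Units.val_one]
          simp only [h18] at h16
          linear_combination h16
        rw [Finset.sum_congr rfl h13, Finset.sum_const, k1, nsmul_eq_mul]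
        push_cast
        ring
      rw [h11] at h12
      have h15 : ((p - 1 : ℕ) : ℤ) = -(d * e) := by exact_mod_cast h12
      rcases h6 with h6 | h6 <;> rw [h6] at h15 <;> omega
  have heone : ε (Blk.one G) = 1 := by
    have : Nontrivial P := by
      rw [← Finite.one_lt_card_iff_nontrivial, hP]
      exact hp.out.one_lt
    obtain ⟨x, hx⟩ := exists_ne (1 : P)
    have h10 := h7 _ hone' x hx
    rw [hone.2 x] at h10
    exact_mod_cast h10.symm
  refine ⟨NE, X, ε, d, h1, h2, h3, h4, hone', heone, h5, h6, hval, h9, hcong, ?_⟩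
  intro Θ hΘ
  have h10 := h9 Θ hΘ 1 not_dvd_one
  rw [dg_cast Θ, Finset.sum_congr rfl (g := fun χ => ((ε χ * dg χ : ℤ) : ℂ)) (fun χ _ => by
    rw [dg_cast χ]; push_cast; rfl), ← Int.cast_sum] at h10
  have h11 : ∑ χ ∈ NE, ε χ * dg χ = d * dg Θ := by exact_mod_cast h10
  have h12 : (e : ℤ) = ∑ χ ∈ NE, (1 : ℤ) := by rw [Finset.sum_const, h3]; simp
  rw [← h11, h12, ← Finset.sum_sub_distrib]
  exact Finset.dvd_sum fun χ hχ => hcong χ hχ

/-- the inertial index -/
theorem relIndex_eq {P : Sylow p G} (hP : Nat.card P = p) {K : Subgroup G} (hK : IsComp p (P : Subgroup G) K) {x : G}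
    (hx : x ∈ P) (hx1 : x ≠ 1) {N c e : ℕ} (hN : Nat.card G = N) (hc : Nat.card (centralizer ({x} : Set G)) = c)
    (he : N / c % p = e) (he0 : e ≠ 0) :
    (centralizer ((P : Subgroup G) : Set G)).relIndex (normalizer ((P : Subgroup G) : Set G)) = e := by
  set C := centralizer ((P : Subgroup G) : Set G) with hC
  set Nm := normalizer ((P : Subgroup G) : Set G) with hNm
  have hcC : Nat.card C = c := by
    rw [← hc, Blocks.CyclicOrtho.centralizer_eq P hP hx hx1]
  have h1 : C.relIndex Nm * Nm.index = C.index := Subgroup.relIndex_mul_index (centralizer_le_normalizer _)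
  have h2 : Nat.card (Sylow p G) = Nm.index := P.card_eq_index_normalizer
  have h3 : Nat.card (Sylow p G) ≡ 1 [MOD p] := card_sylow_modEq_one p G
  rw [h2] at h3
  have hidx : C.index = N / c := by
    have h4 := C.card_mul_index
    rw [hcC, hN] at h4
    rw [← h4, Nat.mul_div_cancel_left]
    rw [← hcC]; exact Nat.card_pos
  have h5 : C.relIndex Nm ≡ e [MOD p] := by
    have h6 : C.relIndex Nm * Nm.index ≡ C.relIndex Nm * 1 [MOD p] := h3.mul_left _
    rw [h1, hidx, mul_one] at h6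
    have h7 : N / c ≡ e [MOD p] := by
      rw [← he]; exact (Nat.mod_modEq _ _).symm
    exact h6.symm.trans h7
  have hst := card_stabAct_of_stable hK hP isIrr_one (stable hK)
  have h8 : C.relIndex Nm ∣ p - 1 := by
    rw [← hst]
    have h9 := Subgroup.card_subgroup_dvd_card (stabAct hK (1 : K → ℂ))
    have h10 : IsCyclic P := isCyclic_of_prime_card hP
    rwa [Nat.card_congr (IsCyclic.mulAutMulEquiv P).toEquiv, hP, Nat.card_eq_fintype_card (α := (ZMod p)ˣ),
      ZMod.card_units_eq_totient, Nat.totient_prime hp.out] at h9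
  have h11 : C.relIndex Nm ≤ p - 1 := Nat.le_of_dvd (Nat.sub_pos_of_lt hp.out.one_lt) h8
  have h12 : e < p := by rw [← he]; exact Nat.mod_lt _ hp.out.pos
  have h13 := hp.out.one_lt
  exact Nat.ModEq.eq_of_lt_of_lt h5 (by omega) h12

end Cfsg.Agent.H618.LD.Blk
end

-- part: H618/LD/Num
section
/-!
# S4910, row Fi22 (helper618): the numerical search, tools

Signed degrees `c` are coded as `c + 10 ^ 8`, eigenvalues `w` as `w + 3510`.
-/

set_option autoImplicit false

namespace Cfsg.Agent.H618.LD.Num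

/-! ### loops -/

def allL {α : Type} (f : α → Bool) (l : List α) : Bool := List.rec true (fun a _ ih => cond (f a) ih false) l

theorem cond_tf {a b : Bool} : cond a b false = true ↔ a = true ∧ b = true := by cases a <;> simp

theorem cond_ft {a b : Bool} : cond a b true = true ↔ (a = true → b = true) := by cases a <;> simp

theorem cond_or {b x y : Bool} (h : cond b x y = true) : x = true ∨ y = true := by cases b <;> simp at h <;> tauto

theorem allL_iff {α : Type} {f : α → Bool} {l : List α} : allL f l = true ↔ ∀ a ∈ l, f a = true := by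
  induction l with
  | nil => simp [allL]
  | cons a l ih =>
    have h : allL f (a :: l) = cond (f a) (allL f l) false := rfl
    rw [h, cond_tf, ih]
    simp only [_root_.List.mem_cons, _root_.forall_eq_or_imp]

def allR (f : ℕ → Bool) (n : ℕ) : Bool := Nat.rec true (fun k ih => cond (f k) ih false) n

theorem allR_iff {f : ℕ → Bool} {n : ℕ} : allR f n = true ↔ ∀ k < n, f k = true := by
  induction n with
  | zero => simp [allR]
  | succ n ih =>
    have h : allR f (n + 1) = cond (f n) (allR f n) false := rfl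
    rw [h, cond_tf, ih]
    constructor
    · rintro ⟨h1, h2⟩ k hk
      rcases Nat.lt_succ_iff_lt_or_eq.1 hk with h3 | h3
      · exact h2 k h3
      · rw [h3]; exact h1
    · intro h1
      exact ⟨h1 n (Nat.lt_succ_self n), fun k hk => h1 k (Nat.lt_succ_of_lt hk)⟩

def tails (f : ℕ → List ℕ → Bool) (l : List ℕ) : Bool :=
  List.rec true (fun a l ih => cond (f a (a :: l)) ih false) l

theorem tails_spec {f : ℕ → List ℕ → Bool} {l : List ℕ} (h : tails f l = true) {l1 l2 : List ℕ} {a : ℕ}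
    (hl : l = l1 ++ a :: l2) : f a (a :: l2) = true := by
  induction l generalizing l1 with
  | nil => simp at hl
  | cons b l ih =>
    have h' : tails f (b :: l) = cond (f b (b :: l)) (tails f l) false := rfl
    rw [h', cond_tf] at h
    cases l1 with
    | nil =>
      rw [List.nil_append] at hl
      injection hl with h1 h2
      subst h1 h2
      exact h.1
    | cons x l1 =>
      rw [List.cons_append] at hl
      injection hl with h1 h2
      exact ih h.2 h2

def frc (i : ℕ) (f : ℕ → Bool) : Bool := Nat.rec (f 0) (fun n _ => f (Nat.succ n)) i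

theorem frc_eq (i : ℕ) (f : ℕ → Bool) : frc i f = f i := by cases i <;> rfl

/-- the absolute value of the coded number -/
def ab (x : ℕ) : ℕ := Nat.add (Nat.sub x 100000000) (Nat.sub 100000000 x)

/-- the code -/
def cd (c : ℤ) : ℕ := (c + 100000000).toNat

theorem cd_cast {c : ℤ} (h : c.natAbs < 100000000) : (cd c : ℤ) = c + 100000000 := by
  unfold cd
  omega

theorem ab_cd {c : ℤ} (h : c.natAbs < 100000000) : ab (cd c) = c.natAbs := by
  have h1 := cd_cast h
  unfold ab
  simp only [Nat.add_eq, Nat.sub_eq]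
  omega

/-! ### triples -/

def tri (D : List ℕ) (K : ℕ) (g : ℕ → ℕ → ℕ → ℕ → Bool) : Bool :=
  tails (fun a l => tails (fun b l' => allL (fun c => g a b c (Nat.sub K (Nat.add a (Nat.add b c)))) l') l) D

theorem exists_suffix {D : List ℕ} (hD : D.Pairwise fun x y => ab x < ab y) {a b : ℕ} (ha : a ∈ D) (hb : b ∈ D)
    (hab : ab a ≤ ab b) : ∃ l1 l2, D = l1 ++ a :: l2 ∧ b ∈ a :: l2 := by
  obtain ⟨l1, l2, rfl⟩ := List.append_of_mem ha
  refine ⟨l1, l2, rfl, ?_⟩
  rw [List.mem_append] at hb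
  rcases hb with hb | hb
  · exfalso
    have h1 := (List.pairwise_append.1 hD).2.2 b hb a List.mem_cons_self
    omega
  · exact hb

theorem pairwise_suffix {D : List ℕ} (hD : D.Pairwise fun x y => ab x < ab y) {l1 l2 : List ℕ} (h : D = l1 ++ l2) :
    l2.Pairwise fun x y => ab x < ab y := by
  rw [h] at hD
  exact (List.pairwise_append.1 hD).2.1

theorem tri_spec {D : List ℕ} {K : ℕ} {g : ℕ → ℕ → ℕ → ℕ → Bool} (hD : D.Pairwise fun x y => ab x < ab y)
    (h : tri D K g = true) {a b c : ℕ} (ha : a ∈ D) (hb : b ∈ D) (hc : c ∈ D) (hab : ab a ≤ ab b) (hbc : ab b ≤ ab c) :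
    g a b c (K - (a + (b + c))) = true := by
  obtain ⟨l1, l2, h1, h2⟩ := exists_suffix hD ha hb hab
  have hs := pairwise_suffix hD h1
  have hca : c ∈ a :: l2 := by
    obtain ⟨l1', l2', h1', h2'⟩ := exists_suffix hD ha hc (hab.trans hbc)
    have : a :: l2 = a :: l2' := by
      -- the position of `a` is unique
      have hnd : D.Nodup := hD.imp fun {x y} hxy hxy' => by subst hxy'; exact lt_irrefl _ hxy
      rw [h1] at h1' hnd
      have h3 := List.append_eq_append_iff.1 h1'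
      rcases h3 with ⟨w, h4, h5⟩ | ⟨w, h4, h5⟩
      · cases w with
        | nil => simpa using h5
        | cons x w =>
          exfalso
          rw [List.cons_append] at h5
          injection h5 with h6 h7
          subst h6
          rw [h7] at hnd
          have h8 := (List.nodup_append.1 hnd).2.1
          rw [List.nodup_cons] at h8
          exact h8.1 (by simp)
      · cases w with
        | nil => simpa using h5.symm
        | cons x w =>
          exfalso
          rw [List.cons_append] at h5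
          injection h5 with h6 h7
          subst h6
          rw [h4] at hnd
          have h8 := (List.nodup_append.1 hnd).2.2 a (by simp) a (by simp)
          exact h8 rfl
    rw [this]
    exact h2'
  obtain ⟨m1, m2, h3, h4⟩ := exists_suffix hs h2 hca hbc
  have h5 := tails_spec h h1
  have h6 := tails_spec h5 h3
  have h7 := allL_iff.1 h6 c h4
  exact h7

/-! ### the table -/

def lk (t : List (ℕ × List ℕ)) (d : ℕ) : Option (List ℕ) :=
  List.rec none (fun p _ ih => cond (Nat.beq p.1 d) (some p.2) ih) t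

theorem lk_mem {t : List (ℕ × List ℕ)} {d : ℕ} {ws : List ℕ} (h : lk t d = some ws) : (d, ws) ∈ t := by
  induction t with
  | nil => exact absurd h (by simp [lk])
  | cons p t ih =>
    have h' : lk (p :: t) d = cond (Nat.beq p.1 d) (some p.2) (lk t d) := rfl
    rw [h'] at h
    cases h1 : Nat.beq p.1 d with
    | true =>
      rw [h1] at h
      have h2 : p.1 = d := Nat.eq_of_beq_eq_true h1
      have h3 : p.2 = ws := Option.some.inj h
      rw [← h2, ← h3]
      exact List.mem_cons_self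
    | false =>
      rw [h1] at h
      exact List.mem_cons_of_mem _ (ih h)

def withL (t : List (ℕ × List ℕ)) (x : ℕ) (f : List ℕ → Bool) : Bool := Option.rec false f (lk t (ab x))

theorem withL_spec {t : List (ℕ × List ℕ)} {x : ℕ} {f : List ℕ → Bool} (h : withL t x f = true) :
    ∃ ws, (ab x, ws) ∈ t ∧ f ws = true := by
  unfold withL at h
  cases h1 : lk t (ab x) with
  | none => rw [h1] at h; exact absurd h (by simp)
  | some ws =>
    rw [h1] at h
    exact ⟨ws, lk_mem h1, h⟩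

def memN (x : ℕ) (l : List ℕ) : Bool := List.rec false (fun a _ ih => cond (Nat.beq a x) true ih) l

theorem memN_spec {x : ℕ} {l : List ℕ} (h : memN x l = true) : x ∈ l := by
  induction l with
  | nil => exact absurd h (by simp [memN])
  | cons a l ih =>
    have h' : memN x (a :: l) = cond (Nat.beq a x) true (memN x l) := rfl
    rw [h'] at h
    cases h1 : Nat.beq a x with
    | true =>
      rw [Nat.eq_of_beq_eq_true h1]
      exact List.mem_cons_self
    | false =>
      rw [h1] at h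
      exact List.mem_cons_of_mem _ (ih h)

/-- the numerical facts on an irreducible character of degree `d` with eigenvalue `w` -/
structure Adm (d : ℕ) (w : ℤ) : Prop where
  dvd : d ∣ 64561751654400
  sq : d * d < 64561751654400
  one : 1 < d
  bd : w.natAbs < 3510
  ex : ∃ (v : ℤ) (s r : ℕ), w * d = 3510 * v ∧ v * v ≤ 18393661440 ∧ v.natAbs ≤ s ∧ s ≤ d ∧ v.natAbs ≤ r ∧ r ≤ d ∧
    (2 : ℤ) ∣ s - v ∧ (2 : ℤ) ∣ r - v ∧ (2 : ℤ) ∣ d - v ∧ w * v + 2100 * d = 1386 * s + 4224 * r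

/-- the test with `aw = |w|`, `av = |v|` -/
def okx (d aw av : ℕ) : Bool :=
  cond (Nat.beq (Nat.mul aw d) (Nat.mul 3510 av)) (cond (Nat.ble (Nat.mul av av) 18393661440)
    (cond (Nat.beq (Nat.mod (Nat.add d av) 2) 0) (cond (Nat.ble (Nat.mul 5610 av) (Nat.add (Nat.mul aw av) (Nat.mul 2100 d)))
      (frc (Nat.sub (Nat.add (Nat.mul aw av) (Nat.mul 2100 d)) (Nat.mul 5610 av)) fun X =>
        cond (Nat.beq (Nat.mod X 132) 0) (frc (Nat.div X 132) fun Q => frc (Nat.div (Nat.sub d av) 2) fun m =>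
          frc (Nat.mod Q 21) fun r => cond (Nat.ble (Nat.mul 64 r) Q) (cond (Nat.ble r m) (Nat.ble Q (Nat.mul 85 m)) false) false)
          false) false) false) false) false

/-- the test for the coded eigenvalue -/
def okw (d w : ℕ) : Bool :=
  frc (Nat.add (Nat.sub w 3510) (Nat.sub 3510 w)) fun aw => frc (Nat.div (Nat.mul aw d) 3510) fun av => okx d aw av

theorem ble_of_le {a b : ℕ} (h : a ≤ b) : Nat.ble a b = true := by rw [Nat.ble_eq]; exact h

theorem beq_of_eq {a b : ℕ} (h : a = b) : Nat.beq a b = true := by rw [h]; exact Nat.beq_refl b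

theorem okx_of {d aw av s r : ℕ} (h1 : aw * d = 3510 * av) (h2 : av * av ≤ 18393661440) (h3 : av ≤ s) (h4 : s ≤ d)
    (h5 : av ≤ r) (h6 : r ≤ d) (h7 : 2 ∣ s - av) (h8 : 2 ∣ r - av) (h9 : 2 ∣ d - av)
    (h10 : aw * av + 2100 * d = 1386 * s + 4224 * r) : okx d aw av = true := by
  obtain ⟨s', hs'⟩ := h7
  obtain ⟨r', hr'⟩ := h8
  obtain ⟨m, hm⟩ := h9
  have es : s = av + 2 * s' := by (clear * - h3 h5 hs'; omega)
  have er : r = av + 2 * r' := by (clear * - h5 h6 hr'; omega)
  have ed : d = av + 2 * m := by (clear * - h6 hm er; omega)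
  have hs'm : s' ≤ m := by omega
  have hr'm : r' ≤ m := by omega
  have hX : aw * av + 2100 * d = 5610 * av + 132 * (21 * s' + 64 * r') := by
    rw [h10, es, er]; ring
  unfold okx
  simp only [Nat.add_eq, Nat.mul_eq, Nat.sub_eq, cond_tf, frc_eq]
  refine ⟨beq_of_eq h1, ble_of_le h2, beq_of_eq ?_, ble_of_le ?_, ?_⟩
  · show (d + av) % 2 = 0
    (clear * - ed; omega)
  · rw [hX]; omega
  · have hX' : aw * av + 2100 * d - 5610 * av = 132 * (21 * s' + 64 * r') := by rw [hX]; omega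
    rw [hX']
    refine ⟨beq_of_eq ?_, ?_⟩
    · show 132 * (21 * s' + 64 * r') % 132 = 0
      omega
    · have hQ : Nat.div (132 * (21 * s' + 64 * r')) 132 = 21 * s' + 64 * r' := by
        show 132 * (21 * s' + 64 * r') / 132 = _
        omega
      have hM : Nat.div (d - av) 2 = m := by
        show (d - av) / 2 = m
        omega
      rw [hQ, hM]
      have hR : Nat.mod (21 * s' + 64 * r') 21 = r' % 21 := by
        show (21 * s' + 64 * r') % 21 = _
        omega
      rw [hR]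
      exact ⟨ble_of_le (by (clear * -; omega)), ble_of_le (by (clear * - h6 er ed; omega)), ble_of_le (by (clear * - h4 h6 es er ed; omega))⟩

theorem okw_of_adm {d : ℕ} {w : ℤ} (h : Adm d w) : okw d (w + 3510).toNat = true := by
  obtain ⟨v, s, r, h1, h2, h3, h4, h5, h6, h7, h8, h9, h10⟩ := h.ex
  have hbd := h.bd
  have hd := h.one
  have e1 : (w + 3510).toNat - 3510 + (3510 - (w + 3510).toNat) = w.natAbs := by (clear * - hbd; omega)
  have e2 : w.natAbs * d = 3510 * v.natAbs := by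
    have := congrArg Int.natAbs h1
    rw [Int.natAbs_mul, Int.natAbs_mul] at this
    simpa only [_root_.Int.natAbs_natCast, _root_.Int.reduceAbs] using this
  have e3 : w.natAbs * d / 3510 = v.natAbs := by
    rw [e2]; exact Nat.mul_div_cancel_left _ (by norm_num)
  have e4 : w * v = ((w.natAbs * v.natAbs : ℕ) : ℤ) := by
    have hd0 : (0 : ℤ) < d := by omega
    have h11 : 0 ≤ w * v := by
      have h12 : 0 ≤ (w * v) * 3510 := by
        have : (w * v) * 3510 = w * w * d := by linear_combination -w * h1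
        rw [this]
        exact mul_nonneg (mul_self_nonneg w) hd0.le
      linarith only [h12]
    rw [Nat.cast_mul, Int.natCast_natAbs, Int.natCast_natAbs, ← abs_mul, abs_of_nonneg h11]
  unfold okw
  simp only [Nat.add_eq, Nat.mul_eq, Nat.sub_eq, frc_eq]
  rw [e1]
  show okx d w.natAbs (w.natAbs * d / 3510) = true
  rw [e3]
  refine okx_of e2 ?_ h3 h4 h5 h6 ?_ ?_ ?_ ?_
  · have : v * v = ((v.natAbs * v.natAbs : ℕ) : ℤ) := by rw [Int.natAbs_mul_self]
    rw [this] at h2
    exact_mod_cast h2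
  · (clear * - h7; omega)
  · (clear * - h8; omega)
  · (clear * - h9; omega)
  · rw [e4] at h10
    exact_mod_cast h10

/-- the check of a row of the table -/
def chkRow (rs : ℕ → ℕ → Bool) (d : ℕ) (ws : List ℕ) : Bool :=
  frc (Nat.div 3510 (Nat.gcd 3510 d)) fun q => frc (Nat.div 3509 q) fun h => frc (Nat.sub 3510 (Nat.mul q h)) fun o =>
    allR (fun u => frc (Nat.add (Nat.mul q u) o) fun w => cond (rs d w) (cond (okw d w) (memN w ws) true) true)
      (Nat.add (Nat.mul 2 h) 1)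

theorem chkRow_spec {rs : ℕ → ℕ → Bool} {d : ℕ} {ws : List ℕ} (h : chkRow rs d ws = true) {w : ℤ} (ha : Adm d w)
    (hr : rs d (w + 3510).toNat = true) : (w + 3510).toNat ∈ ws := by
  unfold chkRow at h
  simp only [Nat.add_eq, Nat.mul_eq, Nat.sub_eq, frc_eq] at h
  rw [allR_iff] at h
  have hbd := ha.bd
  set q := Nat.div 3510 (Nat.gcd 3510 d) with hq
  have hq' : q = 3510 / Nat.gcd 3510 d := rfl
  have hg : Nat.gcd 3510 d ∣ 3510 := Nat.gcd_dvd_left _ _
  have hg0 : 0 < Nat.gcd 3510 d := Nat.gcd_pos_of_pos_left _ (by norm_num)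
  have hqm : q * Nat.gcd 3510 d = 3510 := Nat.div_mul_cancel hg
  have hq0 : 0 < q := by
    rcases Nat.eq_zero_or_pos q with h0 | h0
    · rw [h0] at hqm; omega
    · exact h0
  -- `q ∣ w`
  have hqw : q ∣ w.natAbs := by
    obtain ⟨v, s, r, h1, -⟩ := ha.ex
    have e2 : w.natAbs * d = 3510 * v.natAbs := by
      have := congrArg Int.natAbs h1
      rw [Int.natAbs_mul, Int.natAbs_mul] at this
      simpa only [_root_.Int.natAbs_natCast, _root_.Int.reduceAbs] using this
    have hcop : Nat.Coprime q (d / Nat.gcd 3510 d) := Nat.coprime_div_gcd_div_gcd hg0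
    have hd' : d / Nat.gcd 3510 d * Nat.gcd 3510 d = d := Nat.div_mul_cancel (Nat.gcd_dvd_right 3510 d)
    refine hcop.dvd_of_dvd_mul_right ⟨v.natAbs, ?_⟩
    apply Nat.eq_of_mul_eq_mul_right hg0
    calc w.natAbs * (d / Nat.gcd 3510 d) * Nat.gcd 3510 d = w.natAbs * d := by rw [mul_assoc, hd']
      _ = 3510 * v.natAbs := e2
      _ = (q * Nat.gcd 3510 d) * v.natAbs := by rw [hqm]
      _ = q * v.natAbs * Nat.gcd 3510 d := by ring
  obtain ⟨z, hz⟩ : ∃ z : ℤ, w = q * z := by
    obtain ⟨z, hz⟩ := Int.natCast_dvd.2 hqw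
    exact ⟨z, hz⟩
  set hh := Nat.div 3509 q with hhh
  have hhd : hh = 3509 / q := rfl
  have hzh : z.natAbs ≤ hh := by
    rw [hhd, Nat.le_div_iff_mul_le hq0]
    have h3 : w.natAbs = q * z.natAbs := by rw [hz, Int.natAbs_mul, Int.natAbs_natCast]
    rw [mul_comm, ← h3]
    omega
  have hqh : q * hh ≤ 3509 := by rw [hhd]; exact Nat.mul_div_le 3509 q
  have h4 := h (z + hh).toNat (by omega)
  have h5 : q * (z + hh).toNat + (3510 - q * hh) = (w + 3510).toNat := by
    have h6 : ((z + hh).toNat : ℤ) = z + hh := by omega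
    have h7 : ((q * (z + hh).toNat + (3510 - q * hh) : ℕ) : ℤ) = w + 3510 := by
      rw [Nat.cast_add, Nat.cast_mul, h6, Nat.cast_sub (by omega), hz]
      push_cast
      ring
    omega
  rw [h5, cond_ft, cond_ft] at h4
  exact memN_spec (h4 hr (okw_of_adm ha))

/-! ### the inner loops -/

/-- the number of occurrences -/
def cnt (A x y z u : ℕ) : ℕ := Nat.add (cond (Nat.beq x A) 1 0) (Nat.add (cond (Nat.beq y A) 1 0)
  (Nat.add (cond (Nat.beq z A) 1 0) (cond (Nat.beq u A) 1 0)))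

/-- the expected result: `A` occurs once, `c₀` occurs `n₀` times with eigenvalue `w₀` -/
structure Tst where
  A : ℕ
  c₀ : ℕ
  n₀ : ℕ
  w₀ : ℕ

def tst (T : Tst) (x wx y wy z wz u wu : ℕ) : Bool :=
  cond (Nat.beq (cnt T.A x y z u) 1) (cond (Nat.beq (cnt T.c₀ x y z u) T.n₀)
    (cond (cond (Nat.beq x T.c₀) (Nat.beq wx T.w₀) true) (cond (cond (Nat.beq y T.c₀) (Nat.beq wy T.w₀) true)
      (cond (cond (Nat.beq z T.c₀) (Nat.beq wz T.w₀) true) (cond (Nat.beq u T.c₀) (Nat.beq wu T.w₀) true) false) false)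
      false) false) false

structure Res (T : Tst) (x wx y wy z wz u wu : ℕ) : Prop where
  a : cnt T.A x y z u = 1
  c : cnt T.c₀ x y z u = T.n₀
  x : x = T.c₀ → wx = T.w₀
  y : y = T.c₀ → wy = T.w₀
  z : z = T.c₀ → wz = T.w₀
  u : u = T.c₀ → wu = T.w₀

theorem tst_spec {T : Tst} {x wx y wy z wz u wu : ℕ} (h : tst T x wx y wy z wz u wu = true) :
    Res T x wx y wy z wz u wu := by
  unfold tst at h
  simp only [cond_tf, cond_ft] at h
  obtain ⟨h1, h2, h3, h4, h5, h6⟩ := h
  refine ⟨Nat.eq_of_beq_eq_true h1, Nat.eq_of_beq_eq_true h2, fun h => ?_, fun h => ?_, fun h => ?_, fun h => ?_⟩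
  · exact Nat.eq_of_beq_eq_true (h3 (beq_of_eq h))
  · exact Nat.eq_of_beq_eq_true (h4 (beq_of_eq h))
  · exact Nat.eq_of_beq_eq_true (h5 (beq_of_eq h))
  · exact Nat.eq_of_beq_eq_true (h6 (beq_of_eq h))

theorem cnt_swap (A x y z u : ℕ) : cnt A x y u z = cnt A x y z u := by
  unfold cnt
  simp only [Nat.add_eq]
  omega

theorem cnt_rot (A x y z u : ℕ) : cnt A x z u y = cnt A x y z u := by
  unfold cnt
  simp only [Nat.add_eq]
  omega

theorem cnt_rot4 (A x y z u : ℕ) : cnt A y z u x = cnt A x y z u := by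
  unfold cnt
  simp only [Nat.add_eq]
  omega

/-- the known characters -/
structure KD where
  C : ℕ
  W : ℕ
  C2 : ℕ
  W2 : ℕ

def slv (T : Tst) (kn : KD) (x : ℕ) (lx : List ℕ) (y : ℕ) (ly : List ℕ) (z : ℕ) (lz : List ℕ) (u : ℕ) : Bool :=
  frc (ab u) fun au =>
  allL (fun wx => frc (Nat.add kn.C (Nat.mul x wx)) fun P1 => frc (Nat.add kn.W wx) fun Q1 =>
    allL (fun wy => frc (Nat.add P1 (Nat.mul y wy)) fun P2 => frc (Nat.add Q1 wy) fun Q2 =>
      allL (fun wz => frc (Nat.add P2 (Nat.mul z wz)) fun P => frc (Nat.mul 100000000 (Nat.add Q2 wz)) fun Q =>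
        frc (Nat.add (Nat.sub P Q) (Nat.sub Q P)) fun n =>
        cond (Nat.beq (Nat.mod n au) 0) (frc (Nat.div n au) fun wu =>
          cond (Nat.beq (Nat.add P (Nat.mul u wu)) (Nat.add Q (Nat.mul 100000000 wu)))
            (cond (Nat.beq (Nat.add kn.C2 (Nat.add (Nat.mul x (Nat.mul wx wx)) (Nat.add (Nat.mul y (Nat.mul wy wy))
                (Nat.add (Nat.mul z (Nat.mul wz wz)) (Nat.mul u (Nat.mul wu wu))))))
                (Nat.mul 100000000 (Nat.add kn.W2 (Nat.add (Nat.mul wx wx) (Nat.add (Nat.mul wy wy)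
                (Nat.add (Nat.mul wz wz) (Nat.mul wu wu)))))))
              (tst T x wx y wy z wz u wu) true) true) true) lz) ly) lx

theorem slv_spec {T : Tst} {kn : KD} {x : ℕ} {lx : List ℕ} {y : ℕ} {ly : List ℕ} {z : ℕ} {lz : List ℕ} {u : ℕ}
    (h : slv T kn x lx y ly z lz u = true) {wx wy wz wu : ℕ} (hx : wx ∈ lx) (hy : wy ∈ ly) (hz : wz ∈ lz)
    (hu : u ≠ 100000000)
    (e1 : kn.C + (x * wx + (y * wy + (z * wz + u * wu))) = 100000000 * (kn.W + (wx + (wy + (wz + wu)))))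
    (e2 : kn.C2 + (x * (wx * wx) + (y * (wy * wy) + (z * (wz * wz) + u * (wu * wu)))) =
      100000000 * (kn.W2 + (wx * wx + (wy * wy + (wz * wz + wu * wu))))) : Res T x wx y wy z wz u wu := by
  unfold slv at h
  simp only [Nat.add_eq, Nat.mul_eq, Nat.sub_eq, frc_eq] at h
  have h1 := allL_iff.1 (allL_iff.1 (allL_iff.1 h wx hx) wy hy) wz hz
  simp only [cond_ft] at h1
  have hab : ab u = (u - 100000000) + (100000000 - u) := rfl
  have hpos : 0 < ab u := by rw [hab]; omega
  have key : kn.C + x * wx + y * wy + z * wz - 100000000 * (kn.W + wx + wy + wz) +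
      (100000000 * (kn.W + wx + wy + wz) - (kn.C + x * wx + y * wy + z * wz)) = ab u * wu := by
    generalize hP : kn.C + x * wx + y * wy + z * wz = P
    generalize hQ : 100000000 * (kn.W + wx + wy + wz) = Q
    have e3 : P + u * wu = Q + 100000000 * wu := by
      rw [← hP, ← hQ]
      calc kn.C + x * wx + y * wy + z * wz + u * wu = kn.C + (x * wx + (y * wy + (z * wz + u * wu))) := by ring
        _ = _ := e1
        _ = _ := by ring
    rcases le_total u 100000000 with h3 | h3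
    · obtain ⟨k, hk⟩ := Nat.exists_eq_add_of_le h3
      have h4 : ab u = k := by rw [hab]; (clear * - h3 hk; omega)
      have h5 : 100000000 * wu = u * wu + k * wu := by rw [← add_mul, ← hk]
      rw [h4]
      (clear * - e1 hP hQ h5; omega)
    · obtain ⟨k, hk⟩ := Nat.exists_eq_add_of_le h3
      have h4 : ab u = k := by rw [hab]; (clear * - hk; omega)
      have h5 : u * wu = 100000000 * wu + k * wu := by rw [← add_mul, ← hk]
      rw [h4]
      (clear * - e1 hP hQ h5; omega)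
  rw [key] at h1
  have h2 := h1 (beq_of_eq (by show ab u * wu % ab u = 0; exact Nat.mul_mod_right _ _))
  have h3 : Nat.div (ab u * wu) (ab u) = wu := by
    show ab u * wu / ab u = wu
    exact Nat.mul_div_cancel_left _ hpos
  rw [h3] at h2
  refine tst_spec (h2 (beq_of_eq ?_) (beq_of_eq e2))
  calc kn.C + x * wx + y * wy + z * wz + u * wu = kn.C + (x * wx + (y * wy + (z * wz + u * wu))) := by ring
    _ = _ := e1
    _ = _ := by ring

def len (l : List ℕ) : ℕ := List.rec 0 (fun _ _ ih => Nat.succ ih) l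

def sel (T : Tst) (kn : KD) (a : ℕ) (la : List ℕ) (b : ℕ) (lb : List ℕ) (c : ℕ) (lc : List ℕ) (r : ℕ) (lr : List ℕ) :
    Bool :=
  frc (len la) fun na => frc (len lb) fun nb => frc (len lc) fun nc => frc (len lr) fun nr =>
    cond (cond (Nat.ble na nr) (cond (Nat.ble nb nr) (Nat.ble nc nr) false) false) (slv T kn a la b lb c lc r)
      (cond (cond (Nat.ble na nc) (Nat.ble nb nc) false) (slv T kn a la b lb r lr c)
        (cond (Nat.ble na nb) (slv T kn a la c lc r lr b) (slv T kn b lb c lc r lr a)))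

theorem sel_spec {T : Tst} {kn : KD} {a : ℕ} {la : List ℕ} {b : ℕ} {lb : List ℕ} {c : ℕ} {lc : List ℕ} {r : ℕ}
    {lr : List ℕ} (h : sel T kn a la b lb c lc r lr = true) {wa wb wc wr : ℕ} (ha : wa ∈ la) (hb : wb ∈ lb)
    (hc : wc ∈ lc) (hr : wr ∈ lr) (na : a ≠ 100000000) (nb : b ≠ 100000000) (nc : c ≠ 100000000) (nr : r ≠ 100000000)
    (e1 : kn.C + (a * wa + (b * wb + (c * wc + r * wr))) = 100000000 * (kn.W + (wa + (wb + (wc + wr)))))
    (e2 : kn.C2 + (a * (wa * wa) + (b * (wb * wb) + (c * (wc * wc) + r * (wr * wr)))) =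
      100000000 * (kn.W2 + (wa * wa + (wb * wb + (wc * wc + wr * wr))))) : Res T a wa b wb c wc r wr := by
  have p1 : kn.C + (a * wa + (b * wb + (r * wr + c * wc))) = 100000000 * (kn.W + (wa + (wb + (wr + wc)))) := by omega
  have p2 : kn.C + (a * wa + (c * wc + (r * wr + b * wb))) = 100000000 * (kn.W + (wa + (wc + (wr + wb)))) := by (clear * - e1; omega)
  have p3 : kn.C + (b * wb + (c * wc + (r * wr + a * wa))) = 100000000 * (kn.W + (wb + (wc + (wr + wa)))) := by (clear * - e1; omega)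
  have q1 : kn.C2 + (a * (wa * wa) + (b * (wb * wb) + (r * (wr * wr) + c * (wc * wc)))) =
      100000000 * (kn.W2 + (wa * wa + (wb * wb + (wr * wr + wc * wc)))) := by (clear * - e2; omega)
  have q2 : kn.C2 + (a * (wa * wa) + (c * (wc * wc) + (r * (wr * wr) + b * (wb * wb)))) =
      100000000 * (kn.W2 + (wa * wa + (wc * wc + (wr * wr + wb * wb)))) := by (clear * - e2; omega)
  have q3 : kn.C2 + (b * (wb * wb) + (c * (wc * wc) + (r * (wr * wr) + a * (wa * wa)))) =
      100000000 * (kn.W2 + (wb * wb + (wc * wc + (wr * wr + wa * wa)))) := by (clear * - e2; omega)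
  unfold sel at h
  simp only [frc_eq] at h
  rcases cond_or h with h | h
  · exact slv_spec h ha hb hc nr e1 e2
  rcases cond_or h with h | h
  · have h3 := slv_spec h ha hb hr nc p1 q1
    exact ⟨by rw [← cnt_swap]; exact h3.a, by rw [← cnt_swap]; exact h3.c, h3.x, h3.y, h3.u, h3.z⟩
  rcases cond_or h with h | h
  · have h3 := slv_spec h ha hc hr nb p2 q2
    exact ⟨by rw [← cnt_rot]; exact h3.a, by rw [← cnt_rot]; exact h3.c, h3.x, h3.u, h3.y, h3.z⟩
  · have h3 := slv_spec h hb hc hr na p3 q3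
    exact ⟨by rw [← cnt_rot4]; exact h3.a, by rw [← cnt_rot4]; exact h3.c, h3.u, h3.x, h3.y, h3.z⟩

/-! ### the whole search -/

def inner (T : Tst) (KN : List KD) (t : List (ℕ × List ℕ)) (a b c r : ℕ) : Bool :=
  withL t a fun la => withL t b fun lb => withL t c fun lc => withL t r fun lr =>
    allL (fun kn => sel T kn a la b lb c lc r lr) KN

/-- admissible degree for the last one -/
def okr (q m : ℕ) (r : ℕ) : Bool := cond (Nat.beq (Nat.mod 64561751654400 (ab r)) 0)
  (cond (Nat.ble (Nat.mul (ab r) (ab r)) 64561751654400) (Nat.beq (Nat.mod (Nat.div m (Nat.pow 2 (Nat.mod (ab r) q))) 2) 1)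
    false) false

def gg (q m : ℕ) (T : Tst) (KN : List KD) (t : List (ℕ × List ℕ)) (a b c r : ℕ) : Bool :=
  cond (okr q m r) (inner T KN t a b c r) true

theorem okr_of {q m r : ℕ} (h1 : ab r ∣ 64561751654400) (h2 : ab r * ab r < 64561751654400)
    (h3 : m / 2 ^ (ab r % q) % 2 = 1) : okr q m r = true := by
  unfold okr
  simp only [cond_tf]
  exact ⟨beq_of_eq (Nat.mod_eq_zero_of_dvd h1), ble_of_le h2.le, beq_of_eq h3⟩

theorem inner_spec {T : Tst} {KN : List KD} {t : List (ℕ × List ℕ)} {rs : ℕ → ℕ → Bool}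
    (ht : ∀ x ∈ t, chkRow rs x.1 x.2 = true) {a b c r : ℤ} (na : a.natAbs < 100000000) (nb : b.natAbs < 100000000)
    (nc : c.natAbs < 100000000) (nr : r.natAbs < 100000000)
    (h : inner T KN t (cd a) (cd b) (cd c) (cd r) = true) {wa wb wc wr : ℤ}
    (ha : Adm a.natAbs wa) (hb : Adm b.natAbs wb) (hc : Adm c.natAbs wc) (hr : Adm r.natAbs wr)
    (ra : rs a.natAbs (wa + 3510).toNat = true) (rb : rs b.natAbs (wb + 3510).toNat = true)
    (rc : rs c.natAbs (wc + 3510).toNat = true) (rr : rs r.natAbs (wr + 3510).toNat = true) {kn : KD} (hkn : kn ∈ KN)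
    (e1 : (kn.C : ℤ) - 100000000 * kn.W + a * (wa + 3510) + b * (wb + 3510) + c * (wc + 3510) + r * (wr + 3510) = 0)
    (e2 : (kn.C2 : ℤ) - 100000000 * kn.W2 + a * (wa + 3510) ^ 2 + b * (wb + 3510) ^ 2 + c * (wc + 3510) ^ 2 +
      r * (wr + 3510) ^ 2 = 0) :
    Res T (cd a) (wa + 3510).toNat (cd b) (wb + 3510).toNat (cd c) (wc + 3510).toNat (cd r) (wr + 3510).toNat := by
  unfold inner at h
  obtain ⟨la, h1, h⟩ := withL_spec h
  obtain ⟨lb, h2, h⟩ := withL_spec h
  obtain ⟨lc, h3, h⟩ := withL_spec h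
  obtain ⟨lr, h4, h⟩ := withL_spec h
  have h5 := allL_iff.1 h kn hkn
  have k1 := ht _ h1
  have k2 := ht _ h2
  have k3 := ht _ h3
  have k4 := ht _ h4
  simp only [ab_cd na] at k1
  simp only [ab_cd nb] at k2
  simp only [ab_cd nc] at k3
  simp only [ab_cd nr] at k4
  have m1 := chkRow_spec k1 ha ra
  have m2 := chkRow_spec k2 hb rb
  have m3 := chkRow_spec k3 hc rc
  have m4 := chkRow_spec k4 hr rr
  have ba := ha.bd
  have bb := hb.bd
  have bc := hc.bd
  have br := hr.bd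
  have oa := ha.one
  have ob := hb.one
  have oc := hc.one
  have or' := hr.one
  have ca := cd_cast na
  have cb := cd_cast nb
  have cc := cd_cast nc
  have cr := cd_cast nr
  have wa' : (((wa + 3510).toNat : ℕ) : ℤ) = wa + 3510 := Int.toNat_of_nonneg (by (clear * - ba; omega))
  have wb' : (((wb + 3510).toNat : ℕ) : ℤ) = wb + 3510 := Int.toNat_of_nonneg (by (clear * - bb; omega))
  have wc' : (((wc + 3510).toNat : ℕ) : ℤ) = wc + 3510 := Int.toNat_of_nonneg (by (clear * - bc; omega))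
  have wr' : (((wr + 3510).toNat : ℕ) : ℤ) = wr + 3510 := Int.toNat_of_nonneg (by (clear * - br; omega))
  refine sel_spec h5 m1 m2 m3 m4 (by (clear * - oa ca; omega)) (by (clear * - ob cb; omega)) (by (clear * - oc cc; omega)) (by (clear * - or' cr; omega)) ?_ ?_
  · zify
    rw [ca, cb, cc, cr, wa', wb', wc', wr']
    linear_combination e1
  · zify
    rw [ca, cb, cc, cr, wa', wb', wc', wr']
    linear_combination e2

/-- **The search.** -/
theorem search {T : Tst} {KN : List KD} {t : List (ℕ × List ℕ)} {rs : ℕ → ℕ → Bool} {q m : ℕ} {D : List ℕ} {K : ℕ}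
    (hD : D.Pairwise fun x y => ab x < ab y) (ht : ∀ x ∈ t, chkRow rs x.1 x.2 = true)
    (h : tri D K (gg q m T KN t) = true) {S : ℤ} (hK : (K : ℤ) = 400000000 - S) {a b c r : ℤ}
    (na : a.natAbs < 100000000) (nb : b.natAbs < 100000000)
    (nc : c.natAbs < 100000000) (nr : r.natAbs < 100000000) {wa wb wc wr : ℤ}
    (ha : Adm a.natAbs wa) (hb : Adm b.natAbs wb) (hc : Adm c.natAbs wc) (hr : Adm r.natAbs wr)
    (ra : rs a.natAbs (wa + 3510).toNat = true) (rb : rs b.natAbs (wb + 3510).toNat = true)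
    (rc : rs c.natAbs (wc + 3510).toNat = true) (rr : rs r.natAbs (wr + 3510).toNat = true)
    (ma : cd a ∈ D) (mb : cd b ∈ D) (mc : cd c ∈ D) (hab : a.natAbs ≤ b.natAbs) (hbc : b.natAbs ≤ c.natAbs)
    (hm : m / 2 ^ (r.natAbs % q) % 2 = 1) {kn : KD} (hkn : kn ∈ KN)
    (e0 : S + a + b + c + r = 0)
    (e1 : (kn.C : ℤ) - 100000000 * kn.W + a * (wa + 3510) + b * (wb + 3510) + c * (wc + 3510) + r * (wr + 3510) = 0)
    (e2 : (kn.C2 : ℤ) - 100000000 * kn.W2 + a * (wa + 3510) ^ 2 + b * (wb + 3510) ^ 2 + c * (wc + 3510) ^ 2 +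
      r * (wr + 3510) ^ 2 = 0) :
    Res T (cd a) (wa + 3510).toNat (cd b) (wb + 3510).toNat (cd c) (wc + 3510).toNat (cd r) (wr + 3510).toNat := by
  have h1 := tri_spec hD h ma mb mc (by rw [ab_cd na, ab_cd nb]; exact hab) (by rw [ab_cd nb, ab_cd nc]; exact hbc)
  have h2 : K - (cd a + (cd b + cd c)) = cd r := by
    have ca := cd_cast na
    have cb := cd_cast nb
    have cc := cd_cast nc
    have cr := cd_cast nr
    (clear * - hK e0 ca cb cc cr; omega)
  rw [h2] at h1
  unfold gg at h1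
  rw [cond_ft] at h1
  exact inner_spec ht na nb nc nr (h1 (okr_of (by rw [ab_cd nr]; exact hr.dvd) (by rw [ab_cd nr]; exact hr.sq)
    (by rw [ab_cd nr]; exact hm))) ha hb hc hr ra rb rc rr hkn e1 e2

/-! ### the list of the degrees -/

open Cfsg.Agent.SmallSimple.DegreeSearch (divs mem_divs)

/-- the factorization of the order -/
def L : List (ℕ × ℕ) := [(13, 1), (11, 1), (7, 1), (5, 2), (3, 9), (2, 17)]

def bit (m k : ℕ) : Bool := Nat.beq (Nat.mod (Nat.div m (Nat.pow 2 k)) 2) 1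

def chkD (p q m : ℕ) (D : List ℕ) : Bool := allL (fun x => cond (Nat.ble 2 x) (cond (Nat.ble (Nat.mul x x) 64561751654400)
  (cond (bit m (Nat.mod x q)) (cond (cond (Nat.beq (Nat.mod x p) 1) (memN (Nat.add 100000000 x) D) true)
    (cond (Nat.beq (Nat.mod (Nat.add x 1) p) 0) (memN (Nat.sub 100000000 x) D) true) false) true) true) true) (divs L)

theorem chkD_spec {p q m : ℕ} {D : List ℕ} (hp : 1 < p) (h : chkD p q m D = true) {c w : ℤ} (ha : Adm c.natAbs w)
    (hc : c.natAbs < 100000000) (hm : m / 2 ^ (c.natAbs % q) % 2 = 1) (hcp : (p : ℤ) ∣ c - 1) : cd c ∈ D := by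
  unfold chkD at h
  have hd : c.natAbs ∈ divs L := by
    refine mem_divs (by intro x hx; simp only [L, List.mem_cons, List.not_mem_nil, or_false] at hx;
                        rcases hx with rfl | rfl | rfl | rfl | rfl | rfl <;> norm_num) ?_
    have h1 : (L.map fun x => x.1 ^ x.2).prod = 64561751654400 := by decide +kernel
    rw [h1]
    exact ha.dvd
  have h1 := allL_iff.1 h _ hd
  simp only [cond_ft, cond_tf] at h1
  have h2 := h1 (ble_of_le ha.one) (ble_of_le ha.sq.le) (beq_of_eq hm)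
  have hcc := cd_cast hc
  obtain ⟨k, hk⟩ := hcp
  rcases le_total 0 c with h0 | h0
  · have h3 := h2.1 (beq_of_eq (by
      show c.natAbs % p = 1
      have h4 : ((c.natAbs : ℕ) : ℤ) = 1 + p * k := by omega
      have h5 : ((c.natAbs % p : ℕ) : ℤ) = 1 := by
        rw [Int.natCast_mod, h4, Int.add_mul_emod_self_left, Int.emod_eq_of_lt (by norm_num) (by exact_mod_cast hp)]
      exact_mod_cast h5))
    have h6 : Nat.add 100000000 c.natAbs = cd c := by
      show 100000000 + c.natAbs = cd c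
      omega
    rw [h6] at h3
    exact memN_spec h3
  · have h3 := h2.2 (beq_of_eq (by
      show (c.natAbs + 1) % p = 0
      have h4 : ((c.natAbs + 1 : ℕ) : ℤ) = p * (-k) := by
        have : ((c.natAbs : ℕ) : ℤ) = -c := by omega
        push_cast
        rw [← Int.natCast_natAbs, this]
        linear_combination -hk
      have h5 : p ∣ c.natAbs + 1 := by
        have : (p : ℤ) ∣ ((c.natAbs + 1 : ℕ) : ℤ) := ⟨-k, h4⟩
        exact_mod_cast this
      exact Nat.mod_eq_zero_of_dvd h5))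
    have h6 : Nat.sub 100000000 c.natAbs = cd c := by
      show 100000000 - c.natAbs = cd c
      omega
    rw [h6] at h3
    exact memN_spec h3

theorem cnt_one {A x y z u : ℕ} (h : cnt A x y z u = 1) :
    (x = A ∧ y ≠ A ∧ z ≠ A ∧ u ≠ A) ∨ (x ≠ A ∧ y = A ∧ z ≠ A ∧ u ≠ A) ∨ (x ≠ A ∧ y ≠ A ∧ z = A ∧ u ≠ A) ∨
      (x ≠ A ∧ y ≠ A ∧ z ≠ A ∧ u = A) := by
  have hb : ∀ t : ℕ, (cond (Nat.beq t A) 1 0 : ℕ) = if t = A then 1 else 0 := by
    intro t
    by_cases ht : t = A
    · rw [if_pos ht, beq_of_eq ht]; rfl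
    · rw [if_neg ht]
      have : Nat.beq t A = false := by
        cases h1 : Nat.beq t A with
        | true => exact absurd (Nat.eq_of_beq_eq_true h1) ht
        | false => rfl
      rw [this]; rfl
  unfold cnt at h
  simp only [Nat.add_eq, hb] at h
  by_cases h1 : x = A <;> by_cases h2 : y = A <;> by_cases h3 : z = A <;> by_cases h4 : u = A <;>
    simp [h1, h2, h3, h4] at h ⊢

end Cfsg.Agent.H618.LD.Num
end

-- part: H618/LD/Tw
section
/-!
# S4910, row Fi22 (helper618): the eigenvalues of the class of transpositions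
-/

set_option autoImplicit false
set_option linter.unusedSectionVars false

open Cfsg
open scoped ComplexConjugate

namespace Cfsg.Agent.H618.LD.Tw

open Representation

universe u v

section gen

variable {G : Type u} [Group G] [Finite G]

/-- closed under conjugation -/
def Cl (T : Finset G) : Prop := ∀ s ∈ T, ∀ g : G, g * s * g⁻¹ ∈ T

theorem Cl.iff {T : Finset G} (h : Cl T) (g s : G) : g * s * g⁻¹ ∈ T ↔ s ∈ T := by
  constructor
  · intro h1
    have h2 := h _ h1 g⁻¹
    have h3 : g⁻¹ * (g * s * g⁻¹) * g⁻¹⁻¹ = s := by group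
    rwa [h3] at h2
  · intro h1; exact h s h1 g

/-- the eigenvalue -/
noncomputable def om (T : Finset G) (χ : G → ℂ) : ℂ := (∑ s ∈ T, χ s) / χ 1

theorem rep_sum {V : Type v} [AddCommGroup V] [Module ℂ V] [FiniteDimensional ℂ V] (ρ : Representation ℂ G V)
    (h : ρ.IsIrreducible) {T : Finset G} (hT : Cl T) : ∑ s ∈ T, ρ s = om T ρ.character • (1 : Module.End ℂ V) := by
  classical
  have := Fintype.ofFinite G
  have h1 := Characters.Central.sum_classFun_smul ρ h (θ := fun g => if g ∈ T then (1 : ℂ) else 0) (by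
    intro g x
    simp only [hT.iff])
  have h2 : ∑ g, (if g ∈ T then (1 : ℂ) else 0) • ρ g = ∑ s ∈ T, ρ s := by
    rw [← Finset.sum_filter_add_sum_filter_not Finset.univ (fun g : G => g ∈ T)]
    rw [Finset.sum_congr rfl (g := fun g => ρ g) (fun g hg => by rw [if_pos (Finset.mem_filter.1 hg).2, one_smul])]
    rw [Finset.sum_eq_zero (s := Finset.univ.filter fun g : G => ¬ g ∈ T) (fun g hg => by
      rw [if_neg (Finset.mem_filter.1 hg).2, zero_smul]), add_zero]
    congr 1
    ext g; simp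
  have h3 : ∑ g, (if g ∈ T then (1 : ℂ) else 0) * ρ.character g = ∑ s ∈ T, ρ.character s := by
    simp only [ite_mul, one_mul, zero_mul]
    rw [← Finset.sum_filter]
    congr 1
    ext g; simp
  rw [h2, h3] at h1
  exact h1

theorem sum_mul {χ : G → ℂ} (hχ : IsIrrCharacter G χ) {T : Finset G} (hT : Cl T) (h : G) :
    ∑ s ∈ T, χ (s * h) = om T χ * χ h := by
  obtain ⟨n, ρ, hρ, rfl⟩ := hχ
  have h1 := congrArg (fun f : Module.End ℂ (Fin n → ℂ) => LinearMap.trace ℂ _ (f * ρ h)) (rep_sum ρ hρ hT)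
  simp only [Finset.sum_mul, map_sum, smul_mul_assoc, one_mul, map_smul, smul_eq_mul, ← map_mul] at h1
  exact h1

theorem isIntegral_om {χ : G → ℂ} (hχ : IsIrrCharacter G χ) {T : Finset G} (hT : Cl T) : IsIntegral ℤ (om T χ) := by
  classical
  have := Fintype.ofFinite G
  obtain ⟨n, ρ, hρ, rfl⟩ := hχ
  have := hρ
  have h1 := Characters.CentralCharacter.isIntegral_sum_int ρ (fun g => if g ∈ T then (1 : ℤ) else 0) (by
    intro x g
    simp only [hT.iff])
  have h3 : ∑ g, ((if g ∈ T then (1 : ℤ) else 0 : ℤ) : ℂ) * ρ.character g = ∑ s ∈ T, ρ.character s := by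
    have h4 : ∀ g, ((if g ∈ T then (1 : ℤ) else 0 : ℤ) : ℂ) * ρ.character g = if g ∈ T then ρ.character g else 0 := by
      intro g
      split_ifs <;> simp
    rw [Finset.sum_congr rfl fun g _ => h4 g, ← Finset.sum_filter]
    congr 1
    ext g; simp
  rw [h3] at h1
  unfold om
  rwa [Representation.char_one]

/-- the trace of an idempotent -/
theorem trace_idem {V : Type v} [AddCommGroup V] [Module ℂ V] [FiniteDimensional ℂ V] {E : Module.End ℂ V}
    (h : E * E = E) : ∃ m : ℕ, LinearMap.trace ℂ V E = m ∧ m ≤ Module.finrank ℂ V := by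
  have h1 : IsIdempotentElem E := h
  have h2 : LinearMap.IsProj (LinearMap.range E) E := LinearMap.IsIdempotentElem.isProj_range E h1
  exact ⟨_, h2.trace, Submodule.finrank_le _⟩

/-- two commuting involutions -/
theorem commuting {χ : G → ℂ} (hχ : IsIrrCharacter G χ) {a b : G} (ha : a * a = 1) (hb : b * b = 1)
    (hab : a * b = b * a) : ∃ n₀ n₃ : ℕ, χ a + χ b = 2 * ((n₀ : ℂ) - n₃) ∧ χ (a * b) = 2 * (n₀ + n₃) - χ 1 ∧
      ((n₀ : ℂ) + n₃ = ((n₀ + n₃ : ℕ) : ℂ)) ∧ ∃ d : ℕ, χ 1 = d ∧ n₀ + n₃ ≤ d := by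
  obtain ⟨n, ρ, hρ, rfl⟩ := hχ
  set A := ρ a with hA
  set B := ρ b with hB
  have hA2 : A * A = 1 := by rw [hA, ← map_mul, ha, map_one]
  have hB2 : B * B = 1 := by rw [hB, ← map_mul, hb, map_one]
  have hAB : A * B = B * A := by rw [hA, hB, ← map_mul, hab, map_mul]
  have hABAB : A * B * (A * B) = 1 := by
    calc A * B * (A * B) = A * (B * A) * B := by simp only [mul_assoc]
      _ = A * (A * B) * B := by rw [hAB]
      _ = (A * A) * (B * B) := by simp only [mul_assoc]
      _ = 1 := by rw [hA2, hB2, mul_one]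
  have e1 : A * (A * B) = B := by rw [← mul_assoc, hA2, one_mul]
  have e2 : B * (A * B) = A := by rw [hAB, ← mul_assoc, hB2, one_mul]
  have e3 : A * B * A = B := by rw [hAB, mul_assoc, hA2, mul_one]
  have e4 : A * B * B = A := by rw [mul_assoc, hB2, mul_one]
  have tA : LinearMap.trace ℂ _ A = ρ.character a := rfl
  have tB : LinearMap.trace ℂ _ B = ρ.character b := rfl
  have tAB : LinearMap.trace ℂ _ (A * B) = ρ.character (a * b) := by
    rw [hA, hB, ← map_mul]; rfl
  have t1 : LinearMap.trace ℂ _ (1 : Module.End ℂ (Fin n → ℂ)) = ρ.character 1 := by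
    rw [← map_one ρ]; rfl
  obtain ⟨n₀, h1, -⟩ := trace_idem (E := (1/4 : ℂ) • (1 + A + B + A * B)) (by
    simp only [smul_mul_assoc, mul_smul_comm, smul_smul, add_mul, mul_add, one_mul, mul_one, hA2, hB2, hABAB, ← hAB,
      e1, e2, e3, e4]
    module)
  obtain ⟨n₃, h2, -⟩ := trace_idem (E := (1/4 : ℂ) • (1 - A - B + A * B)) (by
    simp only [smul_mul_assoc, mul_smul_comm, smul_smul, add_mul, mul_add, sub_mul, mul_sub, one_mul, mul_one, hA2, hB2,
      hABAB, ← hAB, e1, e2, e3, e4]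
    module)
  obtain ⟨m, h3, h4⟩ := trace_idem (E := (1/2 : ℂ) • (1 + A * B)) (by
    simp only [smul_mul_assoc, mul_smul_comm, smul_smul, add_mul, mul_add, one_mul, mul_one, hABAB]
    module)
  simp only [map_smul, map_add, map_sub, tA, tB, tAB, t1, smul_eq_mul] at h1 h2 h3
  have h5 : (m : ℂ) = ((n₀ + n₃ : ℕ) : ℂ) := by
    push_cast
    rw [← h1, ← h2, ← h3]; ring
  have h6 : m = n₀ + n₃ := by exact_mod_cast h5
  refine ⟨n₀, n₃, ?_, ?_, by push_cast; rfl, Module.finrank ℂ (Fin n → ℂ), Representation.char_one ρ, h6 ▸ h4⟩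
  · rw [← h1, ← h2]; ring
  · rw [← h1, ← h2]; ring

/-- the table of `S₃` -/
theorem table {R : Type v} [Ring R] [Algebra ℂ R] {A B C X Y : R} (hA2 : A * A = 1) (hB2 : B * B = 1)
    (hX : A * B = X) (hY : B * A = Y) (hC : X * A = C) (hC' : Y * B = C) :
    ((1/6 : ℂ) • (1 + A + B + C + X + Y)) * ((1/6 : ℂ) • (1 + A + B + C + X + Y)) = (1/6 : ℂ) • (1 + A + B + C + X + Y) ∧
    ((1/6 : ℂ) • (1 - A - B - C + X + Y)) * ((1/6 : ℂ) • (1 - A - B - C + X + Y)) = (1/6 : ℂ) • (1 - A - B - C + X + Y) ∧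
    ((1/3 : ℂ) • (1 + X + Y)) * ((1/3 : ℂ) • (1 + X + Y)) = (1/3 : ℂ) • (1 + X + Y) := by
  have k1 : A * X = B := by rw [← hX, ← mul_assoc, hA2, one_mul]
  have k2 : A * Y = C := by rw [← hY, ← mul_assoc, hX, hC]
  have k3 : A * C = Y := by rw [← hC, ← mul_assoc, k1, hY]
  have k5 : B * Y = A := by rw [← hY, ← mul_assoc, hB2, one_mul]
  have k4 : B * X = C := by rw [← hX, ← mul_assoc, hY, hC']
  have k6 : B * C = X := by rw [← hC', ← mul_assoc, k5, hX]
  have k8 : X * B = A := by rw [← hX, mul_assoc, hB2, mul_one]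
  have k9 : Y * A = B := by rw [← hY, mul_assoc, hA2, mul_one]
  have k11 : C * A = X := by rw [← hC, mul_assoc, hA2, mul_one]
  have k12 : C * B = Y := by rw [← hC', mul_assoc, hB2, mul_one]
  have k13 : X * X = Y := by
    calc X * X = (X * A) * B := by rw [mul_assoc, hX]
      _ = Y := by rw [hC, k12]
  have k14 : Y * Y = X := by
    calc Y * Y = (Y * B) * A := by rw [mul_assoc, hY]
      _ = X := by rw [hC', k11]
  have k15 : X * Y = 1 := by
    calc X * Y = (X * B) * A := by rw [mul_assoc, hY]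
      _ = 1 := by rw [k8, hA2]
  have k16 : Y * X = 1 := by
    calc Y * X = (Y * A) * B := by rw [mul_assoc, hX]
      _ = 1 := by rw [k9, hB2]
  have k18 : C * X = A := by
    calc C * X = (C * A) * B := by rw [mul_assoc, hX]
      _ = A := by rw [k11, k8]
  have k19 : C * Y = B := by
    calc C * Y = (C * B) * A := by rw [mul_assoc, hY]
      _ = B := by rw [k12, k9]
  have k17 : C * C = 1 := by
    calc C * C = (C * X) * A := by rw [mul_assoc, hC]
      _ = 1 := by rw [k18, hA2]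
  have k20 : X * C = B := by
    calc X * C = (X * X) * A := by rw [mul_assoc, hC]
      _ = B := by rw [k13, k9]
  have k21 : Y * C = A := by
    calc Y * C = (Y * X) * A := by rw [mul_assoc, hC]
      _ = A := by rw [k16, one_mul]
  refine ⟨?_, ?_, ?_⟩
  · simp only [smul_mul_assoc, mul_smul_comm, smul_smul, add_mul, mul_add, one_mul, mul_one, hA2, hB2, hX, hY, hC, hC',
      k1, k2, k3, k4, k5, k6, k8, k9, k11, k12, k13, k14, k15, k16, k17, k18, k19, k20, k21]
    module
  · simp only [smul_mul_assoc, mul_smul_comm, smul_smul, add_mul, mul_add, sub_mul, mul_sub, one_mul, mul_one, hA2, hB2,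
      hX, hY, hC, hC', k1, k2, k3, k4, k5, k6, k8, k9, k11, k12, k13, k14, k15, k16, k17, k18, k19, k20, k21]
    module
  · simp only [smul_mul_assoc, mul_smul_comm, smul_smul, add_mul, mul_add, one_mul, mul_one, k13, k14, k15, k16]
    module

/-- two involutions generating `S₃` -/
theorem noncommuting {χ : G → ℂ} (hχ : IsIrrCharacter G χ) {a b : G} (ha : a * a = 1) (hb : b * b = 1)
    (hab : a * b * a = b * a * b) : ∃ m₁ m₂ : ℕ, χ a + χ b + χ (a * b * a) = 3 * ((m₁ : ℂ) - m₂) ∧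
      χ (a * b) + χ (b * a) = 3 * (m₁ + m₂) - χ 1 ∧ ∃ d : ℕ, χ 1 = d ∧ m₁ + m₂ ≤ d := by
  obtain ⟨n, ρ, hρ, rfl⟩ := hχ
  obtain ⟨t1, t2, t3⟩ := table (A := ρ a) (B := ρ b) (C := ρ (a * b * a)) (X := ρ (a * b)) (Y := ρ (b * a))
    (by rw [← map_mul, ha, map_one]) (by rw [← map_mul, hb, map_one]) (map_mul _ _ _).symm (map_mul _ _ _).symm
    (map_mul _ _ _).symm (by rw [hab]; exact (map_mul _ _ _).symm)
  obtain ⟨m₁, h1, -⟩ := trace_idem t1
  obtain ⟨m₂, h2, -⟩ := trace_idem t2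
  obtain ⟨m, h3, h4⟩ := trace_idem t3
  have tr : ∀ g, LinearMap.trace ℂ _ (ρ g) = ρ.character g := fun _ => rfl
  have tr1 : LinearMap.trace ℂ _ (1 : Module.End ℂ (Fin n → ℂ)) = ρ.character 1 := by
    rw [← map_one ρ]; rfl
  simp only [map_smul, map_add, map_sub, tr, tr1, smul_eq_mul] at h1 h2 h3
  have h5 : (m : ℂ) = ((m₁ + m₂ : ℕ) : ℂ) := by
    push_cast
    rw [← h1, ← h2, ← h3]; ring
  have h6 : m = m₁ + m₂ := by exact_mod_cast h5
  refine ⟨m₁, m₂, ?_, ?_, Module.finrank ℂ (Fin n → ℂ), Representation.char_one ρ, h6 ▸ h4⟩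
  · rw [← h1, ← h2]; ring
  · rw [← h1, ← h2]; ring

theorem even_sub {χ : G → ℂ} (hχ : IsIrrCharacter G χ) {a : G} (ha : a * a = 1) : ∃ m : ℕ, χ 1 - χ a = 2 * m := by
  obtain ⟨n, ρ, hρ, rfl⟩ := hχ
  have hA2 : ρ a * ρ a = 1 := by rw [← map_mul, ha, map_one]
  obtain ⟨m, h1, -⟩ := trace_idem (E := (1/2 : ℂ) • (1 - ρ a)) (by
    simp only [smul_mul_assoc, mul_smul_comm, smul_smul, sub_mul, mul_sub, one_mul, mul_one, hA2]
    module)
  have tr : ∀ g, LinearMap.trace ℂ _ (ρ g) = ρ.character g := fun _ => rfl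
  have tr1 : LinearMap.trace ℂ _ (1 : Module.End ℂ (Fin n → ℂ)) = ρ.character 1 := by
    rw [← map_one ρ]; rfl
  simp only [map_smul, map_sub, tr, tr1, smul_eq_mul] at h1
  exact ⟨m, by rw [← h1]; ring⟩

/-- an involution acting as a scalar commutes with everything -/
theorem comm_rep {n : ℕ} (ρ : Representation ℂ G (Fin n → ℂ)) {a : G} (ha : a * a = 1)
    (h : ρ.character a = ρ.character 1 ∨ ρ.character a = - ρ.character 1) {g : G} : ρ (g * a * g⁻¹ * a⁻¹) = 1 := by
  have hA2 : ρ a * ρ a = 1 := by rw [← map_mul, ha, map_one]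
  have tr : ∀ g, LinearMap.trace ℂ _ (ρ g) = ρ.character g := fun _ => rfl
  have tr1 : LinearMap.trace ℂ _ (1 : Module.End ℂ (Fin n → ℂ)) = ρ.character 1 := by
    rw [← map_one ρ]; rfl
  have key : ρ a = 1 ∨ ρ a = (-1 : ℂ) • (1 : Module.End ℂ (Fin n → ℂ)) := by
    rcases h with h | h
    · left
      have hid : IsIdempotentElem ((1/2 : ℂ) • (1 - ρ a)) := by
        show ((1/2 : ℂ) • (1 - ρ a)) * ((1/2 : ℂ) • (1 - ρ a)) = _
        simp only [smul_mul_assoc, mul_smul_comm, smul_smul, sub_mul, mul_sub, one_mul, mul_one, hA2]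
        module
      have h1 := LinearMap.IsIdempotentElem.eq_zero_of_trace_eq_zero hid (by
        simp only [map_smul, map_sub, tr, tr1, smul_eq_mul]
        rw [h, sub_self, mul_zero])
      have h2 : (1 : Module.End ℂ (Fin n → ℂ)) - ρ a = 0 := by
        have h3 := congrArg (fun f => (2 : ℂ) • f) h1
        simp only [smul_smul, smul_zero] at h3
        norm_num only [_root_.one_smul] at h3
        exact h3
      exact (sub_eq_zero.1 h2).symm
    · right
      have hid : IsIdempotentElem ((1/2 : ℂ) • (1 + ρ a)) := by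
        show ((1/2 : ℂ) • (1 + ρ a)) * ((1/2 : ℂ) • (1 + ρ a)) = _
        simp only [smul_mul_assoc, mul_smul_comm, smul_smul, add_mul, mul_add, one_mul, mul_one, hA2]
        module
      have h1 := LinearMap.IsIdempotentElem.eq_zero_of_trace_eq_zero hid (by
        simp only [map_smul, map_add, tr, tr1, smul_eq_mul]
        rw [h, add_neg_cancel, mul_zero])
      have h2 : (1 : Module.End ℂ (Fin n → ℂ)) + ρ a = 0 := by
        have h3 := congrArg (fun f => (2 : ℂ) • f) h1
        simp only [smul_smul, smul_zero] at h3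
        norm_num only [_root_.smul_add, _root_.one_smul] at h3
        exact h3
      calc ρ a = (1 + ρ a) + (-1 : ℂ) • (1 : Module.End ℂ (Fin n → ℂ)) := by module
        _ = _ := by rw [h2, zero_add]
  have hainv : a⁻¹ = a := inv_eq_of_mul_eq_one_right ha
  rw [hainv, map_mul, map_mul, map_mul]
  rcases key with h4 | h4
  · rw [h4, mul_one, mul_one, ← map_mul, mul_inv_cancel, map_one]
  · rw [h4]
    simp only [mul_smul_comm, smul_mul_assoc, smul_smul, mul_one, ← map_mul, mul_inv_cancel, map_one]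
    norm_num

end gen

/-! ### the class of transpositions -/

section ctx

open Cfsg.Agent.LThreeFi22

variable {G : Type u} [Group G] {T : Set G}

/-- the class as a finset -/
noncomputable def TF [Finite G] (T : Set G) : Finset G := T.toFinite.toFinset

theorem mem_TF [Finite G] {s : G} : s ∈ TF T ↔ s ∈ T := Set.Finite.mem_toFinset _

theorem cl [Finite G] (C : Ctx G T) : Cl (TF T) := fun s hs g => mem_TF.2 (C.conj s (mem_TF.1 hs) g)

theorem card_TF [Finite G] (C : Ctx G T) : (TF T).card = 3510 := by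
  rw [← C.ncard, Set.ncard_eq_toFinset_card T T.toFinite]
  rfl

theorem exists_far [Finite G] (C : Ctx G T) {a : G} (ha : a ∈ T) : ∃ b ∈ T, a * b ≠ b * a := by
  have h := C.far ha
  have h1 : {e | e ∈ T ∧ a * e ≠ e * a}.Nonempty := by
    rw [← Set.ncard_pos, h]; norm_num
  exact h1

theorem exists_near [Finite G] (C : Ctx G T) {a : G} (ha : a ∈ T) : ∃ b ∈ T, b ≠ a ∧ a * b = b * a := by
  have h := C.link a ha
  have h1 : {c | c ∈ T ∧ c ≠ a ∧ a * c = c * a}.Nonempty := by
    rw [← Set.ncard_pos, h]; norm_num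
  exact h1

theorem isConj [Finite G] (C : Ctx G T) {a b : G} (ha : a ∈ T) (hb : b ∈ T) : ∃ g : G, g * a * g⁻¹ = b := by
  obtain ⟨a', ha', h1⟩ := exists_far C ha
  obtain ⟨b', hb', h2⟩ := exists_far C hb
  obtain ⟨g, h3, -⟩ := C.transN a ha a' ha' b hb b' hb' h1 h2
  exact ⟨g, h3⟩

theorem val_eq [Finite G] (C : Ctx G T) {χ : G → ℂ} (hχ : IsClassFunction G χ) {a b : G} (ha : a ∈ T) (hb : b ∈ T) :
    χ a = χ b := by
  obtain ⟨g, rfl⟩ := isConj C ha hb
  rw [hχ]

/-- the sum over the products with a transposition -/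
theorem sum_prod [Finite G] (C : Ctx G T) {χ : G → ℂ} (hχ : IsClassFunction G χ) {a b c : G} (ha : a ∈ T) (hb : b ∈ T)
    (hc : c ∈ T) (hba : b ≠ a) (hab : a * b = b * a) (hac : a * c ≠ c * a) :
    ∑ s ∈ TF T, χ (s * a) = χ 1 + 693 * χ (a * b) + 2816 * χ (a * c) := by
  classical
  have e0 : TF T = {a} ∪ ((TF T).filter fun s => s ≠ a ∧ a * s = s * a) ∪ ((TF T).filter fun s => a * s ≠ s * a) := by
    ext s
    simp only [Finset.mem_union, Finset.mem_singleton, Finset.mem_filter]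
    constructor
    · intro hs
      by_cases h1 : a * s = s * a
      · by_cases h2 : s = a
        · exact Or.inl (Or.inl h2)
        · exact Or.inl (Or.inr ⟨hs, h2, h1⟩)
      · exact Or.inr ⟨hs, h1⟩
    · rintro ((rfl | h) | h)
      · exact mem_TF.2 ha
      · exact h.1
      · exact h.1
  have c1 : ((TF T).filter fun s => s ≠ a ∧ a * s = s * a).card = 693 := by
    rw [← C.link a ha, ← Set.ncard_coe_finset]
    congr 1
    ext s
    simp only [mem_TF, _root_.ne_eq, _root_.Finset.coe_filter, _root_.Set.sep_and, _root_.Set.mem_inter_iff, _root_.Set.mem_ofPred_eq]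
  have c2 : ((TF T).filter fun s => a * s ≠ s * a).card = 2816 := by
    rw [← C.far ha, ← Set.ncard_coe_finset]
    congr 1
    ext s
    simp only [mem_TF, _root_.ne_eq, _root_.Finset.coe_filter, _root_.Set.mem_ofPred_eq]
  have d1 : Disjoint ({a} : Finset G) ((TF T).filter fun s => s ≠ a ∧ a * s = s * a) := by
    rw [Finset.disjoint_singleton_left, Finset.mem_filter]
    exact fun h => h.2.1 rfl
  have d2 : Disjoint ({a} ∪ ((TF T).filter fun s => s ≠ a ∧ a * s = s * a)) ((TF T).filter fun s => a * s ≠ s * a) := by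
    rw [Finset.disjoint_left]
    intro s hs hs'
    rw [Finset.mem_filter] at hs'
    rw [Finset.mem_union, Finset.mem_singleton, Finset.mem_filter] at hs
    rcases hs with rfl | hs
    · exact hs'.2 rfl
    · exact hs'.2 hs.2.2
  have k1 : ∀ s ∈ (TF T).filter (fun s => s ≠ a ∧ a * s = s * a), χ (s * a) = χ (a * b) := by
    intro s hs
    rw [Finset.mem_filter, mem_TF] at hs
    obtain ⟨g, h1, h2⟩ := C.transC a ha s hs.1 a ha b hb hs.2.1.symm hba.symm hs.2.2 hab
    have h3 : a * b = g * (a * s) * g⁻¹ := by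
      calc a * b = (g * a * g⁻¹) * (g * s * g⁻¹) := by rw [h1, h2]
        _ = _ := by group
    rw [h3, hχ, hs.2.2]
  have k2 : ∀ s ∈ (TF T).filter (fun s => a * s ≠ s * a), χ (s * a) = χ (a * c) := by
    intro s hs
    rw [Finset.mem_filter, mem_TF] at hs
    obtain ⟨g, h1, h2⟩ := C.transN a ha s hs.1 a ha c hc hs.2 hac
    have h3 : a * c = g * (a * s) * g⁻¹ := by
      calc a * c = (g * a * g⁻¹) * (g * s * g⁻¹) := by rw [h1, h2]
        _ = _ := by group
    have h4 : s * a = a⁻¹ * (a * s) * a⁻¹⁻¹ := by group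
    rw [h3, hχ, h4, hχ]
  rw [e0, Finset.sum_union d2, Finset.sum_union d1, Finset.sum_singleton, Finset.sum_congr rfl k1,
    Finset.sum_congr rfl k2, Finset.sum_const, Finset.sum_const, c1, c2, C.sq a ha]
  simp only [nsmul_eq_mul]
  push_cast
  ring

end ctx

end Cfsg.Agent.H618.LD.Tw
end

-- part: H618/LD/Ev
section
/-!
# S4910, row Fi22 (helper618): the eigenvalues of the class of transpositions, numerical facts
-/

set_option autoImplicit false
set_option linter.unusedSectionVars false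

open Cfsg
open scoped ComplexConjugate

namespace Cfsg.Agent.H618.LD.Ev

open Cfsg.Agent.LThreeFi22 Cfsg.Agent.H618.LD.Tw Cfsg.Agent.H618.LD.Num

universe u

variable {G : Type u} [Group G] {T : Set G}

/-- the facts on one character -/
theorem facts [Finite G] (C : Ctx G T) {χ : G → ℂ} (hχ : IsIrrCharacter G χ) {a : G} (ha : a ∈ T) :
    ∃ (v w : ℤ) (d s r : ℕ), χ 1 = d ∧ χ a = v ∧ om (TF T) χ = w ∧ 0 < d ∧ w * d = 3510 * v ∧
      v.natAbs ≤ s ∧ s ≤ d ∧ v.natAbs ≤ r ∧ r ≤ d ∧ (2 : ℤ) ∣ s - v ∧ (2 : ℤ) ∣ r - v ∧ (2 : ℤ) ∣ d - v ∧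
      w * v + 2100 * d = 1386 * s + 4224 * r := by
  classical
  have hcf := Characters.Core.isIrr_isClassFunction hχ
  obtain ⟨b, hb, hba, hab⟩ := exists_near C ha
  obtain ⟨c, hc, hac⟩ := exists_far C ha
  have hac3 : a * c * a = c * a * c := (C.three a ha c hc).resolve_left hac
  obtain ⟨n₀, n₃, h1, h2, -, d, hd, h3⟩ := commuting hχ (C.sq a ha) (C.sq b hb) hab
  obtain ⟨m₁, m₂, h4, h5, d', hd', h6⟩ := noncommuting hχ (C.sq a ha) (C.sq c hc) hac3
  have hdd : d' = d := by
    have : (d' : ℂ) = d := by rw [← hd', hd]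
    exact_mod_cast this
  subst hdd
  obtain ⟨k, h7⟩ := even_sub hχ (C.sq a ha)
  have vb := val_eq C hcf hb ha
  have vc := val_eq C hcf hc ha
  have haca : a * c * a ∈ T := by
    have := C.conj c hc a
    rwa [C.inv ha] at this
  have vaca := val_eq C hcf haca ha
  have hcaac : χ (c * a) = χ (a * c) := by
    have h8 : c * a = a⁻¹ * (a * c) * a⁻¹⁻¹ := by group
    rw [h8, hcf]
  have hv : χ a = ((n₀ : ℤ) - n₃ : ℤ) := by
    push_cast
    rw [vb] at h1
    linear_combination (1/2 : ℂ) * h1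
  have hv' : χ a = ((m₁ : ℤ) - m₂ : ℤ) := by
    push_cast
    rw [vc, vaca] at h4
    linear_combination (1/3 : ℂ) * h4
  have hvv : (n₀ : ℤ) - n₃ = m₁ - m₂ := by
    have := hv.symm.trans hv'
    exact_mod_cast this
  have hdk : (d' : ℤ) - ((n₀ : ℤ) - n₃) = 2 * k := by
    rw [hd, hv] at h7
    exact_mod_cast h7
  have hd0 : (d' : ℂ) ≠ 0 := by
    rw [← hd]
    obtain ⟨n, ρ, hρ, rfl⟩ := hχ
    exact Characters.Central.char_one_ne_zero ρ hρ
  have hd0' : 0 < d' := Nat.pos_of_ne_zero (by exact_mod_cast hd0)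
  -- the eigenvalue
  have hsum : ∑ s ∈ TF T, χ s = 3510 * χ a := by
    rw [Finset.sum_congr rfl (g := fun _ => χ a) (fun s hs => val_eq C hcf (mem_TF.1 hs) ha), Finset.sum_const,
      card_TF C, nsmul_eq_mul]
    push_cast
    rfl
  have hom : om (TF T) χ = 3510 * ((n₀ : ℤ) - n₃ : ℤ) / (d' : ℂ) := by
    unfold om
    rw [hsum, hv, hd]
  obtain ⟨w, hw⟩ := Characters.GaloisBasic.exists_int_of_isIntegral (isIntegral_om hχ (cl C))
    ⟨3510 * ((n₀ : ℤ) - n₃ : ℤ) / (d' : ℚ), by rw [hom]; push_cast; rfl⟩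
  have hwd : w * d' = 3510 * ((n₀ : ℤ) - n₃) := by
    rw [hw] at hom
    rw [eq_div_iff hd0] at hom
    exact_mod_cast hom
  have hprod := sum_prod C hcf ha hb hc hba hab hac
  rw [sum_mul hχ (cl C), hw, hv, hd] at hprod
  rw [hcaac, hd] at h5
  rw [hd] at h2
  have hfin : (w * ((n₀ : ℤ) - n₃) + 2100 * d' : ℤ) = 1386 * ((n₀ + n₃ : ℕ) : ℤ) + 4224 * ((m₁ + m₂ : ℕ) : ℤ) := by
    have h9 : ((w * ((n₀ : ℤ) - n₃) + 2100 * d' : ℤ) : ℂ) = ((1386 * ((n₀ + n₃ : ℕ) : ℤ) + 4224 * ((m₁ + m₂ : ℕ) : ℤ) : ℤ) : ℂ) := by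
      push_cast
      push_cast at hprod
      linear_combination hprod + 693 * h2 + 1408 * h5
    exact_mod_cast h9
  refine ⟨(n₀ : ℤ) - n₃, w, d', n₀ + n₃, m₁ + m₂, hd, hv, hw, hd0', hwd, by omega, h3, by omega, h6, ?_, ?_, ?_, hfin⟩
  · exact ⟨n₃, by push_cast; ring⟩
  · exact ⟨m₂, by rw [hvv]; push_cast; ring⟩
  · exact ⟨k, hdk⟩

/-- the eigenvalue -/
noncomputable def ww [Finite G] (T : Set G) (χ : G → ℂ) : ℤ := ⌊(om (TF T) χ).re⌋

theorem ww_cast [Finite G] (C : Ctx G T) {χ : G → ℂ} (hχ : IsIrrCharacter G χ) : om (TF T) χ = (ww T χ : ℂ) := by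
  obtain ⟨a, ha, -⟩ := C.mupos
  obtain ⟨v, w, d, s, r, -, -, hw, -⟩ := facts C hχ ha
  unfold ww
  rw [hw]
  simp

theorem charDegree_cast {χ : G → ℂ} [Finite G] (hχ : IsIrrCharacter G χ) : χ 1 = (charDegree χ : ℂ) :=
  Blocks.Basic.irr_one_eq_charDegree hχ

/-- `χ(t) d w` -/
theorem exists_v [Finite G] (C : Ctx G T) {χ : G → ℂ} (hχ : IsIrrCharacter G χ) : ∃ (v : ℤ) (s r : ℕ),
    (∀ a ∈ T, χ a = v) ∧ 0 < charDegree χ ∧ ww T χ * charDegree χ = 3510 * v ∧
      v.natAbs ≤ s ∧ s ≤ charDegree χ ∧ v.natAbs ≤ r ∧ r ≤ charDegree χ ∧ (2 : ℤ) ∣ s - v ∧ (2 : ℤ) ∣ r - v ∧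
      (2 : ℤ) ∣ charDegree χ - v ∧ ww T χ * v + 2100 * charDegree χ = 1386 * s + 4224 * r := by
  obtain ⟨a, ha, -⟩ := C.mupos
  obtain ⟨v, w, d, s, r, h1, h2, h3, h4, h5, h6, h7, h8, h9, h10, h11, h12, h13⟩ := facts C hχ ha
  have e1 : charDegree χ = d := by
    have := charDegree_cast hχ
    rw [h1] at this
    exact_mod_cast this.symm
  have e2 : ww T χ = w := by
    have := ww_cast C hχ
    rw [h3] at this
    exact_mod_cast this.symm
  rw [e1, e2]
  exact ⟨v, s, r, fun b hb => by rw [val_eq C (Characters.Core.isIrr_isClassFunction hχ) hb ha, h2], h4, h5, h6, h7, h8,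
    h9, h10, h11, h12, h13⟩

theorem sum_sq [Finite G] {χ : IrrCharacter G} (hχ : charDegree (χ : G → ℂ) ≠ 1) :
    charDegree (χ : G → ℂ) * charDegree (χ : G → ℂ) < Nat.card G := by
  classical
  have := Fintype.ofFinite G
  have : Finite (IrrCharacter G) := Characters.Core.finite_irr
  have := Fintype.ofFinite (IrrCharacter G)
  have h3 := SmallSimple.DegreeData.sum_sq (G := G)
  let one : IrrCharacter G := ⟨1, Characters.Core.isIrr_one⟩
  have hd1 : charDegree (one : G → ℂ) = 1 := by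
    have := charDegree_cast one.2
    have h4 : (one : G → ℂ) 1 = 1 := rfl
    rw [h4] at this
    exact_mod_cast this.symm
  have hne : χ ≠ one := fun h => hχ (by rw [h, hd1])
  have h4 : ∑ ψ ∈ ({χ, one} : Finset (IrrCharacter G)), charDegree (ψ : G → ℂ) ^ 2 ≤ Nat.card G := by
    rw [← h3]
    exact Finset.sum_le_sum_of_subset_of_nonneg (Finset.subset_univ _) fun _ _ _ => by positivity
  rw [Finset.sum_pair hne, hd1] at h4
  linarith only [h4]

theorem sq_le [Finite G] {χ : IrrCharacter G} {a : G} {v : ℤ} (h : (χ : G → ℂ) a = v) :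
    v * v ≤ Nat.card (Subgroup.centralizer ({a} : Set G)) := by
  classical
  have := Fintype.ofFinite G
  have : Finite (IrrCharacter G) := Characters.Core.finite_irr
  have := Fintype.ofFinite (IrrCharacter G)
  have h1 := S0145.sum_irr_mul_conj a a
  rw [if_pos (IsConj.refl a)] at h1
  have h2 : ∑ χ : IrrCharacter G, Complex.normSq ((χ : G → ℂ) a) = (Nat.card (Subgroup.centralizer ({a} : Set G)) : ℝ) := by
    have h3 : ∀ χ : IrrCharacter G, (χ : G → ℂ) a * conj ((χ : G → ℂ) a) = (Complex.normSq ((χ : G → ℂ) a) : ℂ) :=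
      fun χ => Complex.mul_conj _
    rw [Finset.sum_congr rfl fun χ _ => h3 χ, ← Complex.ofReal_sum] at h1
    exact_mod_cast h1
  have h3 : Complex.normSq ((χ : G → ℂ) a) ≤ (Nat.card (Subgroup.centralizer ({a} : Set G)) : ℝ) := by
    rw [← h2]
    exact Finset.single_le_sum (f := fun χ : IrrCharacter G => Complex.normSq ((χ : G → ℂ) a))
      (fun _ _ => Complex.normSq_nonneg _) (Finset.mem_univ χ)
  rw [h] at h3
  have h4 : Complex.normSq (v : ℂ) = ((v * v : ℤ) : ℝ) := by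
    rw [← Complex.ofReal_intCast, Complex.normSq_ofReal]
    push_cast; ring
  rw [h4] at h3
  exact_mod_cast h3

/-- `|χ(t)| < χ(1)` -/
theorem natAbs_lt [Finite G] [IsSimpleGroup G] (C : Ctx G T) {χ : IrrCharacter G} (hχ : charDegree (χ : G → ℂ) ≠ 1)
    {a : G} (ha : a ∈ T) {v : ℤ} (h : (χ : G → ℂ) a = v) : v.natAbs < charDegree (χ : G → ℂ) := by
  classical
  obtain ⟨v', s, r, h1, h2, h3, h4, h5, -⟩ := exists_v C χ.2
  have hvv : v' = v := by
    have := (h1 a ha).symm.trans h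
    exact_mod_cast this
  subst hvv
  by_contra hcon
  have h6 : v'.natAbs = charDegree (χ : G → ℂ) := by omega
  have h7 : (χ : G → ℂ) a = (χ : G → ℂ) 1 ∨ (χ : G → ℂ) a = - (χ : G → ℂ) 1 := by
    rw [h, charDegree_cast χ.2, ← h6]
    rcases le_total 0 v' with h0 | h0
    · left
      have h8 : ((v'.natAbs : ℕ) : ℤ) = v' := by omega
      rw [← Int.cast_natCast (R := ℂ), h8]
    · right
      have h8 : ((v'.natAbs : ℕ) : ℤ) = - v' := by omega
      rw [← Int.cast_natCast (R := ℂ), h8, Int.cast_neg, neg_neg]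
  obtain ⟨c, hc, hac⟩ := exists_far C ha
  -- the kernel
  obtain ⟨χ, n, ρ, hρ, rfl⟩ := χ
  have hfg : ∀ g : G, ρ (g * a * g⁻¹ * a⁻¹) = 1 := fun g => comm_rep ρ (C.sq a ha) h7
  have hker : ρ.ker = ⊤ := by
    rcases Subgroup.Normal.eq_bot_or_eq_top (inferInstance : ρ.ker.Normal) with h8 | h8
    · exfalso
      have h9 : c * a * c⁻¹ * a⁻¹ ∈ ρ.ker := hfg c
      rw [h8, Subgroup.mem_bot] at h9
      apply hac
      have h10 : c * a * c⁻¹ = a := mul_inv_eq_one.1 h9
      calc a * c = (c * a * c⁻¹) * c := by rw [h10]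
        _ = c * a := by group
    · exact h8
  have hall : ∀ g : G, ρ.character g = ρ.character 1 := by
    intro g
    have h8 : g ∈ ρ.ker := by rw [hker]; trivial
    have h9 : ρ g = ρ 1 := by rw [map_one]; exact h8
    exact congrArg (LinearMap.trace ℂ (Fin n → ℂ)) h9
  have := Fintype.ofFinite G
  have h8 := Characters.Core.classInner_irr_self (G := G) (χ := ρ.character) ⟨n, ρ, hρ, rfl⟩
  rw [Characters.Core.classInner_def, Finset.sum_congr rfl (g := fun _ => ρ.character 1 * conj (ρ.character 1))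
    (fun g _ => by rw [hall g]), Finset.sum_const, Finset.card_univ, nsmul_eq_mul, ← Nat.card_eq_fintype_card,
    ← mul_assoc, inv_mul_cancel₀ (by exact_mod_cast Nat.card_pos.ne'), one_mul,
    charDegree_cast (χ := ρ.character) ⟨n, ρ, hρ, rfl⟩, Complex.conj_natCast] at h8
  apply hχ
  have h9 : charDegree ρ.character * charDegree ρ.character = 1 := by exact_mod_cast h8
  exact Nat.eq_one_of_mul_eq_one_left h9

/-- **the numerical facts** -/
theorem adm [Finite G] [IsSimpleGroup G] (C : Ctx G T) (χ : IrrCharacter G) (hχ : charDegree (χ : G → ℂ) ≠ 1) :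
    Adm (charDegree (χ : G → ℂ)) (ww T (χ : G → ℂ)) := by
  obtain ⟨a, ha, -⟩ := C.mupos
  obtain ⟨v, s, r, h1, h2, h3, h4, h5, h6, h7, h8, h9, h10, h11⟩ := exists_v C χ.2
  have hlt := natAbs_lt C hχ ha (h1 a ha)
  refine ⟨?_, ?_, by (clear * - h10 hlt; omega), ?_, v, s, r, h3, ?_, h4, h5, h6, h7, h8, h9, h10, h11⟩
  · rw [← C.card]; exact Blocks.Knorr.charDegree_dvd χ.2
  · rw [← C.card]; exact sum_sq hχ
  · have e1 : (ww T (χ : G → ℂ)).natAbs * charDegree (χ : G → ℂ) = 3510 * v.natAbs := by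
      have := congrArg Int.natAbs h3
      rw [Int.natAbs_mul, Int.natAbs_mul] at this
      simpa only [_root_.Int.natAbs_natCast, _root_.Int.reduceAbs] using this
    by_contra hcon
    have h12 : 3510 * charDegree (χ : G → ℂ) ≤ 3510 * v.natAbs := by
      rw [← e1]; exact Nat.mul_le_mul_right _ (by omega)
    (clear * - hlt h12; omega)
  · have h13 := sq_le (h1 a ha)
    rw [C.card_cent ha] at h13
    exact_mod_cast h13

end Cfsg.Agent.H618.LD.Ev
end

-- part: H618/LD/Mom
section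
/-!
# S4910, row Fi22 (helper618): moments and congruences
-/

set_option autoImplicit false
set_option linter.unusedSectionVars false

open Cfsg
open scoped ComplexConjugate

namespace Cfsg.Agent.H618.LD.Mom

open Subgroup
open Cfsg.Agent.LThreeFi22 Cfsg.Agent.H618.LD.Tw Cfsg.Agent.H618.LD.Ev Cfsg.Agent.H618.LD.Blk Cfsg.Agent.H618.LD.Num
open Cfsg.Agent.SmallSimple.ThetaSetup Cfsg.Agent.SmallSimple.ThetaOrtho

universe u

variable {G : Type u} [Group G] [Finite G] {T : Set G} {p : ℕ} [hp : Fact p.Prime]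

/-! ### regular elements -/

theorem reg_of_pow {g : G} {n : ℕ} (h : g ^ n = 1) (hn : ¬ p ∣ n) : ¬ p ∣ orderOf g :=
  fun h1 => hn (h1.trans (orderOf_dvd_of_pow_eq_one h))

theorem reg_T (C : Ctx G T) (h5 : 5 ≤ p) {s : G} (hs : s ∈ T) : ¬ p ∣ orderOf s := by
  refine reg_of_pow (n := 2) (by rw [pow_two]; exact C.sq s hs) ?_
  intro h
  have := Nat.le_of_dvd (by norm_num) h
  omega

theorem reg_TT (C : Ctx G T) (h5 : 5 ≤ p) {s s' : G} (hs : s ∈ T) (hs' : s' ∈ T) : ¬ p ∣ orderOf (s * s') := by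
  have h1 := C.sq s hs
  have h2 := C.sq s' hs'
  by_cases h : s * s' = s' * s
  · refine reg_of_pow (n := 2) ?_ ?_
    · rw [pow_two]
      calc s * s' * (s * s') = s * (s' * s) * s' := by group
        _ = s * (s * s') * s' := by rw [← h]
        _ = (s * s) * (s' * s') := by group
        _ = 1 := by rw [h1, h2, mul_one]
    · intro h
      have := Nat.le_of_dvd (by norm_num) h
      omega
  · have h3 : s * s' * s = s' * s * s' := (C.three s hs s' hs').resolve_left h
    refine reg_of_pow (n := 3) ?_ ?_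
    · calc (s * s') ^ 3 = (s * s' * s) * (s' * s * s') := by
            simp only [pow_succ, pow_zero, one_mul, mul_assoc]
        _ = (s' * s * s') * (s' * s * s') := by rw [h3]
        _ = s' * s * (s' * s') * (s * s') := by simp only [mul_assoc]
        _ = s' * (s * s) * s' := by rw [h2]; simp only [mul_assoc, mul_one]
        _ = 1 := by rw [h1, mul_one, h2]
    · intro h
      have := Nat.le_of_dvd (by norm_num) h
      omega

/-! ### moments -/

theorem sumT (C : Ctx G T) (χ : IrrCharacter G) :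
    ∑ s ∈ TF T, (χ : G → ℂ) s = ((dg χ * ww T χ : ℤ) : ℂ) := by
  have h := sum_mul χ.2 (cl C) 1
  simp only [mul_one] at h
  rw [h, ww_cast C χ.2, dg_cast]
  push_cast
  ring

theorem sumTT (C : Ctx G T) (χ : IrrCharacter G) :
    ∑ s' ∈ TF T, ∑ s ∈ TF T, (χ : G → ℂ) (s * s') = ((dg χ * ww T χ ^ 2 : ℤ) : ℂ) := by
  rw [Finset.sum_congr rfl fun s' _ => sum_mul χ.2 (cl C) s', ← Finset.mul_sum, sumT C, ww_cast C χ.2]
  push_cast
  ring

section PBs

variable {P : Sylow p G} {K : Subgroup G} {e t : ℕ} {NE X : Finset (IrrCharacter G)} {ε : IrrCharacter G → ℤ} {d : ℤ}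
  {Θ : IrrCharacter G}

theorem moment0 (B : PB P K e t NE X ε d) (hΘ : Θ ∈ X) : ∑ χ ∈ NE, ε χ * dg χ + -d * dg Θ = 0 := by
  have h := B.rel Θ hΘ 1 not_dvd_one
  rw [Finset.sum_congr rfl (g := fun χ => (ε χ : ℂ) * (dg χ : ℂ)) (fun χ _ => by rw [dg_cast]), dg_cast] at h
  have h1 : ((∑ χ ∈ NE, ε χ * dg χ + -d * dg Θ : ℤ) : ℂ) = ((0 : ℤ) : ℂ) := by
    push_cast
    rw [h]; ring
  exact_mod_cast h1

theorem moment1 (C : Ctx G T) (h5 : 5 ≤ p) (B : PB P K e t NE X ε d) (hΘ : Θ ∈ X) :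
    ∑ χ ∈ NE, ε χ * dg χ * ww T χ + -d * dg Θ * ww T Θ = 0 := by
  have h : ∑ s ∈ TF T, ∑ χ ∈ NE, (ε χ : ℂ) * (χ : G → ℂ) s = ∑ s ∈ TF T, (d : ℂ) * (Θ : G → ℂ) s :=
    Finset.sum_congr rfl fun s hs => B.rel Θ hΘ s (reg_T C h5 (mem_TF.1 hs))
  rw [Finset.sum_comm, ← Finset.mul_sum, sumT C,
    Finset.sum_congr rfl (g := fun χ => (ε χ : ℂ) * ((dg χ * ww T χ : ℤ) : ℂ)) (fun χ _ => by
      rw [← Finset.mul_sum, sumT C])] at h
  have h1 : ((∑ χ ∈ NE, ε χ * dg χ * ww T χ + -d * dg Θ * ww T Θ : ℤ) : ℂ) = ((0 : ℤ) : ℂ) := by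
    push_cast at h ⊢
    rw [Finset.sum_congr rfl (g := fun χ : IrrCharacter G => (ε χ : ℂ) * ((dg χ : ℂ) * (ww T χ : ℂ)))
      (fun χ _ => by ring), h]
    ring
  exact_mod_cast h1

theorem moment2 (C : Ctx G T) (h5 : 5 ≤ p) (B : PB P K e t NE X ε d) (hΘ : Θ ∈ X) :
    ∑ χ ∈ NE, ε χ * dg χ * ww T χ ^ 2 + -d * dg Θ * ww T Θ ^ 2 = 0 := by
  have h : ∑ s' ∈ TF T, ∑ s ∈ TF T, ∑ χ ∈ NE, (ε χ : ℂ) * (χ : G → ℂ) (s * s') =
      ∑ s' ∈ TF T, ∑ s ∈ TF T, (d : ℂ) * (Θ : G → ℂ) (s * s') :=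
    Finset.sum_congr rfl fun s' hs' => Finset.sum_congr rfl fun s hs =>
      B.rel Θ hΘ (s * s') (reg_TT C h5 (mem_TF.1 hs) (mem_TF.1 hs'))
  have h2 : ∑ s' ∈ TF T, ∑ s ∈ TF T, ∑ χ ∈ NE, (ε χ : ℂ) * (χ : G → ℂ) (s * s') =
      ∑ χ ∈ NE, (ε χ : ℂ) * ((dg χ * ww T χ ^ 2 : ℤ) : ℂ) := by
    rw [Finset.sum_congr rfl fun s' _ => Finset.sum_comm, Finset.sum_comm]
    refine Finset.sum_congr rfl fun χ _ => ?_
    rw [Finset.sum_congr rfl fun s' _ => (Finset.mul_sum _ _ _).symm, ← Finset.mul_sum, sumTT C]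
  have h3 : ∑ s' ∈ TF T, ∑ s ∈ TF T, (d : ℂ) * (Θ : G → ℂ) (s * s') = (d : ℂ) * ((dg Θ * ww T Θ ^ 2 : ℤ) : ℂ) := by
    rw [Finset.sum_congr rfl fun s' _ => (Finset.mul_sum _ _ _).symm, ← Finset.mul_sum, sumTT C]
  rw [h2, h3] at h
  have h1 : ((∑ χ ∈ NE, ε χ * dg χ * ww T χ ^ 2 + -d * dg Θ * ww T Θ ^ 2 : ℤ) : ℂ) = ((0 : ℤ) : ℂ) := by
    push_cast at h ⊢
    rw [Finset.sum_congr rfl (g := fun χ : IrrCharacter G => (ε χ : ℂ) * ((dg χ : ℂ) * (ww T χ : ℂ) ^ 2))
      (fun χ _ => by ring), h]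
    ring
  exact_mod_cast h1

end PBs

/-! ### the characters not over the trivial character -/

/-- the sum over `K` -/
theorem dvd_of_not_mem {P : Sylow p G} (hP : Nat.card P = p) {K : Subgroup G} (hK : IsComp p (P : Subgroup G) K)
    [Fintype K] {χ : IrrCharacter G} (h : χ ∉ Over P (1 : K → ℂ)) {m : ℤ} (hm : ∑ y : K, (χ : G → ℂ) y = m) :
    (p : ℤ) ∣ m := by
  obtain ⟨M, hM⟩ := Blocks.ExistsModular.exists_isPModular hp.out
  have := Blocks.Local.isPrime_of_isPModular hM
  obtain ⟨x, hx, hx1⟩ := exists_ne_one (P := (P : Subgroup G)) hP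
  have h1 := part_eq_zero h (x := ⟨x, hx⟩) (fun h => hx1 (congrArg Subtype.val h))
  rw [part_eq] at h1
  have h2 : ∑ y : K, (χ : G → ℂ) (x * y) = 0 := by
    have h3 := (mul_eq_zero.1 h1).resolve_left (inv_ne_zero (by exact_mod_cast Nat.card_pos.ne'))
    rw [← h3]
    refine Finset.sum_congr rfl fun y _ => ?_
    show _ = (χ : G → ℂ) (x * y) * conj (1 : ℂ)
    rw [map_one, mul_one]
  have hox : orderOf x = p ^ 1 := by rw [pow_one]; exact Blocks.CyclicOrtho.orderOf_eq P hP hx hx1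
  have h3 : MemLocalIdeal M (∑ y : K, (χ : G → ℂ) (x * y) - ∑ y : K, (χ : G → ℂ) y) := by
    refine Blocks.Local.memLocalIdeal_sum_sub_sum fun y _ => ?_
    have h4 := Cfsg.Agent.CharactersDeep.ModCongr.memLocalIdeal_character_sub hM χ.2 (x * y) x
      ⟨y, rfl, hK.comm hx y.2, ⟨1, hox⟩, ((hK y).1 y.2).2⟩
    have h5 : x⁻¹ * (x * y) = y := by group
    rwa [h5] at h4
  rw [h2, hm, zero_sub, Blocks.Local.memLocalIdeal_neg_iff] at h3
  exact (Blocks.Local.memLocalIdeal_intCast_iff hM _).1 h3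

theorem dvd_of_bot {P : Sylow p G} (hP : Nat.card P = p) {K : Subgroup G} (hK : IsComp p (P : Subgroup G) K)
    (h1 : Nat.card K = 1) {χ : IrrCharacter G} (h : χ ∉ Over P (1 : K → ℂ)) : (p : ℤ) ∣ dg χ := by
  have := Fintype.ofFinite K
  refine dvd_of_not_mem hP hK h ?_
  have h2 : Subsingleton K := (Nat.card_eq_one_iff_unique.1 h1).1
  rw [Fintype.sum_subsingleton _ (1 : K)]
  exact dg_cast χ

theorem dvd_of_two {P : Sylow p G} (hP : Nat.card P = p) {K : Subgroup G} (hK : IsComp p (P : Subgroup G) K)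
    (h1 : Nat.card K = 2) {k : G} (hk : k ∈ K) (hk1 : k ≠ 1) {χ : IrrCharacter G} (h : χ ∉ Over P (1 : K → ℂ)) {v : ℤ}
    (hv : (χ : G → ℂ) k = v) : (p : ℤ) ∣ dg χ + v := by
  classical
  have := Fintype.ofFinite K
  refine dvd_of_not_mem hP hK h ?_
  have h2 : (Finset.univ : Finset K) = {1, ⟨k, hk⟩} := by
    symm
    apply Finset.eq_univ_of_card
    rw [Finset.card_pair (fun h => hk1 (congrArg Subtype.val h).symm), ← Nat.card_eq_fintype_card, h1]
  rw [h2, Finset.sum_pair (fun h => hk1 (congrArg Subtype.val h).symm)]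
  push_cast
  rw [← dg_cast χ, ← hv]

end Cfsg.Agent.H618.LD.Mom
end

-- part: H618/LD/Prin
section
/-!
# S4910, row Fi22 (helper618): the principal 11-block and 13-block
-/

set_option autoImplicit false
set_option linter.unusedSectionVars false

open Cfsg
open scoped ComplexConjugate

namespace Cfsg.Agent.H618.LD.Prin

open Subgroup
open Cfsg.Agent.LThreeFi22 Cfsg.Agent.H618.LD.Tw Cfsg.Agent.H618.LD.Ev Cfsg.Agent.H618.LD.Blk Cfsg.Agent.H618.LD.Num
  Cfsg.Agent.H618.LD.Mom
open Cfsg.Agent.SmallSimple.ThetaSetup Cfsg.Agent.SmallSimple.ThetaOrtho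
open Cfsg.Agent.KFacts.FiTT (TK)

universe u

theorem num1 {w d v : ℤ} (h : w * d = 3510 * v) (h1 : (11 : ℤ) ∣ d - v) : (11 : ℤ) ∣ d ∨ (11 : ℤ) ∣ w - 1 := by
  have h2 : (11 : ℤ) ∣ d * (w - 1) := by
    obtain ⟨k, hk⟩ := h1
    exact ⟨319 * v - k, by linear_combination h - hk⟩
  exact (Int.Prime.dvd_mul' (by norm_num) h2)

theorem num2 {w d v : ℤ} (h : w * d = 3510 * v) (h1 : (11 : ℤ) ∣ d + v) : (11 : ℤ) ∣ d ∨ (11 : ℤ) ∣ w + 1 := by
  have h2 : (11 : ℤ) ∣ d * (w + 1) := by
    obtain ⟨k, hk⟩ := h1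
    exact ⟨319 * v + k, by linear_combination h + hk⟩
  exact (Int.Prime.dvd_mul' (by norm_num) h2)

section gen

variable {G : Type u} [Group G] [Finite G] {T : Set G}

theorem exists_vt (C : Ctx G T) (χ : IrrCharacter G) : ∃ v : ℤ, (∀ a ∈ T, (χ : G → ℂ) a = v) ∧
    ww T (χ : G → ℂ) * dg χ = 3510 * v := by
  obtain ⟨v, s, r, h1, h2, h3, -⟩ := exists_v C χ.2
  exact ⟨v, h1, h3⟩

section p

variable {p : ℕ} [hp : Fact p.Prime] {P : Sylow p G} {K : Subgroup G} {e t : ℕ} {NE X : Finset (IrrCharacter G)}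
  {ε : IrrCharacter G → ℤ} {d : ℤ}

theorem ne_sq (B : PB P K e t NE X ε d) {χ : IrrCharacter G} (h : χ ∈ NE) : ε χ * ε χ = 1 := by
  rcases B.sg χ h with h1 | h1 <;> rw [h1] <;> norm_num

theorem d_sq (B : PB P K e t NE X ε d) : d * d = 1 := by
  rcases B.sd with h1 | h1 <;> rw [h1] <;> norm_num

/-- the value at an element of `K` in `T` -/
theorem cong_v (hP : Nat.card P = p) (hK : IsComp p (P : Subgroup G) K) (B : PB P K e t NE X ε d) {k : G} (hk : k ∈ K)
    {χ : IrrCharacter G} (h : χ ∈ NE) {v : ℤ} (hv : (χ : G → ℂ) k = v) : (p : ℤ) ∣ ε χ * v - 1 := by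
  obtain ⟨x, hx, hx1⟩ := exists_ne_one (P := (P : Subgroup G)) hP
  have hox : orderOf x = p ^ 1 := by rw [pow_one]; exact Blocks.CyclicOrtho.orderOf_eq P hP hx hx1
  have h1 := B.val χ h ⟨x, hx⟩ (fun h => hx1 (congrArg Subtype.val h)) ⟨k, hk⟩
  have h2 := int_cong χ (g := x * k) rfl (hK.comm hx hk) hox ((hK k).1 hk).2 h1 hv
  have h3 := ne_sq B h
  obtain ⟨m, hm⟩ := h2
  exact ⟨-ε χ * m, by linear_combination (-ε χ) * hm + h3⟩

/-- members: `d ≡ v` -/
theorem cong_mem (hP : Nat.card P = p) (hK : IsComp p (P : Subgroup G) K) (B : PB P K e t NE X ε d) {k : G}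
    (hk : k ∈ K) {χ : IrrCharacter G} (h : χ ∈ NE ∨ χ ∈ X) (hex : ∀ χ : IrrCharacter G, ∃ v : ℤ, (χ : G → ℂ) k = v)
    {v : ℤ} (hv : (χ : G → ℂ) k = v) : (p : ℤ) ∣ dg χ - v := by
  rcases h with h | h
  · obtain ⟨m, hm⟩ := cong_v hP hK B hk h hv
    obtain ⟨n, hn⟩ := B.cong χ h
    have h3 := ne_sq B h
    exact ⟨ε χ * (n - m), by linear_combination (ε χ) * hn - (ε χ) * hm - (dg χ - v) * h3⟩
  · have h1 := B.rel χ h k ((hK k).1 hk).2
    have h2 := moment0 B h
    choose V hV using hex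
    rw [hv, Finset.sum_congr rfl (g := fun χ => ((ε χ * V χ : ℤ) : ℂ)) (fun χ _ => by rw [hV χ]; push_cast; rfl),
      ← Int.cast_sum] at h1
    have h3 : ∑ χ ∈ NE, ε χ * V χ = d * v := by exact_mod_cast h1
    have h4 : (p : ℤ) ∣ ∑ χ ∈ NE, (ε χ * dg χ - ε χ * V χ) := by
      refine Finset.dvd_sum fun ψ hψ => ?_
      have h5 := B.cong ψ hψ
      have h6 := cong_v hP hK B hk hψ (hV ψ)
      have h7 := dvd_sub h5 h6
      have h8 : ε ψ * dg ψ - 1 - (ε ψ * V ψ - 1) = ε ψ * dg ψ - ε ψ * V ψ := by ring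
      rwa [h8] at h7
    rw [Finset.sum_sub_distrib, h3] at h4
    obtain ⟨m, hm⟩ := h4
    have h5 := d_sq B
    exact ⟨d * m, by linear_combination d * hm - d * h2 - (dg χ - v) * h5⟩

theorem not_dvd_ne (B : PB P K e t NE X ε d) {χ : IrrCharacter G} (h : χ ∈ NE) : ¬ (p : ℤ) ∣ dg χ := by
  intro h1
  have h2 := dvd_sub (h1.mul_left (ε χ)) (B.cong χ h)
  have h3 : ε χ * dg χ - (ε χ * dg χ - 1) = 1 := by ring
  rw [h3] at h2
  have h4 := Int.le_of_dvd (by norm_num) h2
  have := hp.out.one_lt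
  omega

theorem not_dvd_x (B : PB P K e t NE X ε d) (he : ¬ p ∣ e) {χ : IrrCharacter G} (h : χ ∈ X) : ¬ (p : ℤ) ∣ dg χ := by
  intro h1
  have h2 := dvd_sub (h1.mul_left d) (B.congX χ h)
  have h3 : d * dg χ - (d * dg χ - e) = e := by ring
  rw [h3] at h2
  exact he (by exact_mod_cast h2)

end p

/-- the principal 11-block -/
structure D11 (T : Set G) [Fact (Nat.Prime 11)] (P : Sylow 11 G) (K : Subgroup G) (NE X : Finset (IrrCharacter G))
    (ε : IrrCharacter G → ℤ) (d : ℤ) (k : G) : Prop where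
  hP : Nat.card P = 11
  hK : IsComp 11 (P : Subgroup G) K
  h2 : Nat.card K = 2
  hk : k ∈ K
  hkT : k ∈ T
  B : PB P K 5 2 NE X ε d

/-- the principal 13-block -/
structure D13 [Fact (Nat.Prime 13)] (P : Sylow 13 G) (K : Subgroup G) (NE X : Finset (IrrCharacter G))
    (ε : IrrCharacter G → ℤ) (d : ℤ) : Prop where
  hP : Nat.card P = 13
  hK : IsComp 13 (P : Subgroup G) K
  h1 : Nat.card K = 1
  B : PB P K 6 2 NE X ε d

theorem ww_one (C : Ctx G T) : ww T (Blk.one G : G → ℂ) = 3510 := by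
  have h := ww_cast C (Blk.one G).2
  have h1 : om (TF T) (Blk.one G : G → ℂ) = 3510 := by
    unfold om
    have h2 : ∀ g : G, (Blk.one G : G → ℂ) g = 1 := fun g => rfl
    simp only [h2, Finset.sum_const, card_TF C]
    norm_num
  rw [h1] at h
  exact_mod_cast h.symm

theorem dg_one : dg (Blk.one G) = 1 := by
  have h := dg_cast (Blk.one G)
  have h1 : (Blk.one G : G → ℂ) 1 = 1 := rfl
  rw [h1] at h
  exact_mod_cast h.symm

theorem ne_one_deg [IsSimpleGroup G] (hna : ¬ IsMulCommutative G) {χ : IrrCharacter G} (h : χ ≠ Blk.one G) :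
    charDegree (χ : G → ℂ) ≠ 1 := by
  intro h1
  apply h
  apply Subtype.ext
  refine SporadicA.M11CharSimple.eq_one_of_degree_one (fun hab => hna ⟨⟨hab⟩⟩) χ.2 ?_
  rw [charDegree_cast χ.2, h1, Nat.cast_one]

variable [i11 : Fact (Nat.Prime 11)]

/-- **Trichotomy modulo 11.** -/
theorem D11.tri {P : Sylow 11 G} {K : Subgroup G} {NE X : Finset (IrrCharacter G)} {ε : IrrCharacter G → ℤ} {d : ℤ}
    {k : G} (D : D11 T P K NE X ε d k) (C : Ctx G T) (χ : IrrCharacter G) :
    (11 : ℤ) ∣ dg χ ∨ (11 : ℤ) ∣ ww T (χ : G → ℂ) + 1 ∨ (χ ∈ NE ∨ χ ∈ X) := by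
  by_cases h : χ ∈ Over P (1 : K → ℂ)
  · exact Or.inr (Or.inr ((D.B.mem χ).1 h))
  · obtain ⟨v, hv, hw⟩ := exists_vt C χ
    have hk1 : k ≠ 1 := C.ne1 k D.hkT
    have h1 := dvd_of_two D.hP D.hK D.h2 D.hk hk1 h (hv k D.hkT)
    rcases num2 hw h1 with h2 | h2
    · exact Or.inl h2
    · exact Or.inr (Or.inl h2)

theorem D11.w1 {P : Sylow 11 G} {K : Subgroup G} {NE X : Finset (IrrCharacter G)} {ε : IrrCharacter G → ℤ} {d : ℤ}
    {k : G} (D : D11 T P K NE X ε d k) (C : Ctx G T) {χ : IrrCharacter G} (h : χ ∈ NE ∨ χ ∈ X) :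
    (11 : ℤ) ∣ ww T (χ : G → ℂ) - 1 := by
  obtain ⟨v, hv, hw⟩ := exists_vt C χ
  have h1 := cong_mem D.hP D.hK D.B D.hk h (fun ψ => by
    obtain ⟨v', hv', -⟩ := exists_vt C ψ
    exact ⟨v', hv' k D.hkT⟩) (hv k D.hkT)
  rcases num1 hw h1 with h2 | h2
  · exfalso
    rcases h with h | h
    · exact not_dvd_ne D.B h h2
    · exact not_dvd_x D.B (by norm_num) h h2
  · exact h2

end gen

end Cfsg.Agent.H618.LD.Prin
end

-- part: H618/LD/Prin2
section
/-!
# S4910, row Fi22 (helper618): existence of the principal 11-block and 13-block data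
-/

set_option autoImplicit false
set_option linter.unusedSectionVars false

open Cfsg

namespace Cfsg.Agent.H618.LD.Prin

open Subgroup
open Cfsg.Agent.LThreeFi22 Cfsg.Agent.H618.LD.Tw Cfsg.Agent.H618.LD.Ev Cfsg.Agent.H618.LD.Blk Cfsg.Agent.H618.LD.Num
  Cfsg.Agent.H618.LD.Mom
open Cfsg.Agent.SmallSimple.ThetaSetup Cfsg.Agent.SmallSimple.ThetaOrtho
open Cfsg.Agent.KFacts.FiTT (TK)

universe u

variable {G : Type u} [Group G] [Finite G]

theorem card_sylow {p : ℕ} [Fact p.Prime] (P : Sylow p G) {N : ℕ} (hN : Nat.card G = N) (h1 : p ∣ N)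
    (h2 : ¬ p ^ 2 ∣ N) : Nat.card P = p := by
  have hp : p.Prime := Fact.out
  rw [P.card_eq_multiplicity, hN]
  have hN0 : N ≠ 0 := by rw [← hN]; exact Nat.card_pos.ne'
  have h3 : N.factorization p = 1 := by
    have h4 := (hp.pow_dvd_iff_le_factorization (k := 1) hN0).1 (by rwa [pow_one])
    have h5 : ¬ 2 ≤ N.factorization p := fun h => h2 ((hp.pow_dvd_iff_le_factorization hN0).2 h)
    omega
  rw [h3, pow_one]

theorem card_comp {p : ℕ} [Fact p.Prime] {P : Sylow p G} {K : Subgroup G} (hK : IsComp p (P : Subgroup G) K)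
    (hP : Nat.card P = p) {x : G} (hx : x ∈ P) (hx1 : x ≠ 1) {c : ℕ}
    (hc : Nat.card (centralizer ({x} : Set G)) = p * c) : Nat.card K = c := by
  have hp : p.Prime := Fact.out
  have h1 := Nat.card_congr (_root_.Cfsg.Agent.SmallSimple.ThetaSetup.prodEquiv hK hP).toEquiv
  have h3 : Nat.card (centralizer ((P : Subgroup G) : Set G)) = p * c := by
    rw [← Blocks.CyclicOrtho.centralizer_eq P hP hx hx1, hc]
  rw [Nat.card_prod] at h1
  have h2 : Nat.card P * Nat.card K = p * c := h1.trans h3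
  rw [hP] at h2
  exact Nat.eq_of_mul_eq_mul_left hp.pos h2

theorem exists_D11 [Fact (Nat.Prime 11)] (e : G ≃* Spor.Fi22) :
    ∃ (P : Sylow 11 G) (K : Subgroup G) (NE X : Finset (IrrCharacter G)) (ε : IrrCharacter G → ℤ) (d : ℤ) (k : G),
      D11 (TK e) P K NE X ε d k := by
  have C := Inst.ctx e
  have hN := C.card
  let P : Sylow 11 G := default
  have hP : Nat.card P = 11 := card_sylow P hN (by norm_num) (by norm_num)
  obtain ⟨x, hx, hx1⟩ := exists_ne_one (P := (P : Subgroup G)) hP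
  have hox : orderOf x = 11 := Blocks.CyclicOrtho.orderOf_eq P hP hx hx1
  have hc := H713.Spor.Fi22.cent_11 e hox
  obtain ⟨K, hK⟩ := exists_isComp P hP
  have h2 : Nat.card K = 2 := card_comp hK hP hx hx1 hc
  obtain ⟨k, hk⟩ := H713.Spor.Fi22.exists_eleven C (y := x) (by rw [← hox, pow_orderOf_eq_one])
  have hkK : k ∈ K := by
    refine (hK k).2 ⟨?_, reg_T C (by norm_num) hk.1⟩
    rw [← Blocks.CyclicOrtho.centralizer_eq P hP hx hx1]
    exact mem_centralizer_singleton_iff.2 hk.2.symm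
  have he := relIndex_eq hP hK hx hx1 hN hc (e := 5) (by norm_num) (by norm_num)
  obtain ⟨NE, X, ε, d, B⟩ := exists_pb hP hK he (t := 2) (by norm_num) (by norm_num)
  exact ⟨P, K, NE, X, ε, d, k, hP, hK, h2, hkK, hk.1, B⟩

theorem exists_D13 [Fact (Nat.Prime 13)] (e : G ≃* Spor.Fi22) :
    ∃ (P : Sylow 13 G) (K : Subgroup G) (NE X : Finset (IrrCharacter G)) (ε : IrrCharacter G → ℤ) (d : ℤ),
      D13 P K NE X ε d := by
  have C := Inst.ctx e
  have hN := C.card
  let P : Sylow 13 G := default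
  have hP : Nat.card P = 13 := card_sylow P hN (by norm_num) (by norm_num)
  obtain ⟨x, hx, hx1⟩ := exists_ne_one (P := (P : Subgroup G)) hP
  have hox : orderOf x = 13 := Blocks.CyclicOrtho.orderOf_eq P hP hx hx1
  have hc := H713.Spor.Fi22.cent_13 e hox
  obtain ⟨K, hK⟩ := exists_isComp P hP
  have h2 : Nat.card K = 1 := card_comp hK hP hx hx1 (c := 1) (by rw [mul_one]; exact hc)
  have he := relIndex_eq hP hK hx hx1 hN hc (e := 6) (by norm_num) (by norm_num)
  obtain ⟨NE, X, ε, d, B⟩ := exists_pb hP hK he (t := 2) (by norm_num) (by norm_num)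
  exact ⟨P, K, NE, X, ε, d, hP, hK, h2, B⟩

theorem D13.mem [Fact (Nat.Prime 13)] {P : Sylow 13 G} {K : Subgroup G} {NE X : Finset (IrrCharacter G)}
    {ε : IrrCharacter G → ℤ} {d : ℤ} (D : D13 P K NE X ε d) {χ : IrrCharacter G} (h : ¬ (13 : ℤ) ∣ dg χ) :
    χ ∈ NE ∨ χ ∈ X := by
  by_contra hcon
  exact h (dvd_of_bot D.hP D.hK D.h1 fun h1 => hcon ((D.B.mem χ).1 h1))

/-- residues modulo 11 -/
theorem res11 [IsSimpleGroup G] (hna : ¬ IsMulCommutative G) (e : G ≃* Spor.Fi22) (χ : IrrCharacter G) :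
    1123 / 2 ^ (charDegree (χ : G → ℂ) % 11) % 2 = 1 := by
  have : Fact (Nat.Prime 11) := ⟨by norm_num⟩
  have C := Inst.ctx e
  obtain ⟨x, hx⟩ := exists_prime_orderOf_dvd_card' (G := G) 11 (by rw [C.card]; norm_num)
  have h := H531.MB.residue hna (p := 11) (by norm_num) C.card hx (k := 2)
    (H713.Spor.Fi22.cent_11 e hx) 5 2 [(0, 0), (1, 2), (5, -1), (6, 1), (10, -2)] (by decide +kernel) χ
  simp only [List.map_cons, List.map_nil, List.mem_cons, List.not_mem_nil, or_false] at h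
  rcases h with h | h | h | h | h <;> rw [h] <;> norm_num

/-- residues modulo 13 -/
theorem res13 [IsSimpleGroup G] (hna : ¬ IsMulCommutative G) (e : G ≃* Spor.Fi22) (χ : IrrCharacter G) :
    4291 / 2 ^ (charDegree (χ : G → ℂ) % 13) % 2 = 1 := by
  have : Fact (Nat.Prime 13) := ⟨by norm_num⟩
  have C := Inst.ctx e
  obtain ⟨x, hx⟩ := exists_prime_orderOf_dvd_card' (G := G) 13 (by rw [C.card]; norm_num)
  have h := H531.MB.residue hna (p := 13) (by norm_num) C.card hx (k := 1)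
    (H713.Spor.Fi22.cent_13 e hx) 6 2 [(0, 0), (1, 2), (6, -1), (7, 1), (12, -2)] (by decide +kernel) χ
  simp only [List.map_cons, List.map_nil, List.mem_cons, List.not_mem_nil, or_false] at h
  rcases h with h | h | h | h | h <;> rw [h] <;> norm_num

end Cfsg.Agent.H618.LD.Prin
end

private theorem dce_c4ca3abf6f59 : _root_.True := by
  try have : _root_.True := by simp only [_root_.Cfsg.Agent.H618.LD.Num.lk.eq_1]
  try have : _root_.True := by simp only [_root_.Cfsg.Agent.H618.LD.Num.memN.eq_1]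
  try have : _root_.True := by simp only [_root_.Cfsg.Agent.H618.LD.Num.L.eq_1]
  try have : _root_.True := by simp only [_root_.Cfsg.Agent.H618.LD.Num.allR.eq_1]
  try have : _root_.True := by simp only [_root_.Cfsg.Agent.H618.LD.Num.allL.eq_1]
  try have : _root_.True := by simp only [_root_.Cfsg.Agent.H618.LD.Tw.TF.congr_simp]
  try have : _root_.True := by simp only [_root_.Cfsg.Agent.H618.LD.Ev.ww.congr_simp]
  exact _root_.True.intro
end

-- part: H66/LD/F23Loc_mg
section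
prune_inst 0x7f00000000000000000000000000000000000000000000000000000000000000000000000000000000000000000000000000000000000000000000000000000000000000000000000000000000000000003fffffffffffffffffffffffffffbeffbdfbfeffff
set_option linter.all false
open scoped Cfsg.Agent.FastGrp

-- part: H343/LD/Col
section
/-!
# Columns of elements of prime order with `C(x) = ⟨x⟩ × K` and a character of defect zero of `K` (helper343)

* `Loc p x K` : `x` has prime order `p`, `C(x) = ⟨x⟩ × K`, the powers of `x` are conjugate under `C(K)`;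
* `Loc.col` : the integers `w χ = ⟨χ(x ·), θ⟩`, `∑ w² = p`, `∑ w χ(g) = 0` for `p`-regular `g`, and the congruence of the
  central characters modulo `p`.
-/

set_option autoImplicit false
set_option linter.unusedSectionVars false

namespace Cfsg.Agent.H343.LD

open Cfsg Subgroup Cfsg.Agent.Characters Cfsg.Agent.Characters.Core Cfsg.Agent.SmallSimple.ThetaSetup
open Cfsg.Agent.SmallSimple
open scoped ComplexConjugate

universe u

variable {G : Type u} [Group G]

/-- `C(x) = ⟨x⟩ × K`, `x` of order `p`, and all generators of `⟨x⟩` are conjugate to `x` by elements centralizing `K` -/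
structure Loc (p : ℕ) (x : G) (K : Subgroup G) : Prop where
  ord : orderOf x = p
  le : K ≤ centralizer ({x} : Set G)
  dec : ∀ c ∈ centralizer ({x} : Set G), ∃ i : ℕ, ∃ k ∈ K, c = x ^ i * k
  nmem : ∀ i : ℕ, x ^ i ∈ K → x ^ i = 1
  real : ∀ i : ℕ, i.Coprime p → ∃ n : G, n * x * n⁻¹ = x ^ i ∧ ∀ k ∈ K, n * k = k * n

open scoped Classical in
/-- the elements of `K` that are conjugate to `g` in `G` -/
noncomputable def cls (K : Subgroup G) [Fintype K] (g : G) : Finset K := Finset.univ.filter fun s : K => IsConj g (s : G)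

theorem mem_cls {K : Subgroup G} [Fintype K] {g : G} {s : K} : s ∈ cls K g ↔ IsConj g (s : G) := by
  simp [cls]

/-- the central character -/
noncomputable def om (χ : G → ℂ) (g : G) : ℂ := ((centralizer ({g} : Set G)).index : ℂ) * χ g / χ 1

theorem isIntegral_om [Finite G] (χ : IrrCharacter G) (g : G) : IsIntegral ℤ (om (χ : G → ℂ) g) := by
  obtain ⟨n, ρ, hρ, he⟩ := χ.2
  have h1 := Cfsg.Agent.S0141.result ρ g
  unfold om
  rw [← he, Representation.char_one]
  exact h1

/-- a character of defect zero vanishes at the singular elements -/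
theorem dz_vanish {K : Type u} [Group K] [Finite K] {p : ℕ} (hp : p.Prime) (θ : IrrCharacter K)
    (h : (charDegree (θ : K → ℂ)).factorization p = (Nat.card K).factorization p) {k : K} (hk : p ∣ orderOf k) :
    (θ : K → ℂ) k = 0 := by
  classical
  have := Fintype.ofFinite K
  have hdeg := Cfsg.Agent.Blocks.Basic.irr_one_eq_charDegree θ.2
  have hne : charDegree (θ : K → ℂ) ≠ 0 := by
    intro h0
    rw [h0] at hdeg
    exact isIrr_apply_one_ne_zero θ.2 (by rw [hdeg]; simp)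
  obtain ⟨n, ρ, hρ, he⟩ := θ.2
  have h1 := DefectZero.character_inv_eq_zero ρ hρ p ((Nat.card K).factorization p) hp (Nat.ordProj_dvd _ _)
    (Nat.pow_succ_factorization_not_dvd Nat.card_pos.ne' hp) (by
      have h2 : (Module.finrank ℂ (Fin n → ℂ)) = charDegree (θ : K → ℂ) := by
        have h3 : ((Module.finrank ℂ (Fin n → ℂ) : ℕ) : ℂ) = (charDegree (θ : K → ℂ) : ℂ) := by
          rw [← hdeg, ← he, Representation.char_one]
        exact_mod_cast h3
      rw [h2, ← h]
      exact Nat.ordProj_dvd _ _) k⁻¹ (by rwa [orderOf_inv])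
  rw [← he]
  rwa [inv_inv] at h1

section Aux

variable {K : Type u} [Group K] [Fintype K]

theorem sum_invariant (S : Finset K) (hS : ∀ s ∈ S, ∀ a : K, a * s * a⁻¹ ∈ S) (φ : IrrCharacter K) (k : K) :
    ∑ s ∈ S, (φ : K → ℂ) (k * s) = (∑ s ∈ S, (φ : K → ℂ) s) / (φ : K → ℂ) 1 * (φ : K → ℂ) k := by
  have hcard : (Nat.card K : ℂ) ≠ 0 := by exact_mod_cast Nat.card_pos.ne'
  refine mul_left_cancel₀ hcard ?_
  have h1 : ∀ a : K, ∑ s ∈ S, (φ : K → ℂ) (k * s) = ∑ s ∈ S, (φ : K → ℂ) (a * s * a⁻¹ * k) := by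
    intro a
    refine Finset.sum_bij' (i := fun s _ => a⁻¹ * s * a) (j := fun s _ => a * s * a⁻¹) ?_ ?_ ?_ ?_ ?_
    · intro s hs
      have := hS s hs a⁻¹
      rwa [inv_inv] at this
    · intro s hs
      exact hS s hs a
    · intro s _
      group
    · intro s _
      group
    · intro s _
      rw [Blocks.Basic.irr_mul_comm φ.2]
      group
  have h2 : (Nat.card K : ℂ) * ∑ s ∈ S, (φ : K → ℂ) (k * s) = ∑ a : K, ∑ s ∈ S, (φ : K → ℂ) (a * s * a⁻¹ * k) := by
    rw [← Finset.sum_congr rfl fun a _ => h1 a, Finset.sum_const, Finset.card_univ, nsmul_eq_mul,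
      Nat.card_eq_fintype_card]
  rw [h2, Finset.sum_comm, Finset.sum_congr rfl fun s _ => Central.sum_char_conj_mul φ.2 s k, Finset.sum_div,
    Finset.sum_mul, Finset.mul_sum]
  refine Finset.sum_congr rfl fun s _ => ?_
  ring

theorem isIntegral_conj {z : ℂ} (h : IsIntegral ℤ z) : IsIntegral ℤ (conj z) :=
  h.map (RingHom.toIntAlgHom (starRingEnd ℂ))

theorem isIntegral_sum {z : K → ℂ} (hz : IsClassFunction K z) (hi : ∀ k, IsIntegral ℤ (z k)) (θ : IrrCharacter K) :
    IsIntegral ℤ ((∑ k, conj ((θ : K → ℂ) k) * z k) / (θ : K → ℂ) 1) := by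
  classical
  have : Fintype (ConjClasses K) := Fintype.ofFinite _
  rw [← Finset.sum_fiberwise (g := fun k : K => ConjClasses.mk k), Finset.sum_div]
  refine IsIntegral.sum _ fun C _ => ?_
  obtain ⟨l, rfl⟩ := ConjClasses.exists_rep C
  have h1 : ∀ k ∈ Finset.univ.filter (fun k : K => ConjClasses.mk k = ConjClasses.mk l),
      conj ((θ : K → ℂ) k) * z k = conj ((θ : K → ℂ) l) * z l := by
    intro k hk
    obtain ⟨c, hc⟩ := isConj_iff.1 (ConjClasses.mk_eq_mk_iff_isConj.1 (Finset.mem_filter.1 hk).2)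
    rw [← hc, hz, isIrr_isClassFunction θ.2]
  have h2 : (Finset.univ.filter (fun k : K => ConjClasses.mk k = ConjClasses.mk l)).card =
      (centralizer ({l} : Set K)).index := by
    rw [← ClassMul.card_filter_isConj l]
    congr 1
    ext k
    simp only [Finset.mem_filter, Finset.mem_univ, true_and]
    rw [ConjClasses.mk_eq_mk_iff_isConj, isConj_comm]
  rw [Finset.sum_congr rfl h1, Finset.sum_const, h2, nsmul_eq_mul]
  have h3 := isIntegral_conj (isIntegral_om θ l)
  obtain ⟨n, -, hn⟩ := isIrr_apply_one θ.2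
  have h4 : ((centralizer ({l} : Set K)).index : ℂ) * (conj ((θ : K → ℂ) l) * z l) / (θ : K → ℂ) 1 =
      conj (om (θ : K → ℂ) l) * z l := by
    unfold om
    rw [map_div₀, map_mul, map_natCast, hn, map_natCast]
    ring
  rw [h4]
  exact h3.mul (hi l)

end Aux

namespace Loc

variable {p : ℕ} {x : G} {K : Subgroup G}

theorem comm (h : Loc p x K) {k : G} (hk : k ∈ K) : x * k = k * x :=
  (mem_centralizer_singleton_iff.1 (h.le hk)).symm

theorem pow_p (h : Loc p x K) : x ^ p = 1 := by rw [← h.ord]; exact pow_orderOf_eq_one x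

/-- `p`-regular elements of `C(x)` lie in `K` -/
theorem mem_of_reg (h : Loc p x K) (hp : p.Prime) {s : G} (hs : s ∈ centralizer ({x} : Set G)) (hr : ¬ p ∣ orderOf s) :
    s ∈ K := by
  obtain ⟨i, k, hk, rfl⟩ := h.dec s hs
  have hc : Commute (x ^ i) k := (show Commute x k from h.comm hk).pow_left i
  set n := orderOf (x ^ i * k) with hn
  have h1 : (x ^ i) ^ n * k ^ n = 1 := by rw [← hc.mul_pow, hn]; exact pow_orderOf_eq_one _
  have h2 : x ^ (i * n) ∈ K := by
    rw [pow_mul, eq_inv_of_mul_eq_one_left h1]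
    exact inv_mem (pow_mem hk n)
  have h3 := h.nmem _ h2
  have h4 : p ∣ i * n := by rw [← h.ord]; exact orderOf_dvd_of_pow_eq_one h3
  have h5 : p ∣ i := (hp.dvd_mul.1 h4).resolve_right hr
  have h6 : x ^ i = 1 := by
    obtain ⟨j, rfl⟩ := h5
    rw [pow_mul, h.pow_p, one_pow]
  rw [h6, one_mul]
  exact hk

/-- for regular `k, l ∈ K` : `x k` and `x l` are conjugate iff `k` and `l` are conjugate in `K` -/
theorem conj_of (h : Loc p x K) (hp : p.Prime) {k l : K} (hk : ¬ p ∣ orderOf k) (hl : ¬ p ∣ orderOf l) {g : G}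
    (hg : g * (x * k) * g⁻¹ = x * l) : g ∈ centralizer ({x} : Set G) ∧ g * k * g⁻¹ = l := by
  have hk' : ¬ p ∣ orderOf (k : G) := by rwa [Subgroup.orderOf_coe]
  have hl' : ¬ p ∣ orderOf (l : G) := by rwa [Subgroup.orderOf_coe]
  obtain ⟨n, hn1, hn2⟩ : ∃ n : ℕ, n ≡ 1 [MOD p] ∧ n ≡ 0 [MOD (orderOf (k : G) * orderOf (l : G))] := by
    have hcop : p.Coprime (orderOf (k : G) * orderOf (l : G)) :=
      Nat.Coprime.mul_right ((Nat.Prime.coprime_iff_not_dvd hp).2 hk') ((Nat.Prime.coprime_iff_not_dvd hp).2 hl')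
    exact ⟨_, (Nat.chineseRemainder hcop 1 0).2⟩
  have h1 : ∀ m : K, orderOf (m : G) ∣ orderOf (k : G) * orderOf (l : G) → (x * (m : G)) ^ n = x := by
    intro m hm
    rw [(show Commute x (m : G) from h.comm m.2).mul_pow]
    have h2 : (m : G) ^ n = 1 := by
      rw [← orderOf_dvd_iff_pow_eq_one]
      exact hm.trans ((Nat.modEq_zero_iff_dvd).1 hn2)
    have h3 : x ^ n = x := by
      conv_rhs => rw [← pow_one x]
      rw [pow_eq_pow_iff_modEq, h.ord]
      exact hn1
    rw [h2, h3, mul_one]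
  have h4 : g * x * g⁻¹ = x := by
    have h5 := congrArg (fun y => y ^ n) hg
    simp only [conj_pow] at h5
    rwa [h1 k (Dvd.intro _ rfl), h1 l (Dvd.intro_left _ rfl)] at h5
  refine ⟨?_, ?_⟩
  · rw [mem_centralizer_singleton_iff]
    calc g * x = g * x * g⁻¹ * g := by group
      _ = x * g := by rw [h4]
  · have h5 : g * (x * k) * g⁻¹ = (g * x * g⁻¹) * (g * k * g⁻¹) := by group
    rw [h5, h4] at hg
    exact mul_left_cancel hg

theorem isConj_iff_of (h : Loc p x K) (hp : p.Prime) {k l : K} (hk : ¬ p ∣ orderOf k) (hl : ¬ p ∣ orderOf l) :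
    IsConj (x * (k : G)) (x * (l : G)) ↔ IsConj k l := by
  constructor
  · intro hc
    obtain ⟨g, hg⟩ := isConj_iff.1 hc
    obtain ⟨h1, h2⟩ := h.conj_of hp hk hl hg
    obtain ⟨i, m, hm, rfl⟩ := h.dec g h1
    refine isConj_iff.2 ⟨⟨m, hm⟩, Subtype.ext ?_⟩
    show m * (k : G) * m⁻¹ = l
    rw [← h2]
    have hc1 : Commute (x ^ i) (m * (k : G) * m⁻¹) :=
      (show Commute x _ from h.comm (mul_mem (mul_mem hm k.2) (inv_mem hm))).pow_left i
    calc m * (k : G) * m⁻¹ = (m * (k : G) * m⁻¹) * (x ^ i) * (x ^ i)⁻¹ := by group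
      _ = (x ^ i) * (m * (k : G) * m⁻¹) * (x ^ i)⁻¹ := by rw [hc1.eq]
      _ = _ := by group
  · intro hc
    obtain ⟨m, hm⟩ := isConj_iff.1 hc
    refine isConj_iff.2 ⟨m, ?_⟩
    have h1 : (m : G) * (k : G) * (m : G)⁻¹ = l := congrArg Subtype.val hm
    rw [← h1]
    calc (m : G) * (x * k) * (m : G)⁻¹ = ((m : G) * x) * k * (m : G)⁻¹ := by group
      _ = (x * m) * k * (m : G)⁻¹ := by rw [h.comm m.2]
      _ = _ := by group

/-- the centralizer of `x k` -/
theorem card_cent (h : Loc p x K) [Finite G] (hp : p.Prime) {k : K} (hk : ¬ p ∣ orderOf k) :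
    Nat.card (centralizer ({x * (k : G)} : Set G)) = p * Nat.card (centralizer ({k} : Set K)) := by
  have hx : orderOf x = p := h.ord
  let f : zpowers x × centralizer ({k} : Set K) → centralizer ({x * (k : G)} : Set G) := fun z =>
    ⟨(z.1 : G) * ((z.2 : K) : G), by
      rw [mem_centralizer_singleton_iff]
      obtain ⟨i, hi⟩ := z.1.2
      have hi' : x ^ i = (z.1 : G) := hi
      have h1 : ((z.2 : K) : G) * k = k * (z.2 : K) := congrArg Subtype.val (mem_centralizer_singleton_iff.1 z.2.2)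
      have c1 : Commute (x ^ i) (k : G) := (show Commute x (k : G) from h.comm k.2).zpow_left i
      have c2 : Commute (x ^ i) ((z.2 : K) : G) := (show Commute x ((z.2 : K) : G) from h.comm (z.2 : K).2).zpow_left i
      have c3 : Commute x ((z.2 : K) : G) := h.comm (z.2 : K).2
      have c4 : Commute (x ^ i) x := (Commute.refl x).zpow_left i
      have c5 : Commute ((z.2 : K) : G) (k : G) := h1
      rw [← hi']
      have c6 : Commute (x ^ i * ((z.2 : K) : G)) (x * (k : G)) :=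
        (c4.mul_right c1).mul_left (c3.symm.mul_right c5)
      exact c6.eq⟩
  have hf : Function.Bijective f := by
    constructor
    · rintro ⟨⟨a, ha⟩, b⟩ ⟨⟨a', ha'⟩, b'⟩ hab
      have h1 : a * ((b : K) : G) = a' * ((b' : K) : G) := congrArg Subtype.val hab
      have h2 : a'⁻¹ * a = ((b' : K) : G) * ((b : K) : G)⁻¹ := by
        calc a'⁻¹ * a = a'⁻¹ * (a * ((b : K) : G)) * ((b : K) : G)⁻¹ := by group
          _ = _ := by rw [h1]; group
      have h3 : a'⁻¹ * a ∈ K := by rw [h2]; exact mul_mem (b' : K).2 (inv_mem (b : K).2)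
      obtain ⟨i, hi⟩ := (mem_powers_iff_mem_zpowers (x := x)).2 (mul_mem (inv_mem ha') ha)
      have hi' : x ^ i = a'⁻¹ * a := hi
      have h4 := h.nmem i (by rw [hi']; exact h3)
      rw [hi'] at h4
      have h5 : a = a' := by
        rw [inv_mul_eq_one] at h4
        exact h4.symm
      have h6 : ((b : K) : G) = ((b' : K) : G) := by rw [h5] at h1; exact mul_left_cancel h1
      exact Prod.ext (Subtype.ext h5) (Subtype.ext (Subtype.ext h6))
    · rintro ⟨g, hg⟩
      have hg' := mem_centralizer_singleton_iff.1 hg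
      have h1 : g * (x * (k : G)) * g⁻¹ = x * (k : G) := by rw [hg', mul_inv_cancel_right]
      obtain ⟨h2, h3⟩ := h.conj_of hp hk hk h1
      obtain ⟨i, m, hm, rfl⟩ := h.dec g h2
      refine ⟨(⟨x ^ i, ⟨i, by simp⟩⟩, ⟨⟨m, hm⟩, ?_⟩), rfl⟩
      rw [mem_centralizer_singleton_iff]
      apply Subtype.ext
      show m * (k : G) = k * m
      have hc1 : Commute (x ^ i) (k : G) := (show Commute x (k : G) from h.comm k.2).pow_left i
      have h4 : x ^ i * m * (k : G) = k * (x ^ i * m) := by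
        calc x ^ i * m * (k : G) = (x ^ i * m * (k : G) * (x ^ i * m)⁻¹) * (x ^ i * m) := by group
          _ = _ := by rw [h3]
      have h5 : x ^ i * (m * (k : G)) = x ^ i * (k * m) := by
        rw [← mul_assoc, h4, ← mul_assoc, ← hc1.eq, mul_assoc]
      exact mul_left_cancel h5
  rw [← Nat.card_congr (Equiv.ofBijective f hf), Nat.card_prod, Nat.card_zpowers, hx]

/-! ### The multiplicity of `θ` -/

theorem part_pow (h : Loc p x K) [Finite G] {χ : G → ℂ} (hχ : IsClassFunction G χ) (θ : K → ℂ) {i : ℕ} (hi : i.Coprime p) :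
    part θ χ (x ^ i) = part θ χ x := by
  have := Fintype.ofFinite K
  obtain ⟨n, hn, hc⟩ := h.real i hi
  rw [part_eq, part_eq]
  congr 1
  refine Finset.sum_congr rfl fun k _ => ?_
  congr 1
  rw [← hn]
  have h1 : n * x * n⁻¹ * (k : G) = n * (x * k) * n⁻¹ := by
    calc n * x * n⁻¹ * (k : G) = n * x * n⁻¹ * (k * n) * n⁻¹ := by group
      _ = n * x * n⁻¹ * (n * k) * n⁻¹ := by rw [hc k k.2]
      _ = _ := by group
  rw [h1, hχ]

/-- the multiplication `⟨x⟩ × K → G` -/
def hom (h : Loc p x K) : zpowers x × K →* G :=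
  MonoidHom.noncommCoprod (zpowers x).subtype K.subtype (fun a b => by
    obtain ⟨i, hi⟩ := a.2
    have hi' : x ^ i = (a : G) := hi
    show Commute (a : G) (b : G)
    rw [← hi']
    exact (show Commute x (b : G) from h.comm b.2).zpow_left i)

theorem hom_apply (h : Loc p x K) (a : zpowers x) (b : K) : h.hom (a, b) = (a : G) * b := by
  simp [hom]

theorem isChar (h : Loc p x K) [Finite G] {χ : G → ℂ} (hχ : IsCharacter G χ) {θ : K → ℂ} (hθ : IsIrrCharacter K θ) :
    IsCharacter (zpowers x) (fun a : zpowers x => part θ χ (a : G)) := by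
  have := Fintype.ofFinite K
  have h1 := isCharacter_inner (isCharacter_comp h.hom hχ) hθ
  have h2 : (fun a : zpowers x => part θ χ (a : G)) =
      fun a : zpowers x => classInner (fun b => χ (h.hom (a, b))) θ := by
    funext a
    rw [part_eq, classInner_def]
    simp only [hom_apply]
  rw [h2]
  exact h1

theorem exists_int (h : Loc p x K) [Finite G] (hp : p.Prime) (χ : IrrCharacter G) (θ : IrrCharacter K) :
    ∃ (w : ℤ) (m : ℕ), part (θ : K → ℂ) (χ : G → ℂ) x = w ∧ part (θ : K → ℂ) (χ : G → ℂ) 1 = m ∧ (p : ℤ) ∣ m - w := by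
  have hc := h.isChar (isIrr_isCharacter χ.2) θ.2
  set y : zpowers x := ⟨x, mem_zpowers x⟩ with hy
  have hcard : Nat.card (zpowers x) = p := by rw [Nat.card_zpowers, h.ord]
  have h1 : ∃ q : ℚ, (fun a : zpowers x => part (θ : K → ℂ) (χ : G → ℂ) (a : G)) y = q := by
    rw [GaloisBasic.exists_rat_iff hc]
    intro m hm
    rw [hcard] at hm
    exact h.part_pow (isIrr_isClassFunction χ.2) _ hm
  obtain ⟨w, hw⟩ := GaloisBasic.exists_int_of_rat hc y h1
  obtain ⟨m, hm⟩ := isCharacter_apply_one hc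
  refine ⟨w, m, hw, hm, ?_⟩
  refine Cfsg.Agent.H935.Fi23.dvd_sub_of_int hc hm hp (x := y) ?_ hw
  rw [← h.ord, hy, Subgroup.orderOf_mk]

/-! ### The columns -/

open scoped Classical in
theorem col_sum [Finite G] [Fintype (IrrCharacter G)] [Fintype K] (θ : K → ℂ) (x g : G) :
    ∑ χ : IrrCharacter G, part θ (χ : G → ℂ) x * conj ((χ : G → ℂ) g) = (Nat.card K : ℂ)⁻¹ *
      ∑ k : K, conj (θ k) * (if IsConj (x * (k : G)) g then (Nat.card (centralizer ({g} : Set G)) : ℂ) else 0) := by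
  have := Fintype.ofFinite G
  have h1 : ∀ χ : IrrCharacter G, part θ (χ : G → ℂ) x * conj ((χ : G → ℂ) g) =
      (Nat.card K : ℂ)⁻¹ * ∑ k : K, conj (θ k) * ((χ : G → ℂ) (x * k) * conj ((χ : G → ℂ) g)) := by
    intro χ
    rw [part_eq, mul_assoc, Finset.sum_mul]
    congr 1
    refine Finset.sum_congr rfl fun k _ => ?_
    ring
  rw [Finset.sum_congr rfl fun χ _ => h1 χ, ← Finset.mul_sum, Finset.sum_comm]
  congr 1
  refine Finset.sum_congr rfl fun k _ => ?_
  rw [← Finset.mul_sum, S0145.sum_irr_mul_conj]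
  congr 1
  split_ifs <;> rfl

theorem orderOf_mul (h : Loc p x K) [Finite G] (hp : p.Prime) {k : K} (hk : ¬ p ∣ orderOf k) :
    p ∣ orderOf (x * (k : G)) := by
  have h1 : (orderOf x).Coprime (orderOf (k : G)) := by
    rw [h.ord, Subgroup.orderOf_coe]
    exact (Nat.Prime.coprime_iff_not_dvd hp).2 hk
  rw [(show Commute x (k : G) from h.comm k.2).orderOf_mul_eq_mul_orderOf_of_coprime h1, h.ord]
  exact Dvd.intro _ rfl

theorem col_reg (h : Loc p x K) [Finite G] [Fintype (IrrCharacter G)] (hp : p.Prime) (θ : IrrCharacter K)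
    (h0 : (charDegree (θ : K → ℂ)).factorization p = (Nat.card K).factorization p) {g : G} (hg : ¬ p ∣ orderOf g) :
    ∑ χ : IrrCharacter G, part (θ : K → ℂ) (χ : G → ℂ) x * conj ((χ : G → ℂ) g) = 0 := by
  classical
  have := Fintype.ofFinite K
  rw [col_sum]
  rw [Finset.sum_eq_zero, mul_zero]
  intro k _
  by_cases hk : p ∣ orderOf k
  · rw [dz_vanish hp θ h0 hk, map_zero, zero_mul]
  · rw [if_neg, mul_zero]
    intro hc
    apply hg
    obtain ⟨c, hc⟩ := isConj_iff.1 hc
    have h1 : orderOf g = orderOf (x * (k : G)) := by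
      rw [← hc]
      have : c * (x * (k : G)) * c⁻¹ = MulAut.conj c (x * (k : G)) := rfl
      rw [this, MulEquiv.orderOf_eq]
    rw [h1]
    exact h.orderOf_mul hp hk

theorem col_sing (h : Loc p x K) [Finite G] [Fintype (IrrCharacter G)] (hp : p.Prime) (θ : IrrCharacter K)
    (h0 : (charDegree (θ : K → ℂ)).factorization p = (Nat.card K).factorization p) {l : K} (hl : ¬ p ∣ orderOf l) :
    ∑ χ : IrrCharacter G, part (θ : K → ℂ) (χ : G → ℂ) x * conj ((χ : G → ℂ) (x * (l : G))) =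
      p * conj ((θ : K → ℂ) l) := by
  classical
  have := Fintype.ofFinite K
  rw [col_sum]
  have h1 : ∀ k : K, conj ((θ : K → ℂ) k) * (if IsConj (x * (k : G)) (x * (l : G)) then
      (Nat.card (centralizer ({x * (l : G)} : Set G)) : ℂ) else 0) =
      if IsConj l k then conj ((θ : K → ℂ) l) * ((p : ℂ) * Nat.card (centralizer ({l} : Set K))) else 0 := by
    intro k
    by_cases hk : p ∣ orderOf k
    · rw [dz_vanish hp θ h0 hk, map_zero, zero_mul, if_neg]
      intro hc
      obtain ⟨c, hc⟩ := isConj_iff.1 hc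
      apply hl
      have h2 : orderOf k = orderOf l := by
        rw [← hc]
        have : c * l * c⁻¹ = MulAut.conj c l := rfl
        rw [this, MulEquiv.orderOf_eq]
      rwa [← h2]
    · rw [h.isConj_iff_of hp hk hl, h.card_cent hp hl]
      by_cases hc : IsConj k l
      · rw [if_pos hc, if_pos hc.symm]
        obtain ⟨c, rfl⟩ := isConj_iff.1 hc
        rw [isIrr_isClassFunction θ.2 k c]
        push_cast
        ring
      · rw [if_neg hc, if_neg (fun h => hc h.symm), mul_zero]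
  have h5 : (Finset.univ.filter fun a => IsConj l a).card = (centralizer ({l} : Set K)).index := by
    convert ClassMul.card_filter_isConj l
  rw [Finset.sum_congr rfl fun k _ => h1 k, ← Finset.sum_filter, Finset.sum_const, h5, nsmul_eq_mul]
  have h2 := ClassMul.card_centralizer_mul_index l
  have h3 : (Nat.card K : ℂ) ≠ 0 := by exact_mod_cast Nat.card_pos.ne'
  field_simp
  rw [← h2]
  ring

theorem col_norm (h : Loc p x K) [Finite G] [Fintype (IrrCharacter G)] (hp : p.Prime) (θ : IrrCharacter K)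
    (h0 : (charDegree (θ : K → ℂ)).factorization p = (Nat.card K).factorization p) :
    ∑ χ : IrrCharacter G, part (θ : K → ℂ) (χ : G → ℂ) x * conj (part (θ : K → ℂ) (χ : G → ℂ) x) = p := by
  classical
  have := Fintype.ofFinite K
  have h1 : ∀ χ : IrrCharacter G, part (θ : K → ℂ) (χ : G → ℂ) x * conj (part (θ : K → ℂ) (χ : G → ℂ) x) =
      (Nat.card K : ℂ)⁻¹ * ∑ l : K, (θ : K → ℂ) l *
        (part (θ : K → ℂ) (χ : G → ℂ) x * conj ((χ : G → ℂ) (x * (l : G)))) := by
    intro χ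
    have h2 : conj (part (θ : K → ℂ) (χ : G → ℂ) x) = (Nat.card K : ℂ)⁻¹ * ∑ l : K, (θ : K → ℂ) l *
        conj ((χ : G → ℂ) (x * (l : G))) := by
      rw [part_eq, map_mul, map_inv₀, map_natCast, map_sum]
      congr 1
      refine Finset.sum_congr rfl fun l _ => ?_
      rw [map_mul, Complex.conj_conj, mul_comm]
    rw [h2, ← mul_assoc, mul_comm (part _ _ _), mul_assoc, Finset.mul_sum]
    congr 1
    refine Finset.sum_congr rfl fun l _ => ?_
    ring
  rw [Finset.sum_congr rfl fun χ _ => h1 χ, ← Finset.mul_sum, Finset.sum_comm]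
  have h2 : ∀ l : K, ∑ χ : IrrCharacter G, (θ : K → ℂ) l *
        (part (θ : K → ℂ) (χ : G → ℂ) x * conj ((χ : G → ℂ) (x * (l : G)))) =
      p * ((θ : K → ℂ) l * conj ((θ : K → ℂ) l)) := by
    intro l
    rw [← Finset.mul_sum]
    by_cases hl : p ∣ orderOf l
    · rw [dz_vanish hp θ h0 hl]
      ring
    · rw [h.col_sing hp θ h0 hl]
      ring
  rw [Finset.sum_congr rfl fun l _ => h2 l, ← Finset.mul_sum]
  have h3 := classInner_irr_self θ.2
  rw [classInner_def] at h3
  have h4 : (Nat.card K : ℂ)⁻¹ * (p * ∑ l : K, (θ : K → ℂ) l * conj ((θ : K → ℂ) l)) =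
      p * ((Nat.card K : ℂ)⁻¹ * ∑ l : K, (θ : K → ℂ) l * conj ((θ : K → ℂ) l)) := by ring
  rw [h4, h3, mul_one]

/-! ### The local eigenvector relation -/

open scoped Classical in
/-- the sum over the conjugates of `g` outside `C(x)` -/
theorem sum_out (h : Loc p x K) [Finite G] [Fintype G] (hp : p.Prime) (χ : IrrCharacter G) (k : K) (g : G) :
    ∃ z : ℂ, IsIntegral ℤ z ∧ ∑ u with IsConj g u ∧ u ∉ centralizer ({x} : Set G), (χ : G → ℂ) (u * (x * k)) = p * z := by
  have := isIrr_isClassFunction χ.2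
  let X := {u : G // IsConj g u ∧ u ∉ centralizer ({x} : Set G)}
  have hconj : ∀ (a : zpowers x) (u : G), (IsConj g u ∧ u ∉ centralizer ({x} : Set G)) →
      (IsConj g ((a : G) * u * (a : G)⁻¹) ∧ (a : G) * u * (a : G)⁻¹ ∉ centralizer ({x} : Set G)) := by
    rintro ⟨a, i, hi⟩ u ⟨h1, h2⟩
    have hi' : x ^ i = a := hi
    refine ⟨h1.trans (isConj_iff.2 ⟨a, rfl⟩), fun h3 => h2 ?_⟩
    have ha : a ∈ centralizer ({x} : Set G) := by
      rw [← hi', mem_centralizer_singleton_iff]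
      exact ((Commute.refl x).zpow_left i).eq
    have h4 : u = a⁻¹ * (a * u * a⁻¹) * a := by group
    rw [h4]
    exact mul_mem (mul_mem (inv_mem ha) h3) ha
  let act : MulAction (zpowers x) X :=
    { smul := fun a u => ⟨(a : G) * u * (a : G)⁻¹, hconj a u u.2⟩
      one_smul := fun u => Subtype.ext (by
        show ((1 : zpowers x) : G) * u * ((1 : zpowers x) : G)⁻¹ = u
        simp)
      mul_smul := fun a b u => Subtype.ext (by
        show ((a * b : zpowers x) : G) * u * ((a * b : zpowers x) : G)⁻¹ = (a : G) * ((b : G) * u * (b : G)⁻¹) * (a : G)⁻¹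
        simp only [Subgroup.coe_mul]
        group) }
  have hsm : ∀ (a : zpowers x) (u : X), ((a • u : X) : G) = (a : G) * u * (a : G)⁻¹ := fun _ _ => rfl
  obtain ⟨r, hr, h1⟩ := DefectZero.sum_eq_of_dvd_orbit (H := zpowers x) (X := X) (integralClosure ℤ ℂ).toSubring p
    (fun u => (χ : G → ℂ) ((u : G) * (x * k))) (by
      rintro ⟨a, ha⟩ u
      obtain ⟨i, hi⟩ := ha
      have hi' : x ^ i = a := hi
      show (χ : G → ℂ) ((((⟨a, ⟨i, hi⟩⟩ : zpowers x) • u : X) : G) * (x * k)) = _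
      rw [hsm]
      have c1 : Commute a (x * (k : G)) := by
        rw [← hi']
        exact ((Commute.refl x).mul_right (show Commute x (k : G) from h.comm k.2)).zpow_left i
      have h2 : a * (u : G) * a⁻¹ * (x * k) = a * ((u : G) * (x * k)) * a⁻¹ := by
        calc a * (u : G) * a⁻¹ * (x * k) = a * (u : G) * a⁻¹ * ((x * k) * a) * a⁻¹ := by group
          _ = a * (u : G) * a⁻¹ * (a * (x * k)) * a⁻¹ := by rw [c1.eq]
          _ = _ := by group
      show (χ : G → ℂ) (a * (u : G) * a⁻¹ * (x * k)) = _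
      rw [h2, this]) (by
      intro u
      exact GaloisBasic.isIntegral_apply (isIrr_isCharacter χ.2) _) (by
      intro u _
      have h2 := MulAction.index_stabilizer (zpowers x) u
      have h3 : Nat.card (MulAction.orbit (zpowers x) u) ∣ p := by
        rw [Nat.card_coe_set_eq, ← h2]
        have h4 := Subgroup.index_dvd_card (MulAction.stabilizer (zpowers x) u)
        rwa [Nat.card_zpowers, h.ord] at h4
      rcases (Nat.dvd_prime hp).1 h3 with h4 | h4
      · exfalso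
        apply u.2.2
        have h5 : (⟨x, mem_zpowers x⟩ : zpowers x) • u = u := by
          rw [Nat.card_coe_set_eq, Set.ncard_eq_one] at h4
          obtain ⟨v, hv⟩ := h4
          have h6 : u ∈ MulAction.orbit (zpowers x) u := MulAction.mem_orbit_self u
          have h7 : (⟨x, mem_zpowers x⟩ : zpowers x) • u ∈ MulAction.orbit (zpowers x) u := MulAction.mem_orbit _ _
          rw [hv, Set.mem_singleton_iff] at h6 h7
          rw [h7, ← h6]
        have h6 := congrArg (fun v : X => (v : G)) h5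
        simp only [hsm] at h6
        rw [mem_centralizer_singleton_iff]
        calc (u : G) * x = x * u * x⁻¹ * x := by rw [h6]
          _ = x * u := by group
      · rw [h4])
  refine ⟨r, hr, ?_⟩
  rw [← h1, ← Finset.sum_subtype_eq_sum_filter, Finset.subtype_univ]

open scoped Classical in
/-- **the local eigenvector relation** -/
theorem eig (h : Loc p x K) [Finite G] [Fintype K] (hp : p.Prime) (χ : IrrCharacter G) (k : K) {g : G}
    (hg : ¬ p ∣ orderOf g) : ∃ z : ℂ, IsIntegral ℤ z ∧ om (χ : G → ℂ) g * (χ : G → ℂ) (x * k) =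
      ∑ s ∈ cls K g, (χ : G → ℂ) (x * (k * s : K)) + p * z := by
  have := Fintype.ofFinite G
  obtain ⟨z, hz, h1⟩ := h.sum_out hp χ k g
  refine ⟨z, hz, ?_⟩
  have h2 := ClassMul.sum_class_char_mul χ.2 g (x * (k : G))
  have h3 : om (χ : G → ℂ) g * (χ : G → ℂ) (x * k) =
      ((centralizer ({g} : Set G)).index : ℂ) * (χ : G → ℂ) g * (χ : G → ℂ) (x * k) / (χ : G → ℂ) 1 := by
    unfold om
    ring
  rw [h3, ← h2, ← h1]
  have h4 : ∑ s ∈ cls K g, (χ : G → ℂ) (x * (k * s : K)) =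
      ∑ u with IsConj g u ∧ u ∈ centralizer ({x} : Set G), (χ : G → ℂ) (u * (x * k)) := by
    refine Finset.sum_bij' (i := fun s _ => (s : G)) (j := fun u hu => ⟨u, h.mem_of_reg hp
      (Finset.mem_filter.1 hu).2.2 (by
        obtain ⟨c, hc⟩ := isConj_iff.1 (Finset.mem_filter.1 hu).2.1
        have h5 : orderOf u = orderOf g := by
          rw [← hc]
          have : c * g * c⁻¹ = MulAut.conj c g := rfl
          rw [this, MulEquiv.orderOf_eq]
        rwa [h5])⟩) ?_ ?_ ?_ ?_ ?_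
    · intro s hs
      rw [Finset.mem_filter]
      exact ⟨Finset.mem_univ _, mem_cls.1 hs, h.le s.2⟩
    · intro u hu
      rw [Finset.mem_filter] at hu
      exact mem_cls.2 hu.2.1
    · intro s _
      rfl
    · intro u _
      rfl
    · intro s _
      rw [Subgroup.coe_mul, ← mul_assoc, Blocks.Basic.irr_mul_comm χ.2]
  rw [h4, ← Finset.sum_filter_add_sum_filter_not (Finset.univ.filter fun u : G => IsConj g u)
    (fun u => u ∈ centralizer ({x} : Set G)), Finset.filter_filter, Finset.filter_filter]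

theorem cls_inv [Fintype K] {g : G} : ∀ s ∈ cls K g, ∀ a : K, a * s * a⁻¹ ∈ cls K g := by
  intro s hs a
  rw [mem_cls] at hs ⊢
  exact hs.trans (isConj_iff.2 ⟨a, rfl⟩)

/-- **the congruence of the central characters** -/
theorem omega (h : Loc p x K) [Finite G] [Fintype K] (hp : p.Prime) (χ : IrrCharacter G) (θ : IrrCharacter K)
    (h0 : (charDegree (θ : K → ℂ)).factorization p = (Nat.card K).factorization p) {g : G} (hg : ¬ p ∣ orderOf g)
    {w : ℤ} (hw : part (θ : K → ℂ) (χ : G → ℂ) x = w) (hwp : ¬ (p : ℤ) ∣ w) :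
    ∃ (m : ℕ) (z : ℂ), ¬ p ∣ m ∧ IsIntegral ℤ z ∧
      (m : ℂ) * (om (χ : G → ℂ) g - (∑ s ∈ cls K g, (θ : K → ℂ) s) / (θ : K → ℂ) 1) = p * z := by
  classical
  have : Finite (IrrCharacter K) := finite_irr
  have := Fintype.ofFinite (IrrCharacter K)
  have hcK : (Nat.card K : ℂ) ≠ 0 := by exact_mod_cast Nat.card_pos.ne'
  have hpc : (p : ℂ) ≠ 0 := by exact_mod_cast hp.ne_zero
  choose z hz he using fun k : K => h.eig hp χ k hg
  set T : IrrCharacter K → ℂ := fun φ => (∑ s ∈ cls K g, (φ : K → ℂ) s) / (φ : K → ℂ) 1 with hT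
  have hexp : ∀ k : K, (χ : G → ℂ) (x * k) =
      ∑ φ : IrrCharacter K, part (φ : K → ℂ) (χ : G → ℂ) x * (φ : K → ℂ) k := fun k =>
    sum_part (isIrr_isClassFunction χ.2) (fun y hy => h.comm hy) k
  have hz' : ∀ k : K, (p : ℂ) * z k = ∑ φ : IrrCharacter K,
      (part (φ : K → ℂ) (χ : G → ℂ) x * (om (χ : G → ℂ) g - T φ)) * (φ : K → ℂ) k := by
    intro k
    have h1 := he k
    have h2 : ∑ s ∈ cls K g, (χ : G → ℂ) (x * (k * s : K)) =
        ∑ φ : IrrCharacter K, part (φ : K → ℂ) (χ : G → ℂ) x * (T φ * (φ : K → ℂ) k) := by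
      rw [Finset.sum_congr rfl fun s _ => hexp (k * s), Finset.sum_comm]
      refine Finset.sum_congr rfl fun φ _ => ?_
      rw [← Finset.mul_sum, sum_invariant _ cls_inv]
    rw [h2, hexp k, Finset.mul_sum] at h1
    rw [← sub_eq_iff_eq_add'.2 h1, ← Finset.sum_sub_distrib]
    refine Finset.sum_congr rfl fun φ _ => ?_
    ring
  have hcf : IsClassFunction K z := by
    intro a b
    refine mul_left_cancel₀ hpc ?_
    rw [hz', hz']
    refine Finset.sum_congr rfl fun φ _ => ?_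
    rw [isIrr_isClassFunction φ.2]
  have hI := isIntegral_sum hcf hz θ
  have hsum : (p : ℂ) * ∑ k, conj ((θ : K → ℂ) k) * z k = Nat.card K * (w * (om (χ : G → ℂ) g - T θ)) := by
    rw [Finset.mul_sum]
    have h1 : ∀ k : K, (p : ℂ) * (conj ((θ : K → ℂ) k) * z k) = ∑ φ : IrrCharacter K,
        (part (φ : K → ℂ) (χ : G → ℂ) x * (om (χ : G → ℂ) g - T φ)) * ((φ : K → ℂ) k * conj ((θ : K → ℂ) k)) := by
      intro k
      rw [mul_left_comm, hz', Finset.mul_sum]
      refine Finset.sum_congr rfl fun φ _ => ?_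
      ring
    rw [Finset.sum_congr rfl fun k _ => h1 k, Finset.sum_comm, Finset.sum_eq_single θ]
    · rw [← Finset.mul_sum]
      have h2 := classInner_irr_self θ.2
      rw [classInner_def, inv_mul_eq_iff_eq_mul₀ hcK, mul_one] at h2
      rw [h2, hw]
      ring
    · intro φ _ hφ
      rw [← Finset.mul_sum]
      have h2 := classInner_irr_ne φ.2 θ.2 (fun h => hφ (Subtype.ext h))
      rw [classInner_def, mul_eq_zero] at h2
      rw [h2.resolve_left (inv_ne_zero hcK), mul_zero]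
    · intro h
      exact absurd (Finset.mem_univ _) h
  obtain ⟨n, hn0, hn⟩ := isIrr_apply_one θ.2
  have hdeg : charDegree (θ : K → ℂ) = n := Blocks.Basic.charDegree_of_eq hn
  obtain ⟨m, hm⟩ := Blocks.Knorr.charDegree_dvd θ.2
  rw [hdeg] at hm h0
  have hm0 : m ≠ 0 := by
    rintro rfl
    exact Nat.card_pos.ne' (by rw [hm, mul_zero])
  have hpm : ¬ p ∣ m := by
    intro hd
    have h1 : (Nat.card K).factorization p = n.factorization p + m.factorization p := by
      rw [hm, Nat.factorization_mul hn0.ne' hm0, Finsupp.add_apply]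
    have h2 : 0 < m.factorization p := hp.factorization_pos_of_dvd hm0 hd
    omega
  have hnc : (n : ℂ) ≠ 0 := by exact_mod_cast hn0.ne'
  have hfin : ((m : ℂ) * w) * (om (χ : G → ℂ) g - T θ) =
      p * ((∑ k, conj ((θ : K → ℂ) k) * z k) / (θ : K → ℂ) 1) := by
    rw [hn, mul_div_assoc', hsum, hm]
    push_cast
    field_simp
  rcases Int.natAbs_eq w with hw' | hw'
  · refine ⟨m * w.natAbs, _, ?_, hI, ?_⟩
    · rw [hp.dvd_mul]
      rintro (h1 | h1)
      · exact hpm h1
      · exact hwp (Int.natCast_dvd.2 h1)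
    · have hwc : ((w.natAbs : ℕ) : ℂ) = w := by rw [← Int.cast_natCast (R := ℂ), ← hw']
      rw [← hfin, Nat.cast_mul, hwc]
  · refine ⟨m * w.natAbs, _, ?_, hI.neg, ?_⟩
    · rw [hp.dvd_mul]
      rintro (h1 | h1)
      · exact hpm h1
      · exact hwp (Int.natCast_dvd.2 h1)
    · have hwc : ((w.natAbs : ℕ) : ℂ) = -w := by
        rw [← Int.cast_natCast (R := ℂ), ← Int.cast_neg]
        congr 1
        omega
      rw [mul_neg, ← hfin, Nat.cast_mul, hwc]
      ring

/-- **the column** -/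
theorem col (h : Loc p x K) [Finite G] [Fintype K] [Fintype (IrrCharacter G)] (hp : p.Prime) (θ : IrrCharacter K)
    (h0 : (charDegree (θ : K → ℂ)).factorization p = (Nat.card K).factorization p) :
    ∃ w : IrrCharacter G → ℤ, (∀ χ : IrrCharacter G, part (θ : K → ℂ) (χ : G → ℂ) x = w χ) ∧
      (∑ χ, (w χ) ^ 2 = (p : ℤ)) ∧
      (∀ g : G, ¬ p ∣ orderOf g → ∑ χ : IrrCharacter G, (w χ : ℂ) * (χ : G → ℂ) g = 0) ∧
      (∀ χ : IrrCharacter G, ¬ (p : ℤ) ∣ w χ → ∀ g : G, ¬ p ∣ orderOf g → ∃ (m : ℕ) (z : ℂ), ¬ p ∣ m ∧ IsIntegral ℤ z ∧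
        (m : ℂ) * (om (χ : G → ℂ) g - (∑ s ∈ cls K g, (θ : K → ℂ) s) / (θ : K → ℂ) 1) = p * z) := by
  choose w m hw _ _ using fun χ : IrrCharacter G => h.exists_int hp χ θ
  refine ⟨w, hw, ?_, ?_, fun χ hχ g hg => h.omega hp χ θ h0 hg (hw χ) hχ⟩
  · have h1 := h.col_norm hp θ h0
    have h2 : ((∑ χ, (w χ) ^ 2 : ℤ) : ℂ) = ((p : ℤ) : ℂ) := by
      push_cast
      rw [← h1]
      refine Finset.sum_congr rfl fun χ _ => ?_
      rw [hw, ← Complex.ofReal_intCast, Complex.conj_ofReal]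
      ring
    exact_mod_cast h2
  · intro g hg
    have h1 := congrArg (starRingEnd ℂ) (h.col_reg hp θ h0 hg)
    rw [map_zero, map_sum] at h1
    rw [← h1]
    refine Finset.sum_congr rfl fun χ _ => ?_
    rw [hw, map_mul, Complex.conj_conj, ← Complex.ofReal_intCast, Complex.conj_ofReal]

end Loc

end Cfsg.Agent.H343.LD
end

-- part: H66/LD/F23Loc
section
/-!
# `Fi₂₃`: the element `y5` of order 5, `C(y5) = ⟨y5⟩ × S₇` (helper66)

* `loc` : `Loc 5 (elw y5) (SL L7)`;
* `f7`, `e7` : the isomorphism of `Perm (Fin 7)` with `SL L7`;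
* `isConj_f7_iff` : the transpositions of `Fi₂₃` in `SL L7` are the 21 transpositions of `S₇`.
-/

set_option autoImplicit false
set_option linter.unusedSectionVars false
set_option maxRecDepth 100000

namespace Cfsg.Agent.H66.LD.F23

open Cfsg Subgroup Cfsg.Agent.Lib.PermNet Cfsg.Agent.Fischer.Fi23Hom Cfsg.Agent.LThreeFi23
open Cfsg.Agent.H838.Fi23 (SL el_mem elw_mem DD L7 c7 S7_comm_y5 cent5 y5_pow_S7 q5 q5_conj S7_comm_q5)
open Cfsg.Agent.Characters.Core
open Cfsg.Agent.H343.LD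
open Cfsg.Spor (Fi23)
open Cfsg.Agent.Fischer.Fi23Z (z0)

/-- the symmetric group of degree 7 -/
abbrev S7 := Equiv.Perm (Fin 7)

theorem ord5 : orderOf (elw y5 : Fi23) = 5 := by
  have : Fact (Nat.Prime 5) := ⟨by norm_num⟩
  exact orderOf_eq_prime pow5 y5_ne

theorem zpow_nat (i : ℤ) : ∃ j : ℕ, elw y5 ^ i = elw y5 ^ j := by
  refine ⟨(i % 5).toNat, ?_⟩
  have h1 := zpow_mod_orderOf (elw y5 : Fi23) i
  rw [ord5] at h1
  rw [← h1, ← zpow_natCast, Int.toNat_of_nonneg (Int.emod_nonneg _ (by norm_num))]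
  rfl

theorem q5_pow_conj (j : ℕ) : elw q5 ^ j * elw y5 * (elw q5 ^ j)⁻¹ = elw y5 ^ (2 ^ j) := by
  induction j with
  | zero => simp
  | succ j ih =>
    have h1 : elw q5 ^ (j + 1) * elw y5 * (elw q5 ^ (j + 1))⁻¹ =
        elw q5 * (elw q5 ^ j * elw y5 * (elw q5 ^ j)⁻¹) * (elw q5)⁻¹ := by
      rw [pow_succ']
      group
    rw [h1, ih, ← conj_pow, q5_conj, ← pow_mul]
    congr 1
    rw [pow_succ']

/-- **`C(y5) = ⟨y5⟩ × S₇`** -/
theorem loc : Loc 5 (elw y5 : Fi23) (SL L7) where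
  ord := ord5
  le := by
    intro x hx
    rw [mem_centralizer_singleton_iff]
    exact (S7_comm_y5 hx).symm
  dec := by
    intro w hw
    obtain ⟨i, x, hx, h⟩ := cent5 (mem_centralizer_singleton_iff.1 hw)
    obtain ⟨j, hj⟩ := zpow_nat i
    exact ⟨j, x, hx, by rw [h, hj]⟩
  nmem := by
    intro i hi
    have := y5_pow_S7 (i : ℤ) (by rwa [zpow_natCast])
    rwa [zpow_natCast] at this
  real := by
    intro i hi
    have key : ∀ r : ℕ, r < 5 → r ≠ 0 → ∃ j : ℕ, 2 ^ j % 5 = r := by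
      intro r hr h0
      have h4 : r = 1 ∨ r = 2 ∨ r = 3 ∨ r = 4 := by omega
      rcases h4 with rfl | rfl | rfl | rfl
      · exact ⟨0, rfl⟩
      · exact ⟨1, rfl⟩
      · exact ⟨3, rfl⟩
      · exact ⟨2, rfl⟩
    have hne : i % 5 ≠ 0 := by
      intro h
      have h1 : 5 ∣ i := Nat.dvd_of_mod_eq_zero h
      have h2 := Nat.dvd_gcd h1 (dvd_refl 5)
      rw [Nat.Coprime.gcd_eq_one hi] at h2
      omega
    obtain ⟨j, hj⟩ := key (i % 5) (Nat.mod_lt _ (by norm_num)) hne
    refine ⟨elw q5 ^ j, ?_, ?_⟩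
    · rw [q5_pow_conj, pow_eq_pow_iff_modEq, ord5]
      exact hj
    · intro k hk
      exact ((show Commute k (elw q5) from S7_comm_q5 hk).symm.pow_left j).eq

/-- the subgroup `S₇` -/
noncomputable def f7 : S7 →* Fi23 := H838.Fi23.exists_S7.choose

theorem f7_swap (i : Fin 6) : f7 (Equiv.swap i.castSucc i.succ) = el (c7 i) :=
  H838.Fi23.exists_S7.choose_spec.1 i

theorem f7_range : f7.range = SL L7 := H838.Fi23.exists_S7.choose_spec.2.1

theorem f7_inj : Function.Injective f7 := H838.Fi23.exists_S7.choose_spec.2.2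

theorem f7_a : f7 (Equiv.swap 0 1) = el .a := f7_swap 0
theorem f7_b : f7 (Equiv.swap 1 2) = el .b := f7_swap 1
theorem f7_c : f7 (Equiv.swap 2 3) = el .c := f7_swap 2

/-- the isomorphism onto `SL L7` -/
noncomputable def e7 : S7 ≃* SL L7 := (MonoidHom.ofInjective f7_inj).trans (MulEquiv.subgroupCongr f7_range)

theorem e7_coe (σ : S7) : ((e7 σ : SL L7) : Fi23) = f7 σ := rfl

theorem f7_mem (σ : S7) : f7 σ ∈ SL L7 := by rw [← e7_coe]; exact (e7 σ).2

theorem card_SL7 : Nat.card (SL L7) = 5040 := by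
  rw [← f7_range]
  have h1 : Nat.card S7 = 5040 := by
    rw [Nat.card_eq_fintype_card, Fintype.card_perm, Fintype.card_fin]
    rfl
  rw [← h1]
  exact (Nat.card_congr (MonoidHom.ofInjective f7_inj).toEquiv).symm

/-- the transpositions of `Fi₂₃` that lie in `S₇` are conjugate to `a` in `S₇` -/
theorem exists_of_fixed {p : ℕ} (hp : p < 31671) (h : rho (elw y5) p = p) :
    ∃ g ∈ SL L7, T p = g * el .a * g⁻¹ := by
  have h1 : p ∈ H838.Fi23.da.map Prod.fst ++ [] := by
    apply (LThreeFi23.pchk_mem H838.Fi23.pa p).1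
    refine ⟨hp, ?_⟩
    unfold H838.Fi23.cs0
    rw [LThreeFi23.pat_cons]
    exact ⟨⟨fun h' => absurd h h', fun h' => absurd h' Bool.false_ne_true⟩, fun c hc => absurd hc (by simp)⟩
  rw [List.append_nil] at h1
  obtain ⟨d, hd, rfl⟩ := List.mem_map.1 h1
  obtain ⟨h2, -, h4⟩ := H838.Fi23.stepChk_spec H838.Fi23.sa d hd
  refine ⟨_, h4, ?_⟩
  rw [← h2, T_act _ (by norm_num), T_a]

theorem isConj_z0_iff {x : Fi23} : IsConj z0 x ↔ x ∈ DD := by
  rw [H838.Fi23.DD_eq .z, isConj_iff]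
  constructor
  · rintro ⟨g, hg⟩
    exact ⟨g, hg.symm⟩
  · rintro ⟨g, hg⟩
    exact ⟨g, hg.symm⟩

/-- **2A ∩ `S₇`** -/
theorem isConj_f7_iff {s : S7} : IsConj z0 (f7 s) ↔ s.IsSwap := by
  constructor
  · intro h
    rw [isConj_z0_iff] at h
    have h1 : f7 s ∈ DD ∩ (centralizer ((zpowers (elw y5) : Subgroup Fi23) : Set Fi23) : Set Fi23) := by
      refine ⟨h, ?_⟩
      rw [SetLike.mem_coe, mem_centralizer_iff]
      rintro _ ⟨i, rfl⟩
      exact ((show Commute (elw y5) (f7 s) from S7_comm_y5 (f7_mem s)).zpow_left i).eq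
    obtain ⟨p, hp, h2, h3⟩ := H838.Fi23.mem_DD_centralizer.1 h1
    obtain ⟨g, hg, h4⟩ := exists_of_fixed hp h2
    rw [← f7_range] at hg
    obtain ⟨t, rfl⟩ := hg
    have h5 : s = t * Equiv.swap 0 1 * t⁻¹ := by
      apply f7_inj
      rw [h3, h4, map_mul, map_mul, map_inv, f7_a]
    refine ⟨t 0, t 1, fun h => absurd (t.injective h) (by decide), ?_⟩
    rw [h5, Equiv.swap_apply_apply]
  · rintro ⟨x, y, hxy, rfl⟩
    have h1 : IsConj (Equiv.swap (0 : Fin 7) 1) (Equiv.swap x y) := Equiv.Perm.isConj_swap (by decide) hxy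
    have h2 := f7.map_isConj h1
    rw [f7_a] at h2
    have h3 : IsConj z0 (el .a) := isConj_z0_iff.2 (H838.Fi23.el_mem_DD _)
    exact h3.trans h2

end Cfsg.Agent.H66.LD.F23
end

-- part: H552/LD/Part
section
/-!
# Sums over the 15 partitions of 7 (helper552)
-/

set_option autoImplicit false

namespace Cfsg.Agent.H552.LD.Part

open Cfsg Cfsg.Agent.H614 Finset

/-- the partitions of `n` with parts at most `m` (fuel `k`) -/
def pts : ℕ → ℕ → ℕ → List (List ℕ)
  | _, 0, _ => [[]]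
  | 0, _ + 1, _ => []
  | k + 1, n + 1, m => (List.range (min (n + 1) m)).flatMap fun i => (pts k (n - i) (i + 1)).map (fun l => (i + 1) :: l)

theorem mem_pts (k : ℕ) : ∀ (n m : ℕ) (s : Multiset ℕ), n ≤ k → s.sum = n → (∀ i ∈ s, 0 < i ∧ i ≤ m) →
    ∃ l ∈ pts k n m, (l : Multiset ℕ) = s := by
  induction k with
  | zero =>
    intro n m s hn hs hp
    have h0 : n = 0 := by omega
    subst h0
    refine ⟨[], by simp [pts], ?_⟩
    symm
    by_contra hne
    obtain ⟨a, ha⟩ := Multiset.exists_mem_of_ne_zero hne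
    have h1 := (hp a ha).1
    have h2 := Multiset.le_sum_of_mem ha
    omega
  | succ k ih =>
    intro n m s hn hs hp
    cases n with
    | zero =>
      refine ⟨[], by simp [pts], ?_⟩
      symm
      by_contra hne
      obtain ⟨a, ha⟩ := Multiset.exists_mem_of_ne_zero hne
      have h1 := (hp a ha).1
      have h2 := Multiset.le_sum_of_mem ha
      omega
    | succ n =>
      have hne : s ≠ 0 := by rintro rfl; simp at hs
      obtain ⟨r, hr, hmax⟩ : ∃ r ∈ s, ∀ i ∈ s, i ≤ r := by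
        obtain ⟨a, ha⟩ := Multiset.exists_mem_of_ne_zero hne
        obtain ⟨r, hr, h⟩ := s.toFinset.exists_max_image id ⟨a, by simpa using ha⟩
        exact ⟨r, by simpa using hr, fun i hi => h i (by simpa using hi)⟩
      obtain ⟨t, rfl⟩ := Multiset.exists_cons_of_mem hr
      obtain ⟨hr1, hr2⟩ := hp r hr
      rw [Multiset.sum_cons] at hs
      obtain ⟨l, hl, hlt⟩ := ih (n - (r - 1)) r t (by omega) (by omega)
        (fun i hi => ⟨(hp i (Multiset.mem_cons_of_mem hi)).1, hmax i (Multiset.mem_cons_of_mem hi)⟩)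
      refine ⟨r :: l, ?_, by rw [← hlt]; rfl⟩
      rw [pts, List.mem_flatMap]
      refine ⟨r - 1, by rw [List.mem_range]; omega, ?_⟩
      rw [List.mem_map]
      refine ⟨l, ?_, by congr 1; omega⟩
      rw [show r - 1 + 1 = r by omega]
      exact hl

/-- the 15 partitions of 7 -/
def TL : List (List ℕ) :=
  [[1,1,1,1,1,1,1], [2,1,1,1,1,1], [2,2,1,1,1], [2,2,2,1], [3,1,1,1,1], [3,2,1,1], [3,2,2], [3,3,1],
   [4,1,1,1], [4,2,1], [4,3], [5,1,1], [5,2], [6,1], [7]]

def T (k : Fin 15) : List ℕ := TL.get (k.cast rfl)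

theorem exists_T {s : Multiset ℕ} (hs : s.sum = 7) (hp : ∀ i ∈ s, 0 < i) : ∃ k : Fin 15, (T k : Multiset ℕ) = s := by
  obtain ⟨l, hl, h⟩ := mem_pts 7 7 7 s le_rfl hs (fun i hi => ⟨hp i hi, by
    rw [← hs]; exact Multiset.le_sum_of_mem hi⟩)
  have h1 : ∀ l ∈ pts 7 7 7, ∃ k : Fin 15, T k = l := by decide +kernel
  obtain ⟨k, hk⟩ := h1 l hl
  exact ⟨k, by rw [hk, h]⟩

def PT (k : Fin 15) : Nat.Partition 7 where
  parts := T k
  parts_pos := by
    intro i hi
    have h : ∀ k : Fin 15, ∀ i ∈ T k, 0 < i := by decide +kernel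
    exact h k i (by simpa using hi)
  parts_sum := by
    have h : ∀ k : Fin 15, (T k).sum = 7 := by decide +kernel
    simpa using h k

theorem PT_inj : Function.Injective PT := by
  intro k k' h
  have h1 : (T k : Multiset ℕ) = T k' := congrArg Nat.Partition.parts h
  have h2 : ∀ k k' : Fin 15, (T k : Multiset ℕ) = T k' → k = k' := by decide +kernel
  exact h2 k k' h1

theorem PT_surj : Function.Surjective PT := by
  intro ν
  obtain ⟨k, hk⟩ := exists_T ν.parts_sum (fun i hi => ν.parts_pos hi)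
  exact ⟨k, Nat.Partition.ext hk⟩

theorem zz_T : ∀ k : Fin 15, zz (T k : Multiset ℕ) =
    (![5040, 240, 48, 48, 72, 12, 24, 18, 24, 8, 12, 10, 10, 6, 7] : Fin 15 → ℕ) k := by decide +kernel

/-- the average over the partitions of 7 -/
theorem Z_seven (f : Multiset ℕ → ℚ) : Z 7 f = ∑ k : Fin 15, f (T k) / zz (T k : Multiset ℕ) := by
  unfold Z
  rw [← (Equiv.ofBijective PT ⟨PT_inj, PT_surj⟩).sum_comp (fun ν : Nat.Partition 7 => f ν.parts / zz ν.parts)]
  rfl

end Cfsg.Agent.H552.LD.Part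
end

private theorem dce_1e6056237a7d : _root_.True := by
  try have : _root_.True := by simp only [_root_.Cfsg.Agent.H343.LD.cls.eq_1]
  try have : _root_.True := by simp only [_root_.Cfsg.Agent.H552.LD.Part.pts.eq_2]
  try have : _root_.True := by simp only [_root_.Cfsg.Agent.H552.LD.Part.pts.eq_1]
  try have : _root_.True := by simp only [_root_.Cfsg.Agent.H343.LD.Loc.hom.congr_simp]
  try have : _root_.True := by simp only [_root_.Cfsg.Agent.H552.LD.Part.pts.eq_def]
  try have : _root_.True := by simp only [_root_.Cfsg.Agent.H343.LD.Loc.hom.eq_1]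
  try have : _root_.True := by simp only [_root_.Cfsg.Agent.H552.LD.Part.pts.eq_3]
  exact _root_.True.intro
end

-- part: H343/LD/KB
section
prune_inst 0x7f00000000000000000000000000000000000000000000000000000000000000000000000000000000000000000000000000000000000000000000000000000000000000000000000000000000000000003fffffffffffffffffffffffffffbeffbdffffffff
set_option linter.all false
open scoped Cfsg.Agent.FastGrp

-- part: H343/LD/Cls7
section
/-!
# S4910, the row `Fi₂₃`, `killB`: the sum over the class 3A (helper343)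
-/

set_option autoImplicit false
set_option maxRecDepth 100000

namespace Cfsg.Agent.H343.LD.Cls7

open Cfsg Subgroup Cfsg.Agent.LThreeFi23
open Cfsg.Agent.H838.Fi23 (SL L7)
open Cfsg.Agent.H66.LD.F23
open Cfsg.Agent.H343.LD
open Cfsg.Spor (Fi23)

theorem card_three : (Finset.univ.filter fun σ : S7 => σ.cycleType = {3}).card = 70 := by
  have h := Equiv.Perm.card_of_cycleType_singleton (α := Fin 7) (n := 3) (by norm_num) (by simp)
  rw [Fintype.card_fin] at h
  rw [h]
  rfl

theorem ab_eq : f7 (Equiv.swap (0 : Fin 7) 1 * Equiv.swap (1 : Fin 7) 2) = el .a * el .b := by rw [map_mul, f7_a, f7_b]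

theorem three_ab : (Equiv.swap (0 : Fin 7) 1 * Equiv.swap (1 : Fin 7) 2 : S7).cycleType = {3} := by
  have h : (Equiv.swap (1 : Fin 7) 0 * Equiv.swap (1 : Fin 7) 2 : S7).IsThreeCycle :=
    Equiv.Perm.isThreeCycle_swap_mul_swap_same (by decide) (by decide) (by decide)
  rw [Equiv.swap_comm (1 : Fin 7) 0] at h
  exact h

/-- **the sum over 3A** -/
theorem cls3 [Fintype (SL L7)] (θ : SL L7 → ℂ) (t15 : S7 → ℤ) (h : ∀ s, θ (e7 s) = t15 s)
    (h3 : ∀ s : S7, s.IsThreeCycle → t15 s = 3) (h33 : ∀ s : S7, s.cycleType = {3, 3} → t15 s = 0) {g : Fi23}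
    (hg : IsConj (el .a * el .b) g) : ∑ s ∈ cls (SL L7) g, θ s = 210 := by
  classical
  have h1 : ∑ s ∈ cls (SL L7) g, θ s = ∑ σ ∈ Finset.univ.filter (fun σ : S7 => IsConj g (f7 σ)), (t15 σ : ℂ) := by
    symm
    refine Finset.sum_bij' (i := fun σ _ => e7 σ) (j := fun s _ => e7.symm s) ?_ ?_ ?_ ?_ ?_
    · intro σ hσ
      rw [mem_cls]
      exact (Finset.mem_filter.1 hσ).2
    · intro s hs
      rw [mem_cls] at hs
      rw [Finset.mem_filter]
      refine ⟨Finset.mem_univ _, ?_⟩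
      rw [← e7_coe, e7.apply_symm_apply]
      exact hs
    · intro σ _
      exact e7.symm_apply_apply σ
    · intro s _
      exact e7.apply_symm_apply s
    · intro σ _
      exact (h σ).symm
  have ho : ∀ {x y : Fi23}, IsConj x y → orderOf x = orderOf y := by
    intro x y hxy
    obtain ⟨c, rfl⟩ := isConj_iff.1 hxy
    exact (MulEquiv.orderOf_eq (MulAut.conj c) x).symm
  have hab : orderOf (Equiv.swap (0 : Fin 7) 1 * Equiv.swap (1 : Fin 7) 2 : S7) = 3 := Equiv.Perm.IsThreeCycle.orderOf three_ab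
  have h2 : ∑ σ ∈ Finset.univ.filter (fun σ : S7 => IsConj g (f7 σ)), (t15 σ : ℂ) =
      ∑ σ ∈ Finset.univ.filter (fun σ : S7 => σ.cycleType = {3}), (t15 σ : ℂ) := by
    symm
    refine Finset.sum_subset ?_ ?_
    · intro σ hσ
      rw [Finset.mem_filter] at hσ ⊢
      refine ⟨Finset.mem_univ _, ?_⟩
      have h4 : IsConj (Equiv.swap (0 : Fin 7) 1 * Equiv.swap (1 : Fin 7) 2 : S7) σ :=
        Equiv.Perm.isConj_iff_cycleType_eq.2 (three_ab.trans hσ.2.symm)
      have h5 := f7.map_isConj h4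
      rw [ab_eq] at h5
      exact hg.symm.trans h5
    · intro σ hσ hn
      rw [Finset.mem_filter] at hσ
      have h4 : orderOf σ = 3 := by
        have h5 := ho (hg.trans hσ.2)
        rw [← ab_eq, orderOf_injective f7 f7_inj, orderOf_injective f7 f7_inj, hab] at h5
        exact h5.symm
      obtain ⟨n, h6⟩ := Equiv.Perm.cycleType_prime_order (σ := σ) (by rw [h4]; norm_num)
      rw [h4] at h6
      have h7 := Equiv.Perm.sum_cycleType_le σ
      rw [h6, Multiset.sum_replicate, Fintype.card_fin, smul_eq_mul] at h7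
      have h8 : n = 0 ∨ n = 1 := by omega
      rcases h8 with rfl | rfl
      · exfalso
        apply hn
        rw [Finset.mem_filter]
        exact ⟨Finset.mem_univ _, h6⟩
      · rw [h33 σ h6]
        norm_num
  rw [h1, h2, Finset.sum_congr rfl (g := fun _ => (3 : ℂ)), Finset.sum_const, card_three, nsmul_eq_mul]
  · norm_num
  · intro σ hσ
    rw [h3 σ (Finset.mem_filter.1 hσ).2]
    norm_num

end Cfsg.Agent.H343.LD.Cls7
end

-- part: H66/LD/F23Psi
section
/-!
# `Fi₂₃`: the class function `ψ s = χ (y5 s)` on `S₇` (helper66)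

* `exists_psi` : integer values, constant on the classes, `ψ s ≡ ψ (s ^ 5)`, `ψ s ≡ χ s` modulo 5;
* `sum_cls2` : the sum over 2A ∩ `S₇`;
* `part_e7` : the multiplicity in terms of `ψ`.
-/

set_option autoImplicit false
set_option linter.unusedSectionVars false
set_option maxRecDepth 100000

namespace Cfsg.Agent.H66.LD.F23

open Cfsg Subgroup Cfsg.Agent.Lib.PermNet Cfsg.Agent.Fischer.Fi23Hom Cfsg.Agent.LThreeFi23
open Cfsg.Agent.H838.Fi23 (SL el_mem elw_mem DD L7 c7 S7_comm_y5 cent5 y5_pow_S7 q5 q5_conj S7_comm_q5)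
open Cfsg.Agent.Characters.Core Cfsg.Agent.SmallSimple.ThetaSetup
open Cfsg.Agent.H343.LD
open Cfsg.Spor (Fi23)
open Cfsg.Agent.Fischer.Fi23Z (z0)
open scoped ComplexConjugate

theorem cycleType_pow_coprime {α : Type} [Fintype α] [DecidableEq α] (σ : Equiv.Perm α) {k : ℕ}
    (h : k.Coprime (orderOf σ)) : (σ ^ k).cycleType = σ.cycleType := by
  induction σ using Equiv.Perm.cycle_induction_on with
  | base_one => simp
  | base_cycles σ hσ =>
    have h1 : (σ ^ k).IsCycle := (hσ.pow_iff).2 h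
    rw [h1.cycleType, hσ.cycleType, Equiv.Perm.support_pow_coprime h]
  | induction_disjoint σ τ hd hσ ih1 ih2 =>
    rw [hd.orderOf] at h
    have h1 : k.Coprime (orderOf σ) := Nat.Coprime.coprime_dvd_right (Nat.dvd_lcm_left _ _) h
    have h2 : k.Coprime (orderOf τ) := Nat.Coprime.coprime_dvd_right (Nat.dvd_lcm_right _ _) h
    rw [hd.commute.mul_pow, (hd.pow_disjoint_pow k k).cycleType_mul, ih1 h1, ih2 h2, hd.cycleType_mul]

theorem isConj_pow_coprime {α : Type} [Fintype α] [DecidableEq α] (σ : Equiv.Perm α) {k : ℕ}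
    (h : k.Coprime (orderOf σ)) : IsConj σ (σ ^ k) :=
  Equiv.Perm.isConj_iff_cycleType_eq.2 (cycleType_pow_coprime σ h).symm

/-- conjugation in `F₂₀ × S₇` -/
theorem isConj_y5 {s t : S7} (h : IsConj s t) {m : ℕ} (hm : m.Coprime 5) :
    IsConj (elw y5 * f7 s) (elw y5 ^ m * f7 t) := by
  obtain ⟨n, hn, hc⟩ := loc.real m hm
  obtain ⟨u, hu⟩ := isConj_iff.1 h
  refine isConj_iff.2 ⟨n * f7 u, ?_⟩
  have h1 : elw y5 * f7 u = f7 u * elw y5 := S7_comm_y5 (f7_mem u)
  have h2 : n * f7 t = f7 t * n := hc _ (f7_mem t)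
  have h3 : f7 u * f7 s * (f7 u)⁻¹ = f7 t := by rw [← map_mul, ← map_inv, ← map_mul, hu]
  calc n * f7 u * (elw y5 * f7 s) * (n * f7 u)⁻¹ = n * (f7 u * elw y5) * f7 s * (f7 u)⁻¹ * n⁻¹ := by group
    _ = n * (elw y5 * f7 u) * f7 s * (f7 u)⁻¹ * n⁻¹ := by rw [h1]
    _ = n * elw y5 * (f7 u * f7 s * (f7 u)⁻¹) * n⁻¹ := by group
    _ = n * elw y5 * f7 t * n⁻¹ := by rw [h3]
    _ = n * elw y5 * n⁻¹ * (n * f7 t) * n⁻¹ := by group
    _ = n * elw y5 * n⁻¹ * (f7 t * n) * n⁻¹ := by rw [h2]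
    _ = (n * elw y5 * n⁻¹) * f7 t := by group
    _ = elw y5 ^ m * f7 t := by rw [hn]

theorem comm7 (s : S7) : Commute (elw y5) (f7 s) := S7_comm_y5 (f7_mem s)

theorem order_y5 (s : S7) : 5 ∣ orderOf (elw y5 * f7 s) ∧ orderOf s ∣ orderOf (elw y5 * f7 s) := by
  set n := orderOf (elw y5 * f7 s) with hn
  have h1 : elw y5 ^ n * f7 s ^ n = 1 := by rw [← (comm7 s).mul_pow, hn]; exact pow_orderOf_eq_one _
  have h2 : elw y5 ^ n ∈ SL L7 := by
    rw [eq_inv_of_mul_eq_one_left h1, ← map_pow, ← map_inv]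
    exact f7_mem _
  have h3 := loc.nmem n h2
  refine ⟨?_, ?_⟩
  · rw [← ord5]
    exact orderOf_dvd_of_pow_eq_one h3
  · rw [h3, one_mul, ← map_pow] at h1
    apply orderOf_dvd_of_pow_eq_one
    apply f7_inj
    rw [h1, map_one]

instance finite23 : Finite Fi23 := H713.Spor.Fi23.finite_fi23

/-- the values at `5 × S₇` are integers -/
theorem int_y5 (χ : IrrCharacter Fi23) (s : S7) : ∃ k : ℤ, (χ : Fi23 → ℂ) (elw y5 * f7 s) = k := by
  refine J3Type.CharTools.int_of_conj (isIrr_isCharacter χ.2) _ fun m hm => ?_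
  obtain ⟨h1, h2⟩ := order_y5 s
  have h5 : m.Coprime 5 := Nat.Coprime.coprime_dvd_right h1 hm
  have hs : m.Coprime (orderOf s) := Nat.Coprime.coprime_dvd_right h2 hm
  rw [(comm7 s).mul_pow, ← map_pow]
  exact isConj_y5 (isConj_pow_coprime s hs) h5

/-- the values at `S₇` are integers -/
theorem int_f7 (χ : IrrCharacter Fi23) (s : S7) : ∃ k : ℤ, (χ : Fi23 → ℂ) (f7 s) = k := by
  refine J3Type.CharTools.int_of_conj (isIrr_isCharacter χ.2) _ fun m hm => ?_
  have hs : m.Coprime (orderOf s) := by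
    rw [orderOf_injective f7 f7_inj] at hm
    exact hm
  rw [← map_pow]
  exact f7.map_isConj (isConj_pow_coprime s hs)

/-- **the class function `ψ`** -/
theorem exists_psi (χ : IrrCharacter Fi23) : ∃ ψ β : S7 → ℤ, (∀ s, (χ : Fi23 → ℂ) (elw y5 * f7 s) = ψ s) ∧
    (∀ s, (χ : Fi23 → ℂ) (f7 s) = β s) ∧ (∀ s t, IsConj s t → ψ s = ψ t) ∧
    (∀ s, (5 : ℤ) ∣ ψ s - β s) ∧ (∀ s, (5 : ℤ) ∣ ψ s - ψ (s ^ 5)) := by
  choose ψ hψ using int_y5 χ
  choose β hβ using int_f7 χ
  have hch := isIrr_isCharacter χ.2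
  have h5 : (elw y5 : Fi23) ^ 5 = 1 := loc.pow_p
  have h1 : ∀ s, (5 : ℤ) ∣ ψ s - β (s ^ 5) := by
    intro s
    refine J3Type.CharTools.int_congr hch (elw y5 * f7 s) (p := 5) (by norm_num) (hψ s) ?_
    rw [(comm7 s).mul_pow, h5, one_mul, ← map_pow, hβ]
  have h2 : ∀ s, (5 : ℤ) ∣ β s - β (s ^ 5) := by
    intro s
    refine J3Type.CharTools.int_congr hch (f7 s) (p := 5) (by norm_num) (hβ s) ?_
    rw [← map_pow, hβ]
  refine ⟨ψ, β, hψ, hβ, ?_, ?_, ?_⟩
  · intro s t hst
    have h3 := J3Type.CharTools.class_eq hch (isConj_y5 hst (m := 1) (by norm_num))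
    rw [pow_one, hψ, hψ] at h3
    exact_mod_cast h3
  · intro s
    have h3 := dvd_sub (h1 s) (h2 s)
    have e : ψ s - β (s ^ 5) - (β s - β (s ^ 5)) = ψ s - β s := by ring
    rwa [e] at h3
  · intro s
    have h3 := dvd_sub (h1 s) (h1 (s ^ 5))
    have h4 := dvd_sub h3 (h2 (s ^ 5))
    have e : ψ s - β (s ^ 5) - (ψ (s ^ 5) - β ((s ^ 5) ^ 5)) - (β (s ^ 5) - β ((s ^ 5) ^ 5)) =
        ψ s - ψ (s ^ 5) - 2 * (β (s ^ 5) - β ((s ^ 5) ^ 5)) + 0 := by ring
    have h5' := dvd_add h4 (Dvd.dvd.mul_left (h2 (s ^ 5)) 2)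
    rw [e] at h5'
    have e' : ψ s - ψ (s ^ 5) - 2 * (β (s ^ 5) - β ((s ^ 5) ^ 5)) + 0 + 2 * (β (s ^ 5) - β ((s ^ 5) ^ 5)) =
        ψ s - ψ (s ^ 5) := by ring
    rwa [e'] at h5'

open scoped Classical in
/-- the sum over 2A ∩ `S₇` -/
theorem sum_cls2 [Fintype (SL L7)] (F : SL L7 → ℂ) :
    ∑ u ∈ cls (SL L7) z0, F u = ∑ t : S7 with t.IsSwap, F (e7 t) := by
  refine Finset.sum_bij' (i := fun u _ => e7.symm u) (j := fun t _ => e7 t) ?_ ?_ ?_ ?_ ?_
  · intro u hu
    rw [mem_cls] at hu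
    rw [Finset.mem_filter]
    refine ⟨Finset.mem_univ _, isConj_f7_iff.1 ?_⟩
    rw [← e7_coe, MulEquiv.apply_symm_apply]
    exact hu
  · intro t ht
    rw [Finset.mem_filter] at ht
    rw [mem_cls, e7_coe]
    exact isConj_f7_iff.2 ht.2
  · intro u _
    exact e7.apply_symm_apply u
  · intro t _
    exact e7.symm_apply_apply t
  · intro u _
    rw [MulEquiv.apply_symm_apply]

theorem index_z0 : (centralizer ({z0} : Set Fi23)).index = 31671 := by
  have h1 := Subgroup.card_mul_index (centralizer ({z0} : Set Fi23))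
  rw [H713.Spor.Fi23.card_z0, card_G] at h1
  omega

variable {χ : IrrCharacter Fi23} {b c : ℤ}

theorem om_z0 (h : H174.Ore.Fi23Rk.Vals χ 5987520 (-221760) b c) : om (χ : Fi23 → ℂ) z0 = -1173 := by
  unfold om
  rw [index_z0, h.one, h.val_d z0 (IsConj.refl _)]
  norm_num

open scoped Classical in
/-- **the eigenvector equation modulo 5** -/
theorem eig_psi (h : H174.Ore.Fi23Rk.Vals χ 5987520 (-221760) b c) {ψ : S7 → ℤ}
    (hψ : ∀ s, (χ : Fi23 → ℂ) (elw y5 * f7 s) = ψ s) (s : S7) :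
    (5 : ℤ) ∣ (∑ t : S7 with t.IsSwap, ψ (s * t)) - 2 * ψ s := by
  have := Fintype.ofFinite (SL L7)
  obtain ⟨z, hz, h1⟩ := loc.eig (by norm_num) χ (e7 s) (g := z0) (by
    rw [H713.Spor.Fi23.orderOf_z0]
    norm_num)
  rw [om_z0 h, e7_coe, hψ, sum_cls2] at h1
  have h2 : ∀ t : S7, (χ : Fi23 → ℂ) (elw y5 * ((e7 s * e7 t : SL L7) : Fi23)) = ψ (s * t) := by
    intro t
    rw [← map_mul, e7_coe, hψ]
  rw [Finset.sum_congr rfl fun t _ => h2 t] at h1
  have h3 : ((-1173 * ψ s - ∑ t : S7 with t.IsSwap, ψ (s * t) : ℤ) : ℂ) = (5 : ℕ) * z := by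
    push_cast
    rw [h1]
    ring
  have h4 : (5 : ℤ) ∣ -1173 * ψ s - ∑ t : S7 with t.IsSwap, ψ (s * t) :=
    J3Type.CharTools.dvd_of_integral (by norm_num) hz h3
  have e : (∑ t : S7 with t.IsSwap, ψ (s * t)) - 2 * ψ s =
      -(-1173 * ψ s - ∑ t : S7 with t.IsSwap, ψ (s * t)) + 5 * (-235 * ψ s) := by ring
  rw [e]
  exact dvd_add (dvd_neg.2 h4) (Dvd.intro _ rfl)

theorem T_ne (x y : Lt) (h : x ≠ y) : el x ≠ el y := fun h' => h (H838.Fi23.el_inj h')

/-- the values at `1, (12), (12)(34), (123)` -/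
theorem vals (h : H174.Ore.Fi23Rk.Vals χ 5987520 (-221760) b c) {β : S7 → ℤ}
    (hβ : ∀ s, (χ : Fi23 → ℂ) (f7 s) = β s) : β 1 = 5987520 ∧ β (Equiv.swap 0 1) = -221760 ∧
      β (Equiv.swap 0 1 * Equiv.swap 2 3) = b ∧ β (Equiv.swap 0 1 * Equiv.swap 1 2) = c := by
  have hd : ∀ x : Lt, IsConj z0 (el x) := fun x => isConj_z0_iff.2 (H838.Fi23.el_mem_DD x)
  refine ⟨?_, ?_, ?_, ?_⟩
  · have h1 := hβ 1
    rw [map_one, h.one] at h1
    exact_mod_cast h1.symm
  · have h1 := hβ (Equiv.swap 0 1)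
    rw [f7_a, h.val_d _ (hd .a)] at h1
    exact_mod_cast h1.symm
  · have h1 := hβ (Equiv.swap 0 1 * Equiv.swap 2 3)
    rw [map_mul, f7_a, f7_c, h.val_c _ _ (hd .a) (hd .c) (T_ne _ _ (by decide)) (lt_comm _ _ (by decide))] at h1
    exact_mod_cast h1.symm
  · have h1 := hβ (Equiv.swap 0 1 * Equiv.swap 1 2)
    rw [map_mul, f7_a, f7_b, h.val_n _ _ (hd .a) (hd .b) ?_] at h1
    · exact_mod_cast h1.symm
    · intro h2
      have h3 : Equiv.swap (0 : Fin 7) 1 * Equiv.swap 1 2 = Equiv.swap 1 2 * Equiv.swap 0 1 := by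
        apply f7_inj
        rw [map_mul, map_mul, f7_a, f7_b, h2]
      revert h3
      decide

end Cfsg.Agent.H66.LD.F23
end

-- part: H343/LD/EndB
section
/-!
# S4910, the row Fi23: the end of `killB` (helper536 for helper66)

* `abs_le_one` : the multiplicity of a character of 5-defect zero in `χ(x ·)` is `0` or `±1` when `17 ∤ χ(1)`;
* `endB` : the degree `5987520` dies at the prime 5.
-/

set_option autoImplicit false

namespace Cfsg.Agent.H343.LD.EndB

open Cfsg Subgroup Cfsg.Agent.Characters Cfsg.Agent.Characters.Core Cfsg.Agent.SmallSimple.ThetaSetup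
open Cfsg.Agent.H174.Ore.Fi23Rk Cfsg.Agent.H343.LD
open Cfsg.Spor (Fi23)
open Cfsg.Agent.Lib.PermNet Cfsg.Agent.Fischer.Fi23Hom Cfsg.Agent.LThreeFi23
open scoped ComplexConjugate

/-- a column of norm 5 orthogonal to the column of 17 -/
theorem num {ι : Type*} [Fintype ι] {w c : ι → ℤ} (hw : ∑ i, w i ^ 2 = 5) (hc : ∀ i, c i = 0 ∨ c i = 1 ∨ c i = -1)
    (ho : ∑ i, w i * c i = 0) {j : ι} (hj : c j ≠ 0) : |w j| ≤ 1 := by
  classical
  by_contra hcon
  push Not at hcon
  rw [← Finset.add_sum_erase _ _ (Finset.mem_univ j)] at hw ho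
  have h1 : ∀ i ∈ Finset.univ.erase j, |w i * c i| ≤ w i ^ 2 := by
    intro i _
    rcases hc i with h | h | h
    · rw [h, mul_zero, abs_zero]; positivity
    · rw [h, mul_one, ← sq_abs]
      have := abs_nonneg (w i)
      rcases Int.lt_or_le 0 |w i| with h2 | h2
      · nlinarith only []
      · have : |w i| = 0 := by omega
        rw [this]; norm_num
    · rw [h, mul_neg_one, abs_neg, ← sq_abs]
      have := abs_nonneg (w i)
      rcases Int.lt_or_le 0 |w i| with h2 | h2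
      · nlinarith only []
      · have : |w i| = 0 := by omega
        rw [this]; norm_num
  have h2 := (Finset.abs_sum_le_sum_abs (fun i => w i * c i) (Finset.univ.erase j)).trans (Finset.sum_le_sum h1)
  have h3 : |∑ i ∈ Finset.univ.erase j, w i * c i| = |w j| := by
    have h4 : ∑ i ∈ Finset.univ.erase j, w i * c i = - (w j * c j) := by linarith
    rw [h4, abs_neg, abs_mul]
    rcases hc j with h | h | h
    · exact absurd h hj
    · rw [h]; simp
    · rw [h]; simp
  rw [h3] at h2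
  have h5 : |w j| ^ 2 = w j ^ 2 := sq_abs _
  nlinarith only [hw, hcon, h2, h5]

theorem reg17 : ¬ 5 ∣ orderOf (elw y17) := by
  have h := H839.Fi23.card_y17
  rw [Nat.card_zpowers] at h
  rw [h]; norm_num

/-- the multiplicity of a character of 5-defect zero in `χ(x ·)` is at most 1 in absolute value -/
theorem abs_le_one {x : Fi23} {K : Subgroup Fi23} (h : Loc 5 x K) (θ : IrrCharacter K)
    (h0 : (charDegree (θ : K → ℂ)).factorization 5 = (Nat.card K).factorization 5) {χ : IrrCharacter Fi23} {n : ℤ}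
    (hn : (χ : Fi23 → ℂ) 1 = n) (h17 : ¬ (17 : ℤ) ∣ n) {A : ℤ} (hA : part (θ : K → ℂ) (χ : Fi23 → ℂ) x = A) :
    |A| ≤ 1 := by
  classical
  have := H713.Spor.Fi23.finite_fi23
  have := Fintype.ofFinite K
  have : Finite (IrrCharacter Fi23) := finite_irr
  have := Fintype.ofFinite (IrrCharacter Fi23)
  obtain ⟨w, hw, hs, ho, -⟩ := h.col (by norm_num) θ h0
  choose c hc1 hc2 hc3 using Cfsg.Agent.H856.F23.vals17
  have h1 := ho (elw y17) reg17
  have h2 : ∑ ψ, w ψ * c ψ = 0 := by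
    have h3 : ((∑ ψ, w ψ * c ψ : ℤ) : ℂ) = 0 := by
      rw [← h1]
      push_cast
      refine Finset.sum_congr rfl fun ψ _ => ?_
      rw [hc2]
    exact_mod_cast h3
  have h4 : w χ = A := by
    have := hw χ
    rw [hA] at this
    exact_mod_cast this.symm
  rw [← h4]
  refine num hs hc1 h2 ?_
  intro h5
  have h6 := hc3 χ n hn
  rw [h5, sub_zero] at h6
  exact h17 h6

end Cfsg.Agent.H343.LD.EndB
end

-- part: H536/LD/ColOne
section
/-!
# S4910, the row Fi23, `killB`: the column of 5, the central characters of 2A and 3A, the end (helper536 for helper66)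

* `col_one` : the multiplicity of a character of 5-defect zero of `S₇` in `χ(y5 ·)`;
* `om2`, `om3` : the central character at 2A and 3A for the family of degree `5987520`;
* `endC` : the final arithmetic.
-/

set_option autoImplicit false
set_option maxRecDepth 100000

namespace Cfsg.Agent.H536.LD.ColOne

open Cfsg Subgroup Cfsg.Agent.Characters Cfsg.Agent.Characters.Core Cfsg.Agent.SmallSimple.ThetaSetup
open Cfsg.Agent.H174.Ore.Fi23Rk Cfsg.Agent.H343.LD Cfsg.Agent.H343.LD.EndB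
open Cfsg.Spor (Fi23)
open Cfsg.Agent.Lib.PermNet Cfsg.Agent.Fischer.Fi23Hom Cfsg.Agent.LThreeFi23
open Cfsg.Agent.H838.Fi23
open Cfsg.Agent.Fischer.Fi23Z (z0)

theorem index_uu {g : Fi23} (h : IsConj uu g) : (centralizer ({g} : Set Fi23)).index = 297285120 := by
  have := H713.Spor.Fi23.finite_fi23
  have h1 := Subgroup.card_mul_index (centralizer ({g} : Set Fi23))
  rw [card_C_of_conj h, card_G] at h1
  omega

theorem isConj_j : IsConj z0 (el .j) := by
  have h := Fischer.Fi23Class.isConj_gen (x := .j) hle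
  exact h

theorem zj_ne : el .z * el .j ≠ el .j * el .z := by
  intro h
  have h1 : (uu : Fi23)⁻¹ = uu := by rw [uu_inv]; exact h.symm
  have h2 : orderOf (uu : Fi23) ∣ 2 := orderOf_dvd_of_pow_eq_one (by
    rw [pow_two]
    nth_rewrite 1 [← h1]
    exact inv_mul_cancel _)
  rw [order_uu] at h2
  norm_num at h2

theorem val_uu {χ : IrrCharacter Fi23} {n a b c : ℤ} (h : Vals χ n a b c) {g : Fi23} (hg : IsConj uu g) :
    (χ : Fi23 → ℂ) g = c := by
  obtain ⟨k, rfl⟩ := isConj_iff.1 hg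
  rw [isIrr_isClassFunction χ.2]
  exact h.val_n (el .z) (el .j) (IsConj.refl _) isConj_j zj_ne

/-- the central character at 3A -/
theorem om3 {χ : IrrCharacter Fi23} {b c : ℤ} (h : Vals χ 5987520 (-221760) b c) {g : Fi23} (hg : IsConj uu g) :
    63 * om (χ : Fi23 → ℂ) g = 3128 * c := by
  unfold om
  rw [index_uu hg, val_uu h hg, h.one]
  push_cast
  ring

/-- **The degree 5987520 dies at 5** (with the congruence at 3A). -/
theorem endC {x : Fi23} {K : Subgroup Fi23} [Fintype K] (h : Loc 5 x K) (θ15 θ35 : IrrCharacter K)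
    (d15 : charDegree (θ15 : K → ℂ) = 15) (d35 : charDegree (θ35 : K → ℂ) = 35)
    (hK : (Nat.card K).factorization 5 = 1) {χ : IrrCharacter Fi23} {b c i : ℤ}
    (hV : Vals χ 5987520 (-221760) b c) (hc : c = -24759 + 2457 * i) (hb : b = 271040 - 19712 * i) {A B : ℤ}
    (hA : part (θ15 : K → ℂ) (χ : Fi23 → ℂ) x = A) (hB : part (θ35 : K → ℂ) (χ : Fi23 → ℂ) x = B)
    (hA5 : (5 : ℤ) ∣ A - (b - c)) (hB5 : (5 : ℤ) ∣ B - (c - 2 * b)) {g : Fi23} (hg : IsConj uu g)
    (hcls : ∑ s ∈ cls K g, (θ15 : K → ℂ) s = 210) : False := by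
  classical
  have := H713.Spor.Fi23.finite_fi23
  have f15 : (charDegree (θ15 : K → ℂ)).factorization 5 = (Nat.card K).factorization 5 := by
    rw [hK, d15, show 15 = 5 ^ 1 * 3 by norm_num, Nat.factorization_mul (by norm_num) (by norm_num)]
    simp [Nat.Prime.factorization (show Nat.Prime 5 by norm_num),
      Nat.Prime.factorization (show Nat.Prime 3 by norm_num)]
  have f35 : (charDegree (θ35 : K → ℂ)).factorization 5 = (Nat.card K).factorization 5 := by
    rw [hK, d35, show 35 = 5 ^ 1 * 7 by norm_num, Nat.factorization_mul (by norm_num) (by norm_num)]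
    simp [Nat.Prime.factorization (show Nat.Prime 5 by norm_num),
      Nat.Prime.factorization (show Nat.Prime 7 by norm_num)]
  have a1 := abs_le_one h θ15 f15 (n := 5987520) (by rw [hV.one]) (by norm_num) hA
  have b1 := abs_le_one h θ35 f35 (n := 5987520) (by rw [hV.one]) (by norm_num) hB
  rw [abs_le] at a1 b1
  have e1 : (A - (i - 1)) % 5 = 0 := by omega
  have e2 : (B - (i + 1)) % 5 = 0 := by omega
  clear hA5 hB5
  have hi : (5 : ℤ) ∣ i := by
    have e3 : A = -1 ∨ A = 0 ∨ A = 1 := by (clear * - a1; omega)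
    have e4 : B = -1 ∨ B = 0 ∨ B = 1 := by omega
    rcases e3 with rfl | rfl | rfl <;> rcases e4 with rfl | rfl | rfl <;> (clear * - e1 e2; omega)
  have hA0 : ¬ (5 : ℤ) ∣ A := by (clear * - e1 hi; omega)
  have hg5 : ¬ 5 ∣ orderOf g := by
    obtain ⟨k, rfl⟩ := isConj_iff.1 hg
    rw [show k * uu * k⁻¹ = MulAut.conj k uu from rfl, MulEquiv.orderOf_eq, order_uu]
    norm_num
  have hw : ∃ (m : ℕ) (z : ℂ), ¬ 5 ∣ m ∧ IsIntegral ℤ z ∧
        (m : ℂ) * (om (χ : Fi23 → ℂ) g - (∑ s ∈ cls K g, (θ15 : K → ℂ) s) / (θ15 : K → ℂ) 1) = (5 : ℕ) * z :=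
    h.omega (by norm_num) χ θ15 f15 hg5 hA (by exact_mod_cast hA0)
  obtain ⟨m, z, hm, hz, he⟩ := hw
  have h15 : (θ15 : K → ℂ) 1 = 15 := by
    rw [Blocks.Basic.irr_one_eq_charDegree θ15.2, d15]
    norm_num
  have hom : om (χ : Fi23 → ℂ) g = ((3128 * (39 * i - 393) : ℤ) : ℂ) := by
    have h3 := om3 hV hg
    rw [hc] at h3
    push_cast at h3 ⊢
    linear_combination h3 / 63
  rw [hom, hcls, h15] at he
  have h2 := H856.F23.dvd_of_integral (q := 5) (by norm_num) (a := m * (3128 * (39 * i - 393) - 14)) (b := 0)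
    ⟨z, hz, by
      rw [Int.cast_zero, zero_add, ← he]
      push_cast
      ring⟩
  rw [sub_zero] at h2
  have h5 : Prime (5 : ℤ) := Int.prime_iff_natAbs_prime.2 (by norm_num)
  rcases h5.dvd_or_dvd h2 with h3 | h3
  · exact hm (by exact_mod_cast h3)
  · (clear * - hi h3; omega)

end Cfsg.Agent.H536.LD.ColOne
end

-- part: H536/LD/ColTwo
section
/-!
# S4910, the row Fi23, `killB`: products of two letters in the class 3A (helper536 for helper66)
-/

set_option autoImplicit false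
set_option maxRecDepth 100000

namespace Cfsg.Agent.H536.LD.ColOne

open Cfsg Subgroup
open Cfsg.Spor (Fi23)
open Cfsg.Agent.Lib.PermNet Cfsg.Agent.Fischer.Fi23Hom Cfsg.Agent.LThreeFi23
open Cfsg.Agent.H838.Fi23

theorem isConj_uu_of {x y : Lt} (h : Nat.beq (ptw [x] (pt y)) (pt y) = false) : IsConj uu (el x * el y) := by
  have h1 := isConj_pair (pt_lt x) (pt_lt y) (ncom_pt rfl h)
  rwa [T_pt, T_pt] at h1

theorem isConj_uu_ab : IsConj uu (el .a * el .b) := isConj_uu_of (by decide +kernel)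

end Cfsg.Agent.H536.LD.ColOne
end

-- part: H552/LD/Frob
section
/-!
# Pruned evaluation of Frobenius' functions for three and four beads (helper552)
-/

set_option autoImplicit false

namespace Cfsg.Agent.H552.LD.Frob

open Cfsg Cfsg.Agent.H614 Finset

theorem dn3_0 (a b c r : ℕ) : dn ![a, b, c] 0 r = ![a - r, b, c] := by
  funext i; (revert i; simp only [dn, _root_.Fin.forall_fin_succ, _root_.Nat.succ_eq_add_one, Nat.reduceAdd, Fin.isValue, _root_.Matrix.cons_val_zero, _root_.Function.update_self, _root_.ne_eq, _root_.Fin.succ_ne_zero, _root_.not_false_eq_true, _root_.Function.update_of_ne, _root_.Matrix.cons_val_succ, _root_.implies_true, _root_.and_self])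

theorem dn3_1 (a b c r : ℕ) : dn ![a, b, c] 1 r = ![a, b - r, c] := by
  funext i; (revert i; simp only [dn, _root_.Fin.forall_fin_succ, _root_.Nat.succ_eq_add_one, Nat.reduceAdd, Fin.isValue, _root_.Matrix.cons_val_one, _root_.Matrix.cons_val_zero, _root_.ne_eq, _root_.zero_ne_one, _root_.not_false_eq_true, _root_.Function.update_of_ne, _root_.Matrix.cons_val_succ, _root_.Fin.succ_zero_eq_one, _root_.Function.update_self, _root_.Matrix.cons_val_fin_one, _root_.Fin.succ_one_eq_two, Fin.reduceEq, _root_.Matrix.cons_val, _root_.IsEmpty.forall_iff, _root_.and_self])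

theorem dn3_2 (a b c r : ℕ) : dn ![a, b, c] 2 r = ![a, b, c - r] := by
  funext i; (revert i; simp only [dn, _root_.Fin.forall_fin_succ, _root_.Nat.succ_eq_add_one, Nat.reduceAdd, Fin.isValue, _root_.Matrix.cons_val, _root_.ne_eq, Fin.reduceEq, _root_.not_false_eq_true, _root_.Function.update_of_ne, _root_.Matrix.cons_val_zero, _root_.Matrix.cons_val_succ, _root_.Fin.succ_zero_eq_one, _root_.Matrix.cons_val_one, _root_.Matrix.cons_val_fin_one, _root_.Fin.succ_one_eq_two, _root_.Function.update_self, _root_.IsEmpty.forall_iff, _root_.and_self])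

theorem dn4_0 (a b c d r : ℕ) : dn ![a, b, c, d] 0 r = ![a - r, b, c, d] := by
  funext i; (revert i; simp only [dn, _root_.Fin.forall_fin_succ, _root_.Nat.succ_eq_add_one, Nat.reduceAdd, Fin.isValue, _root_.Matrix.cons_val_zero, _root_.Function.update_self, _root_.ne_eq, _root_.Fin.succ_ne_zero, _root_.not_false_eq_true, _root_.Function.update_of_ne, _root_.Matrix.cons_val_succ, _root_.implies_true, _root_.and_self])

theorem dn4_1 (a b c d r : ℕ) : dn ![a, b, c, d] 1 r = ![a, b - r, c, d] := by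
  funext i; (revert i; simp only [dn, _root_.Fin.forall_fin_succ, _root_.Nat.succ_eq_add_one, Nat.reduceAdd, Fin.isValue, _root_.Matrix.cons_val_one, _root_.Matrix.cons_val_zero, _root_.ne_eq, _root_.zero_ne_one, _root_.not_false_eq_true, _root_.Function.update_of_ne, _root_.Matrix.cons_val_succ, _root_.Fin.succ_zero_eq_one, _root_.Function.update_self, _root_.Fin.succ_one_eq_two, Fin.reduceEq, _root_.Matrix.cons_val, _root_.Matrix.cons_val_fin_one, Fin.reduceSucc, _root_.IsEmpty.forall_iff, _root_.and_self])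

theorem dn4_2 (a b c d r : ℕ) : dn ![a, b, c, d] 2 r = ![a, b, c - r, d] := by
  funext i; (revert i; simp only [dn, _root_.Fin.forall_fin_succ, _root_.Nat.succ_eq_add_one, Nat.reduceAdd, Fin.isValue, _root_.Matrix.cons_val, _root_.ne_eq, Fin.reduceEq, _root_.not_false_eq_true, _root_.Function.update_of_ne, _root_.Matrix.cons_val_zero, _root_.Matrix.cons_val_succ, _root_.Fin.succ_zero_eq_one, _root_.Matrix.cons_val_one, _root_.Fin.succ_one_eq_two, _root_.Function.update_self, _root_.Matrix.cons_val_fin_one, Fin.reduceSucc, _root_.IsEmpty.forall_iff, _root_.and_self])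

theorem dn4_3 (a b c d r : ℕ) : dn ![a, b, c, d] 3 r = ![a, b, c, d - r] := by
  funext i; (revert i; simp only [dn, _root_.Fin.forall_fin_succ, _root_.Nat.succ_eq_add_one, Nat.reduceAdd, Fin.isValue, _root_.Matrix.cons_val, _root_.ne_eq, Fin.reduceEq, _root_.not_false_eq_true, _root_.Function.update_of_ne, _root_.Matrix.cons_val_zero, _root_.Matrix.cons_val_succ, _root_.Fin.succ_zero_eq_one, _root_.Matrix.cons_val_one, _root_.Fin.succ_one_eq_two, _root_.Matrix.cons_val_fin_one, Fin.reduceSucc, _root_.Function.update_self, _root_.IsEmpty.forall_iff, _root_.and_self])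

def G3 : List ℕ → ℕ → ℕ → ℕ → ℤ
  | [], a, b, c => vac ![a, b, c]
  | r :: ν, a, b, c => if a = b ∨ a = c ∨ b = c then 0 else
      (if r ≤ a then G3 ν (a - r) b c else 0) + (if r ≤ b then G3 ν a (b - r) c else 0) +
      (if r ≤ c then G3 ν a b (c - r) else 0)

def G4 : List ℕ → ℕ → ℕ → ℕ → ℕ → ℤ
  | [], a, b, c, d => vac ![a, b, c, d]
  | r :: ν, a, b, c, d => if a = b ∨ a = c ∨ b = c ∨ a = d ∨ b = d ∨ c = d then 0 else
      (if r ≤ a then G4 ν (a - r) b c d else 0) + (if r ≤ b then G4 ν a (b - r) c d else 0) +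
      (if r ≤ c then G4 ν a b (c - r) d else 0) + (if r ≤ d then G4 ν a b c (d - r) else 0)

theorem F_zero {m : ℕ} (ν : List ℕ) {β : Fin m → ℕ} (h : ¬ Function.Injective β) : F ν β = 0 := by
  rw [← FM_coe]; exact FM_eq_zero_of_not_injective _ h

theorem not_inj {m : ℕ} {β : Fin m → ℕ} {i j : Fin m} (hij : i ≠ j) (h : β i = β j) : ¬ Function.Injective β :=
  fun hi => hij (hi h)

theorem G3_eq (ν : List ℕ) : ∀ a b c : ℕ, F ν ![a, b, c] = G3 ν a b c := by
  induction ν with
  | nil => intro a b c; rfl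
  | cons r ν ih =>
    intro a b c
    rw [G3]
    by_cases h : a = b ∨ a = c ∨ b = c
    · rw [if_pos h]
      apply F_zero
      rcases h with h | h | h
      · exact not_inj (i := 0) (j := 1) (by decide) (by simpa using h)
      · exact not_inj (i := 0) (j := 2) (by decide) (by simpa using h)
      · exact not_inj (i := 1) (j := 2) (by decide) (by simpa using h)
    · rw [if_neg h, F_cons, Fin.sum_univ_three, dn3_0, dn3_1, dn3_2, ih, ih, ih]
      simp only [Matrix.cons_val_zero, Matrix.cons_val_one, Matrix.cons_val]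
      congr

theorem G4_eq (ν : List ℕ) : ∀ a b c d : ℕ, F ν ![a, b, c, d] = G4 ν a b c d := by
  induction ν with
  | nil => intro a b c d; rfl
  | cons r ν ih =>
    intro a b c d
    rw [G4]
    by_cases h : a = b ∨ a = c ∨ b = c ∨ a = d ∨ b = d ∨ c = d
    · rw [if_pos h]
      apply F_zero
      rcases h with h | h | h | h | h | h
      · exact not_inj (i := 0) (j := 1) (by decide) (by simpa using h)
      · exact not_inj (i := 0) (j := 2) (by decide) (by simpa using h)
      · exact not_inj (i := 1) (j := 2) (by decide) (by simpa using h)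
      · exact not_inj (i := 0) (j := 3) (by decide) (by simpa using h)
      · exact not_inj (i := 1) (j := 3) (by decide) (by simpa using h)
      · exact not_inj (i := 2) (j := 3) (by decide) (by simpa using h)
    · rw [if_neg h, F_cons, Fin.sum_univ_four, dn4_0, dn4_1, dn4_2, dn4_3, ih, ih, ih, ih]
      simp only [Matrix.cons_val_zero, Matrix.cons_val_one, Matrix.cons_val]
      congr

end Cfsg.Agent.H552.LD.Frob
end

-- part: H552/LD/SevenChar
section
/-!
# Two 5-defect zero characters of `S₇` and the transposition class sum modulo 5 (helper552)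

`phi15` = [5,1,1] (degree 15), `phi35` = [3,2,1,1] (degree 35), both with value `-1` at `(12)(34)`.
`main15`, `main35` : the multiplicities modulo 5 of these two characters in an integer valued class function `psi` of
`S₇` that is, modulo 5, an eigenvector of the class sum of the transpositions with eigenvalue 2 and vanishes modulo 5
at 1, at the transpositions and at the elements of order divisible by 5.
-/

set_option autoImplicit false

namespace Cfsg.Agent.H552.LD.SevenTab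

open Cfsg Cfsg.Agent.H614 Cfsg.Agent.H552.LD.Part Equiv Finset

/-! ### The characters -/

def b15 : Fin 3 → ℕ := ![1, 2, 7]

def b35 : Fin 4 → ℕ := ![1, 2, 4, 6]

theorem mono15 : StrictMono b15 := by rw [Fin.strictMono_iff_lt_succ]; decide +kernel

theorem mono35 : StrictMono b35 := by rw [Fin.strictMono_iff_lt_succ]; decide +kernel

noncomputable def phi15 : IrrCharacter (Perm (Fin 7)) :=
  ⟨ch (Fin 7) b15, isIrr_ch mono15 (by rw [Fintype.card_fin]; decide +kernel)⟩

noncomputable def phi35 : IrrCharacter (Perm (Fin 7)) :=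
  ⟨ch (Fin 7) b35, isIrr_ch mono35 (by rw [Fintype.card_fin]; decide +kernel)⟩

theorem val15 : ∀ k : Fin 15, FM (T k : Multiset ℕ) b15 =
    (![15, 5, -1, -3, 3, -1, -1, 0, 1, -1, 1, 0, 0, 0, 1] : Fin 15 → ℤ) k := by
  intro k
  rw [FM_coe]
  unfold b15
  rw [Frob.G3_eq]
  revert k
  decide +kernel

theorem val35 : ∀ k : Fin 15, FM (T k : Multiset ℕ) b35 =
    (![35, -5, -1, -1, -1, 1, -1, -1, 1, 1, 1, 0, 0, -1, 0] : Fin 15 → ℤ) k := by
  intro k
  rw [FM_coe]
  unfold b35
  rw [Frob.G4_eq]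
  revert k
  decide +kernel

theorem phi15_apply {s : Perm (Fin 7)} {k : Fin 15} (h : ty s = (T k : Multiset ℕ)) :
    (phi15 : Perm (Fin 7) → ℂ) s = ((![15, 5, -1, -3, 3, -1, -1, 0, 1, -1, 1, 0, 0, 0, 1] : Fin 15 → ℤ) k : ℂ) := by
  show ch (Fin 7) b15 s = _
  rw [ch_apply, h, val15]

theorem phi35_apply {s : Perm (Fin 7)} {k : Fin 15} (h : ty s = (T k : Multiset ℕ)) :
    (phi35 : Perm (Fin 7) → ℂ) s = ((![35, -5, -1, -1, -1, 1, -1, -1, 1, 1, 1, 0, 0, -1, 0] : Fin 15 → ℤ) k : ℂ) := by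
  show ch (Fin 7) b35 s = _
  rw [ch_apply, h, val35]

theorem ty_one' : ty (1 : Perm (Fin 7)) = (T 0 : Multiset ℕ) := by
  rw [ty_one, Fintype.card_fin]; decide +kernel

theorem phi15_one : (phi15 : Perm (Fin 7) → ℂ) 1 = 15 := by
  rw [phi15_apply ty_one']; simp

theorem phi35_one : (phi35 : Perm (Fin 7) → ℂ) 1 = 35 := by
  rw [phi35_apply ty_one']; simp

theorem deg15 : charDegree (phi15 : Perm (Fin 7) → ℂ) = 15 := by
  unfold charDegree; rw [phi15_one]; simp

theorem deg35 : charDegree (phi35 : Perm (Fin 7) → ℂ) = 35 := by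
  unfold charDegree; rw [phi35_one]; simp

end Cfsg.Agent.H552.LD.SevenTab
end

-- part: H552/LD/SevenPerm
section
/-!
# Representatives of the 15 classes of `S₇` and the products with the 21 transpositions (helper552)
-/

set_option autoImplicit false

namespace Cfsg.Agent.H552.LD.SevenTab

open Cfsg Cfsg.Agent.H614 Cfsg.Agent.H552.LD.Part Equiv Finset

def fn (c : ℕ) : Fin 7 → Fin 7 := fun i => Fin.ofNat 7 (c / 8 ^ (i : ℕ) % 8)

noncomputable def P (c : ℕ) : Perm (Fin 7) :=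
  if h : Function.Bijective (fn c) then Equiv.ofBijective (fn c) h else 1

theorem P_apply {c : ℕ} (h : Function.Injective (fn c)) (i : Fin 7) : P c i = fn c i := by
  unfold P
  rw [dif_pos (Finite.injective_iff_bijective.1 h)]
  rfl

def RL : List ℕ := [1754760, 1754753, 1754305, 1725633, 1754641, 1751057, 1521681, 1693713,
  1753297, 1724625, 1265873, 1738961, 1509585, 1595601, 219345]

def Rn (k : Fin 15) : ℕ := RL.getD k 0

/-- representatives of the 15 classes -/
noncomputable def R (k : Fin 15) : Perm (Fin 7) := P (Rn k)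

def AL : List ℕ := [0, 0, 0, 0, 0, 0, 1, 1, 1, 1, 1, 2, 2, 2, 2, 3, 3, 3, 4, 4, 5]
def BL : List ℕ := [1, 2, 3, 4, 5, 6, 2, 3, 4, 5, 6, 3, 4, 5, 6, 4, 5, 6, 5, 6, 6]

def ta (n : Fin 21) : Fin 7 := Fin.ofNat 7 (AL.getD n 0)
def tb (n : Fin 21) : Fin 7 := Fin.ofNat 7 (BL.getD n 0)

/-- the 21 transpositions -/
def tr (n : Fin 21) : Perm (Fin 7) := swap (ta n) (tb n)

def CL : List (List ℕ) := [[1, 1, 1, 1, 1, 1, 1, 1, 1, 1, 1, 1, 1, 1, 1, 1, 1, 1, 1, 1, 1],
  [0, 4, 4, 4, 4, 4, 4, 4, 4, 4, 4, 2, 2, 2, 2, 2, 2, 2, 2, 2, 2],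
  [1, 8, 8, 5, 5, 5, 8, 8, 5, 5, 5, 1, 5, 5, 5, 5, 5, 5, 3, 3, 3],
  [2, 9, 9, 9, 9, 6, 9, 9, 9, 9, 6, 2, 9, 9, 6, 9, 9, 6, 2, 6, 6],
  [1, 1, 8, 8, 8, 8, 1, 8, 8, 8, 8, 8, 8, 8, 8, 5, 5, 5, 5, 5, 5],
  [2, 2, 11, 11, 9, 9, 2, 11, 11, 9, 9, 11, 11, 9, 9, 4, 7, 7, 7, 7, 6],
  [3, 3, 12, 12, 12, 12, 3, 12, 12, 12, 12, 12, 12, 12, 12, 5, 10, 10, 10, 10, 5],
  [5, 5, 13, 13, 13, 10, 5, 13, 13, 13, 10, 13, 13, 13, 10, 5, 5, 10, 5, 10, 10],
  [4, 2, 4, 11, 11, 11, 4, 2, 11, 11, 11, 4, 11, 11, 11, 11, 11, 11, 9, 9, 9],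
  [5, 3, 5, 13, 13, 12, 5, 3, 13, 13, 12, 5, 13, 13, 12, 13, 13, 12, 8, 10, 10],
  [7, 6, 7, 14, 14, 14, 7, 6, 14, 14, 14, 7, 14, 14, 14, 14, 14, 14, 9, 9, 9],
  [8, 5, 5, 8, 13, 13, 8, 5, 5, 13, 13, 8, 5, 13, 13, 8, 13, 13, 13, 13, 12],
  [9, 6, 6, 9, 14, 14, 9, 6, 6, 14, 14, 9, 6, 14, 14, 9, 14, 14, 14, 14, 11],
  [11, 9, 7, 9, 11, 14, 11, 9, 7, 9, 14, 11, 9, 7, 14, 11, 9, 14, 11, 14, 14],
  [13, 12, 10, 10, 12, 13, 13, 12, 10, 10, 12, 13, 12, 10, 10, 13, 12, 10, 13, 12, 13]]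

/-- the class of `R k * tr n` -/
def C (k : Fin 15) (n : Fin 21) : Fin 15 := Fin.ofNat 15 ((CL.getD k []).getD n 0)

def WL : List (List ℕ) := [[1754760, 1754704, 1754200, 1750112, 1717352, 1455216, 1754641, 1754137, 1750049, 1717289, 1455153, 1753626,
    1749538, 1716778, 1454642, 1745443, 1712683, 1450547, 1679916, 1417780, 1155637],
  [1754760, 1754704, 1754200, 1750112, 1717352, 1455216, 1754760, 1754312, 1750280, 1717576, 1455496, 1754760,
    1751176, 1718920, 1457288, 1747144, 1714888, 1453256, 1682184, 1420552, 1158472],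
  [1753626, 1753752, 1753808, 1750112, 1717352, 1455216, 1754312, 1754760, 1750280, 1717576, 1455496, 1754760,
    1741026, 1708266, 1446130, 1741082, 1708378, 1446298, 1754760, 1525384, 1267336],
  [1608474, 1753752, 1753808, 1680168, 1680224, 1455216, 1754312, 1754760, 1681736, 1682184, 1455496, 1682184,
    1607466, 1607522, 1446130, 1608026, 1608474, 1446298, 1754760, 856436, 856492],
  [1754704, 1754641, 1754200, 1750112, 1717352, 1455216, 1754760, 1754312, 1750280, 1717576, 1455496, 1754760,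
    1751176, 1718920, 1457288, 1754760, 1726088, 1468040, 1693832, 1435784, 1174152],
  [1743056, 1738961, 1745632, 1745688, 1717352, 1455216, 1747144, 1746696, 1747144, 1717576, 1455496, 1751176,
    1754760, 1718920, 1457288, 1754760, 1726088, 1468040, 1754760, 1525384, 1754760],
  [481488, 219345, 1745632, 1745688, 1155952, 1156008, 743624, 1746696, 1747144, 1158024, 1158472, 1751176,
    1754760, 1170568, 1174152, 1174152, 559475, 559531, 560035, 560483, 1754760],
  [1614179, 1581923, 1644384, 1644776, 1645336, 1455216, 1642851, 1653512, 1656648, 1661128, 1455496, 1693832,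
    1718920, 1754760, 1457288, 1726088, 1693832, 559923, 1754760, 560035, 560483],
  [1753808, 1754200, 1753297, 1750112, 1717352, 1455216, 1754312, 1754760, 1750280, 1717576, 1455496, 1754760,
    1751176, 1718920, 1457288, 1754760, 1726088, 1468040, 1754760, 1525384, 1267336],
  [1628368, 1754200, 1595601, 1680168, 1680224, 1455216, 1661128, 1754760, 1681736, 1682184, 1455496, 1693832,
    1690248, 1693832, 1457288, 1726088, 1754760, 1468040, 1754760, 1525384, 1754760],
  [481488, 569772, 219345, 858536, 858928, 859488, 743624, 856492, 871752, 874888, 879368, 1005704, 944776,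
    969864, 1005704, 1267336, 1468040, 1754760, 1525384, 1267336, 1754760],
  [1743056, 1745688, 1753297, 1738961, 1717352, 1455216, 1747144, 1750280, 1741082, 1717576, 1455496, 1751176,
    1754760, 1718920, 1457288, 1754760, 1726088, 1468040, 1754760, 1525384, 1754760],
  [481488, 1745688, 1753297, 219345, 1155952, 1156008, 743624, 1750280, 1741082, 1158024, 1158472, 1005704,
    1754760, 1170568, 1174152, 1267336, 1238664, 1267336, 1525384, 1754760, 1754760],
  [1628368, 1645336, 1680224, 1738961, 1595601, 1455216, 1661128, 1682184, 1717576, 1608474, 1455496, 1693832,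
    1718920, 1754760, 1457288, 1726088, 1754760, 1468040, 1754760, 1525384, 1754760],
  [481488, 584472, 859488, 1738961, 1595601, 219345, 743624, 879368, 1158472, 1608474, 289562, 1005704, 1174152,
    1457288, 560483, 1267336, 1468040, 1754760, 1525384, 1754760, 1754760]]

def Wn (k : Fin 15) (n : Fin 21) : ℕ := (WL.getD k []).getD n 0

theorem ta_lt_tb : ∀ n : Fin 21, ta n < tb n := by decide +kernel

theorem tab_inj : ∀ n m : Fin 21, ta n = ta m → tb n = tb m → n = m := by decide +kernel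

theorem tr_inj : Function.Injective tr := by
  intro n m h
  have h1 := ta_lt_tb n
  have h2 := ta_lt_tb m
  have h3 : swap (ta n) (tb n) = swap (ta m) (tb m) := h
  have h4 : swap (ta n) (tb n) (ta n) = swap (ta m) (tb m) (ta n) := by rw [h3]
  have h5 : swap (ta n) (tb n) (tb n) = swap (ta m) (tb m) (tb n) := by rw [h3]
  rw [swap_apply_left] at h4
  rw [swap_apply_right] at h5
  by_cases e1 : ta n = ta m
  · refine tab_inj n m e1 ?_
    rw [e1, swap_apply_left] at h4
    exact h4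
  · by_cases e2 : ta n = tb m
    · rw [e2, swap_apply_right] at h4
      rw [e2, h4] at h1
      exact absurd h1 (not_lt.2 h2.le)
    · rw [swap_apply_of_ne_of_ne e1 e2] at h4
      exact absurd h4 h1.ne'

theorem exists_tab : ∀ a b : Fin 7, a < b → ∃ n : Fin 21, ta n = a ∧ tb n = b := by decide +kernel

theorem exists_tr (a b : Fin 7) (hab : a ≠ b) : ∃ n : Fin 21, tr n = swap a b := by
  rcases lt_or_gt_of_ne hab with h | h
  · obtain ⟨n, h1, h2⟩ := exists_tab a b h
    exact ⟨n, by unfold tr; rw [h1, h2]⟩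
  · obtain ⟨n, h1, h2⟩ := exists_tab b a h
    exact ⟨n, by unfold tr; rw [h1, h2, swap_comm]⟩

theorem isSwap_tr (n : Fin 21) : (tr n).IsSwap := ⟨_, _, (ta_lt_tb n).ne, rfl⟩

/-- the transposition as a function -/
def sf (a b x : Fin 7) : Fin 7 := if x = a then b else if x = b then a else x

theorem swap_eq (a b x : Fin 7) : swap a b x = sf a b x := by
  rw [swap_apply_def]; rfl

theorem R_inj : ∀ k : Fin 15, ∀ i j : Fin 7, fn (Rn k) i = fn (Rn k) j → i = j := by decide +kernel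

theorem W_inj : ∀ k : Fin 15, ∀ n : Fin 21, ∀ i j : Fin 7, fn (Wn k n) i = fn (Wn k n) j → i = j := by (set_option synthInstance.maxSize 100000 in exact Cfsg.Agent.Lib.Refl.of (by decide +kernel))

theorem W_fn : ∀ k : Fin 15, ∀ n : Fin 21, ∀ i : Fin 7,
    fn (Wn k n) (fn (Rn (C k n)) i) = fn (Rn k) (sf (ta n) (tb n) (fn (Wn k n) i)) := by (delta Cfsg.Agent.H552.LD.SevenTab.sf; set_option synthInstance.maxSize 100000 in exact Cfsg.Agent.Lib.Refl.of (by decide +kernel))

theorem W_spec (k : Fin 15) (n : Fin 21) : P (Wn k n) * R (C k n) = (R k * tr n) * P (Wn k n) := by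
  ext i
  have hW : Function.Injective (fn (Wn k n)) := fun i j h => W_inj k n i j h
  have hR : ∀ k, Function.Injective (fn (Rn k)) := fun k i j h => R_inj k i j h
  rw [Perm.mul_apply, Perm.mul_apply, Perm.mul_apply, P_apply hW, P_apply hW]
  unfold R tr
  rw [P_apply (hR _), P_apply (hR _), swap_eq, W_fn]

def ML : List (List ℕ) := [[0, 21, 0, 0, 0, 0, 0, 0, 0, 0, 0, 0, 0, 0, 0],
  [1, 0, 10, 0, 10, 0, 0, 0, 0, 0, 0, 0, 0, 0, 0],
  [0, 2, 0, 3, 0, 12, 0, 0, 4, 0, 0, 0, 0, 0, 0],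
  [0, 0, 3, 0, 0, 0, 6, 0, 0, 12, 0, 0, 0, 0, 0],
  [0, 3, 0, 0, 0, 6, 0, 0, 12, 0, 0, 0, 0, 0, 0],
  [0, 0, 3, 0, 1, 0, 1, 4, 0, 6, 0, 6, 0, 0, 0],
  [0, 0, 0, 3, 0, 2, 0, 0, 0, 0, 4, 0, 12, 0, 0],
  [0, 0, 0, 0, 0, 6, 0, 0, 0, 0, 6, 0, 0, 9, 0],
  [0, 0, 2, 0, 4, 0, 0, 0, 0, 3, 0, 12, 0, 0, 0],
  [0, 0, 0, 2, 0, 4, 0, 0, 1, 0, 2, 0, 4, 8, 0],
  [0, 0, 0, 0, 0, 0, 2, 4, 0, 3, 0, 0, 0, 0, 12],
  [0, 0, 0, 0, 0, 5, 0, 0, 5, 0, 0, 0, 1, 10, 0],
  [0, 0, 0, 0, 0, 0, 5, 0, 0, 5, 0, 1, 0, 0, 10],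
  [0, 0, 0, 0, 0, 0, 0, 3, 0, 6, 0, 6, 0, 0, 6],
  [0, 0, 0, 0, 0, 0, 0, 0, 0, 0, 7, 0, 7, 7, 0]]

def Mt (k j : Fin 15) : ℕ := (ML.getD k []).getD j 0

theorem count_C : ∀ k j : Fin 15, #{n | C k n = j} = Mt k j := by (set_option synthInstance.maxSize 100000 in exact Cfsg.Agent.Lib.Refl.of (by decide +kernel))

end Cfsg.Agent.H552.LD.SevenTab
end

-- part: H552/LD/SevenTab
section
/-!
# Two 5-defect zero characters of `S₇` and the transposition class sum modulo 5 (helper552)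

`phi15` = [5,1,1] (degree 15), `phi35` = [3,2,1,1] (degree 35), both with value `-1` at `(12)(34)`.
`main15`, `main35` : the multiplicities modulo 5 of these two characters in an integer valued class function `psi` of
`S₇` that is, modulo 5, an eigenvector of the class sum of the transpositions with eigenvalue 2 and vanishes modulo 5
at 1, at the transpositions and at the elements of order divisible by 5.
-/

set_option autoImplicit false

namespace Cfsg.Agent.H552.LD.SevenTab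

open Cfsg Cfsg.Agent.H614 Cfsg.Agent.H552.LD.Part Equiv Finset

/-! ### The types of the representatives -/

def OL : List ℕ := [1, 2, 2, 2, 3, 6, 6, 3, 4, 4, 12, 5, 10, 6, 7]

theorem R_inj' (k : Fin 15) : Function.Injective (fn (Rn k)) := fun i j h => R_inj k i j h

theorem R_coe (k : Fin 15) : ⇑(R k) = fn (Rn k) := funext fun i => P_apply (R_inj' k) i

theorem fn_order : ∀ k : Fin 15, (∀ i, (fn (Rn k))^[OL.getD k 0] i = i) ∧
    ∀ m < OL.getD k 0, 0 < m → ∃ i, (fn (Rn k))^[m] i ≠ i := by decide +kernel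

theorem orderOf_R (k : Fin 15) : orderOf (R k) = OL.getD k 0 := by
  obtain ⟨h1, h2⟩ := fn_order k
  have h0 : ∀ k : Fin 15, 0 < OL.getD k 0 := by decide +kernel
  rw [orderOf_eq_iff (h0 k)]
  refine ⟨?_, fun m hm h h3 => ?_⟩
  · ext i
    rw [← Perm.iterate_eq_pow, R_coe, h1 i, Perm.one_apply]
  · obtain ⟨i, hi⟩ := h2 m hm h
    apply hi
    rw [← R_coe, Perm.iterate_eq_pow, h3, Perm.one_apply]

theorem support_R (k : Fin 15) : (R k).support = univ.filter (fun i => fn (Rn k) i ≠ i) := by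
  ext i
  rw [Perm.mem_support, R_coe, Finset.mem_filter]
  simp

def lc : List ℕ → ℕ
  | [] => 1
  | a :: l => Nat.lcm (if 2 ≤ a then a else 1) (lc l)

def sm : List ℕ → ℕ
  | [] => 0
  | a :: l => (if 2 ≤ a then a else 0) + sm l

theorem lc_eq (l : List ℕ) : (((l : Multiset ℕ).filter (fun i => 2 ≤ i)).lcm) = lc l := by
  induction l with
  | nil => simp [lc]
  | cons a l ih =>
    rw [← Multiset.cons_coe, lc, ← ih]
    by_cases h : 2 ≤ a
    · rw [Multiset.filter_cons_of_pos _ h, Multiset.lcm_cons, if_pos h]; rfl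
    · rw [Multiset.filter_cons_of_neg _ h, if_neg h, Nat.lcm_one_left]

theorem sm_eq (l : List ℕ) : (((l : Multiset ℕ).filter (fun i => 2 ≤ i)).sum) = sm l := by
  induction l with
  | nil => simp [sm]
  | cons a l ih =>
    rw [← Multiset.cons_coe, sm, ← ih]
    by_cases h : 2 ≤ a
    · rw [Multiset.filter_cons_of_pos _ h, Multiset.sum_cons, if_pos h]
    · rw [Multiset.filter_cons_of_neg _ h, if_neg h, zero_add]

theorem lcm_T : ∀ k k' : Fin 15, (lc (T k') = OL.getD k 0 ∧
    sm (T k') = (univ.filter (fun i => fn (Rn k) i ≠ i)).card) → k' = k := by decide +kernel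

theorem ty_R (k : Fin 15) : ty (R k) = (T k : Multiset ℕ) := by
  obtain ⟨k', hk⟩ := exists_T (s := ty (R k)) (by rw [ty_sum, Fintype.card_fin]) (ty_pos _)
  have h1 : (R k).cycleType = (T k' : Multiset ℕ).filter (fun i => 2 ≤ i) := by
    rw [hk]; exact (Perm.filter_parts_partition_eq_cycleType (σ := R k)).symm
  have h2 := lcm_T k k' (by
    rw [← lc_eq, ← sm_eq, ← h1, Perm.lcm_cycleType, orderOf_R, Perm.sum_cycleType, support_R]; exact ⟨rfl, rfl⟩)
  rw [← hk, h2]

theorem isConj_of_ty {s : Perm (Fin 7)} {k : Fin 15} (h : ty s = (T k : Multiset ℕ)) : IsConj (R k) s := by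
  rw [← ty_eq_iff, ty_R, h]

/-! ### The class sum of the transpositions -/

variable {ψ : Perm (Fin 7) → ℤ}

theorem psi_conj (hc : ∀ g s, ψ (g * s * g⁻¹) = ψ s) {s t : Perm (Fin 7)} (h : IsConj s t) : ψ s = ψ t := by
  obtain ⟨g, rfl⟩ := isConj_iff.1 h
  exact (hc g s).symm

open Classical in
theorem sum_swap {X : Type*} [AddCommMonoid X] (F : Perm (Fin 7) → X) :
    ∑ t : Perm (Fin 7) with t.IsSwap, F t = ∑ n : Fin 21, F (tr n) := by
  symm
  refine Finset.sum_bij (fun n _ => tr n) (fun n _ => ?_) (fun n _ m _ h => tr_inj h) (fun t ht => ?_)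
    (fun n _ => rfl)
  · rw [Finset.mem_filter]; exact ⟨Finset.mem_univ _, isSwap_tr n⟩
  · rw [Finset.mem_filter] at ht
    obtain ⟨a, b, hab, h⟩ := ht.2
    obtain ⟨n, hn⟩ := exists_tr a b hab
    exact ⟨n, Finset.mem_univ _, by rw [hn, h]⟩

open Classical in
theorem sum_R (hc : ∀ g s, ψ (g * s * g⁻¹) = ψ s) (k : Fin 15) :
    ∑ t : Perm (Fin 7) with t.IsSwap, ψ (R k * t) = ∑ j : Fin 15, (Mt k j : ℤ) * ψ (R j) := by
  rw [sum_swap]
  have h1 : ∀ n : Fin 21, ψ (R k * tr n) = ψ (R (C k n)) := fun n => by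
    rw [← hc (P (Wn k n)) (R (C k n)), W_spec k n, mul_inv_cancel_right]
  rw [Finset.sum_congr rfl (fun n _ => h1 n), ← Finset.sum_fiberwise univ (fun n => C k n)]
  refine Finset.sum_congr rfl fun j _ => ?_
  rw [Finset.sum_congr rfl (g := fun _ => ψ (R j)) (fun n hn => by rw [(Finset.mem_filter.1 hn).2]),
    Finset.sum_const, count_C, nsmul_eq_mul]

def L15 (k : Fin 15) : ℤ := ([2, 2, 2, 4, 3, 4, 2, 2, 3, 4, 2, 0, 0, 0, 0] : List ℤ).getD k 0
def L35 (k : Fin 15) : ℤ := ([1, 4, 3, 4, 0, 2, 4, 2, 4, 3, 0, 0, 0, 0, 0] : List ℤ).getD k 0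
def c15 (k : Fin 15) : ℤ := ([3, 21, -21, -63, 42, -84, -42, 0, 42, -126, 84, 0, 0, 0, 144] : List ℤ).getD k 0
def c35 (k : Fin 15) : ℤ := ([7, -21, -21, -21, -14, 84, -42, -56, 42, 126, 84, 0, 0, -168, 0] : List ℤ).getD k 0
def d15 (k : Fin 15) : ℤ := if k = 2 then 1 else if k = 4 then -1 else 0
def d35 (k : Fin 15) : ℤ := if k = 4 then 1 else if k = 2 then -2 else 0

theorem id15 : ∀ j : Fin 15, (5 : ℤ) ∣ c15 j - 1008 * d15 j - (∑ k, L15 k * (Mt k j : ℤ) - 2 * L15 j) := by
  decide +kernel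

theorem id35 : ∀ j : Fin 15, (5 : ℤ) ∣ c35 j - 1008 * d35 j - (∑ k, L35 k * (Mt k j : ℤ) - 2 * L35 j) := by
  decide +kernel

theorem lin {c d L x : Fin 15 → ℤ}
    (hid : ∀ j : Fin 15, (5 : ℤ) ∣ c j - 1008 * d j - (∑ k, L k * (Mt k j : ℤ) - 2 * L j))
    (hx : ∀ k : Fin 15, (5 : ℤ) ∣ ∑ j, (Mt k j : ℤ) * x j - 2 * x k) {w : ℤ} (hw : 1008 * w = ∑ j, c j * x j) :
    (5 : ℤ) ∣ w - ∑ j, d j * x j := by
  have h1 : (5 : ℤ) ∣ ∑ j, (c j - 1008 * d j - (∑ k, L k * (Mt k j : ℤ) - 2 * L j)) * x j :=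
    Finset.dvd_sum fun j _ => (hid j).mul_right _
  have h2 : (5 : ℤ) ∣ ∑ k, L k * (∑ j, (Mt k j : ℤ) * x j - 2 * x k) :=
    Finset.dvd_sum fun k _ => (hx k).mul_left _
  have h3 : ∑ k, L k * (∑ j, (Mt k j : ℤ) * x j - 2 * x k) =
      ∑ j, (∑ k, L k * (Mt k j : ℤ) - 2 * L j) * x j := by
    simp only [mul_sub, sub_mul, Finset.sum_sub_distrib, Finset.mul_sum, Finset.sum_mul]
    rw [Finset.sum_comm]
    congr 1
    · exact Finset.sum_congr rfl fun j _ => Finset.sum_congr rfl fun k _ => by ring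
    · exact Finset.sum_congr rfl fun j _ => by ring
  have h4 : ∑ j, (c j - 1008 * d j - (∑ k, L k * (Mt k j : ℤ) - 2 * L j)) * x j =
      1008 * (w - ∑ j, d j * x j) - ∑ k, L k * (∑ j, (Mt k j : ℤ) * x j - 2 * x k) := by
    rw [h3, mul_sub, hw, Finset.mul_sum, ← Finset.sum_sub_distrib, ← Finset.sum_sub_distrib]
    exact Finset.sum_congr rfl fun j _ => by ring
  rw [h4] at h1
  have h5 : (5 : ℤ) ∣ 1008 * (w - ∑ j, d j * x j) := by
    have := dvd_add h1 h2
    rwa [sub_add_cancel] at this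
  exact (IsCoprime.dvd_of_dvd_mul_left (by norm_num [Int.isCoprime_iff_gcd_eq_one]) h5)

/-- the multiplicity as a sum over the 15 classes -/
theorem inner_sum (hc : ∀ g s, ψ (g * s * g⁻¹) = ψ s) {m : ℕ} (β : Fin m → ℕ) {w : ℤ}
    (hw : classInner (fun s : Perm (Fin 7) => (ψ s : ℂ)) (ch (Fin 7) β) = (w : ℂ)) :
    (w : ℚ) = ∑ k : Fin 15, (ψ (R k) : ℚ) * (FM (T k : Multiset ℕ) β : ℚ) / (zz (T k : Multiset ℕ) : ℚ) := by
  classical
  let f : Multiset ℕ → ℚ := fun t => if h : ∃ k : Fin 15, (T k : Multiset ℕ) = t then (ψ (R h.choose) : ℚ) else 0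
  have hT : ∀ k k' : Fin 15, (T k : Multiset ℕ) = T k' → k = k' := by decide +kernel
  have hf : ∀ k : Fin 15, f (T k : Multiset ℕ) = (ψ (R k) : ℚ) := by
    intro k
    have h : ∃ k' : Fin 15, (T k' : Multiset ℕ) = (T k : Multiset ℕ) := ⟨k, rfl⟩
    have h1 : h.choose = k := hT _ _ h.choose_spec
    simp only [f]
    rw [dif_pos h, h1]
  have hψ : (fun s : Perm (Fin 7) => (ψ s : ℂ)) = fun s => (f (ty s) : ℂ) := by
    funext s
    obtain ⟨k, hk⟩ := exists_T (s := ty s) (by rw [ty_sum, Fintype.card_fin]) (ty_pos _)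
    rw [← hk, hf k, psi_conj hc (isConj_of_ty hk.symm)]
    push_cast
    rfl
  have hch : ch (Fin 7) β = fun s : Perm (Fin 7) => (((FM (ty s) β : ℤ) : ℚ) : ℂ) := by
    funext s
    rw [ch_apply]
    push_cast
    rfl
  rw [hψ, hch, classInner_ty (α := Fin 7) f (fun t => ((FM t β : ℤ) : ℚ)), Fintype.card_fin, Z_seven] at hw
  have h2 : (∑ k : Fin 15, f (T k : Multiset ℕ) * ((FM (T k : Multiset ℕ) β : ℤ) : ℚ) /
      (zz (T k : Multiset ℕ) : ℚ) : ℚ) = (w : ℚ) := by exact_mod_cast hw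
  rw [← h2]
  exact Finset.sum_congr rfl fun k _ => by rw [hf k]

theorem coef15 (k : Fin 15) : (1008 * FM (T k : Multiset ℕ) b15 : ℤ) = c15 k * (zz (T k : Multiset ℕ) : ℤ) := by
  rw [val15, zz_T]
  revert k
  decide +kernel

theorem coef35 (k : Fin 15) : (1008 * FM (T k : Multiset ℕ) b35 : ℤ) = c35 k * (zz (T k : Multiset ℕ) : ℤ) := by
  rw [val35, zz_T]
  revert k
  decide +kernel

theorem zz_ne (k : Fin 15) : (zz (T k : Multiset ℕ) : ℚ) ≠ 0 := by
  have h : ∀ k : Fin 15, zz (T k : Multiset ℕ) ≠ 0 := by decide +kernel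
  exact_mod_cast h k

theorem inner_int (hc : ∀ g s, ψ (g * s * g⁻¹) = ψ s) {m : ℕ} {β : Fin m → ℕ} {c : Fin 15 → ℤ}
    (hco : ∀ k : Fin 15, (1008 * FM (T k : Multiset ℕ) β : ℤ) = c k * (zz (T k : Multiset ℕ) : ℤ)) {w : ℤ}
    (hw : classInner (fun s : Perm (Fin 7) => (ψ s : ℂ)) (ch (Fin 7) β) = (w : ℂ)) :
    1008 * w = ∑ j, c j * ψ (R j) := by
  have h1 := inner_sum hc β hw
  have h2 : (1008 * w : ℚ) = ∑ j, (c j : ℚ) * (ψ (R j) : ℚ) := by
    rw [h1, Finset.mul_sum]
    refine Finset.sum_congr rfl fun k _ => ?_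
    have h3 : (1008 * (FM (T k : Multiset ℕ) β : ℚ)) = (c k : ℚ) * (zz (T k : Multiset ℕ) : ℚ) := by
      exact_mod_cast hco k
    have h4 := zz_ne k
    field_simp
    linear_combination (ψ (R k) : ℚ) * h3
  exact_mod_cast h2

open Classical in
/-- the hypotheses on `psi` -/
structure Eig (ψ : Perm (Fin 7) → ℤ) : Prop where
  conj : ∀ g s, ψ (g * s * g⁻¹) = ψ s
  eig : ∀ s, (5 : ℤ) ∣ (∑ t : Perm (Fin 7) with t.IsSwap, ψ (s * t)) - 2 * ψ s

theorem Eig.dvd (h : Eig ψ) (k : Fin 15) : (5 : ℤ) ∣ ∑ j, (Mt k j : ℤ) * ψ (R j) - 2 * ψ (R k) := by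
  have h1 := h.eig (R k)
  rwa [sum_R h.conj k] at h1

theorem sum_d15 (x : Fin 15 → ℤ) : ∑ j, d15 j * x j = x 2 - x 4 := by
  simp only [Fin.sum_univ_succ, d15, _root_.Fin.isValue, _root_.Int.reduceNeg, _root_.ite_mul, _root_.one_mul, _root_.neg_mul, _root_.MulZeroClass.zero_mul, _root_.Fin.reduceEq, ↓ _root_.reduceIte, _root_.Fin.succ_zero_eq_one, _root_.Fin.succ_one_eq_two, _root_.Fin.reduceSucc, _root_.Finset.univ_unique, _root_.Fin.default_eq_zero, _root_.Finset.sum_singleton, _root_.add_zero, _root_.zero_add]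
  ring

theorem sum_d35 (x : Fin 15 → ℤ) : ∑ j, d35 j * x j = x 4 - 2 * x 2 := by
  simp only [Fin.sum_univ_succ, d35, _root_.Fin.isValue, _root_.Int.reduceNeg, _root_.ite_mul, _root_.one_mul, _root_.neg_mul, _root_.MulZeroClass.zero_mul, _root_.Fin.reduceEq, ↓ _root_.reduceIte, _root_.Fin.succ_zero_eq_one, _root_.Fin.succ_one_eq_two, _root_.Fin.reduceSucc, _root_.Finset.univ_unique, _root_.Fin.default_eq_zero, _root_.Finset.sum_singleton, _root_.add_zero, _root_.zero_add]
  ring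

/-- representative of the double transpositions -/
theorem R_two : R 2 = swap (0 : Fin 7) 1 * swap (2 : Fin 7) 3 := by decide +kernel

/-- representative of the 3-cycles -/
theorem R_four : R 4 = swap (0 : Fin 7) 1 * swap (1 : Fin 7) 2 := by decide +kernel

theorem main15 (h : Eig ψ) {w : ℤ}
    (hw : classInner (fun s : Perm (Fin 7) => (ψ s : ℂ)) (phi15 : Perm (Fin 7) → ℂ) = (w : ℂ)) :
    (5 : ℤ) ∣ w - (ψ (swap (0 : Fin 7) 1 * swap (2 : Fin 7) 3) - ψ (swap (0 : Fin 7) 1 * swap (1 : Fin 7) 2)) := by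
  have h1 := lin id15 h.dvd (inner_int h.conj coef15 hw)
  rwa [sum_d15, R_two, R_four] at h1

theorem main35 (h : Eig ψ) {w : ℤ}
    (hw : classInner (fun s : Perm (Fin 7) => (ψ s : ℂ)) (phi35 : Perm (Fin 7) → ℂ) = (w : ℂ)) :
    (5 : ℤ) ∣ w - (ψ (swap (0 : Fin 7) 1 * swap (1 : Fin 7) 2) - 2 * ψ (swap (0 : Fin 7) 1 * swap (2 : Fin 7) 3)) := by
  have h1 := lin id35 h.dvd (inner_int h.conj coef35 hw)
  rwa [sum_d35, R_two, R_four] at h1

/-! ### The values by cycle type -/

/-- the integer values of `phi15` -/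
def t15 (s : Perm (Fin 7)) : ℤ := FM (ty s) b15

theorem phi15_int (s : Perm (Fin 7)) : (phi15 : Perm (Fin 7) → ℂ) s = (t15 s : ℂ) := rfl

theorem ty_of_cycleType {s : Perm (Fin 7)} {c : Multiset ℕ} (h : s.cycleType = c) :
    ty s = c + Multiset.replicate (7 - c.sum) 1 := by
  unfold ty
  rw [Perm.parts_partition, h, ← Perm.sum_cycleType, h, Fintype.card_fin]

theorem t15_of {s : Perm (Fin 7)} {c : Multiset ℕ} (k : Fin 15) (h : s.cycleType = c)
    (hk : c + Multiset.replicate (7 - c.sum) 1 = (T k : Multiset ℕ)) :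
    t15 s = (![15, 5, -1, -3, 3, -1, -1, 0, 1, -1, 1, 0, 0, 0, 1] : Fin 15 → ℤ) k := by
  unfold t15; rw [ty_of_cycleType h, hk, val15]

theorem t15_three {s : Perm (Fin 7)} (h : s.IsThreeCycle) : t15 s = 3 :=
  t15_of 4 h (by decide +kernel)

theorem t15_three_three {s : Perm (Fin 7)} (h : s.cycleType = {3, 3}) : t15 s = 0 :=
  t15_of 7 h (by decide +kernel)

end Cfsg.Agent.H552.LD.SevenTab
end

-- part: H343/LD/KB
section
/-!
# S4910, the row `Fi₂₃`: the degree `5987520` (helper343; final call)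
-/

set_option autoImplicit false
set_option maxRecDepth 100000

namespace Cfsg.Agent.H343.LD.KB

open Cfsg Subgroup Cfsg.Agent.LThreeFi23 Cfsg.Agent.Characters Cfsg.Agent.Characters.Core
open Cfsg.Agent.SmallSimple.ThetaSetup
open Cfsg.Agent.H838.Fi23 (SL L7)
open Cfsg.Agent.H66.LD.F23
open Cfsg.Agent.H343.LD
open Cfsg.Agent.H552.LD
open Cfsg.Spor (Fi23)
open scoped ComplexConjugate

/-- transport of a character of `S₇` -/
noncomputable def tr (φ : IrrCharacter S7) : IrrCharacter (SL L7) :=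
  ⟨(φ : S7 → ℂ) ∘ e7.symm.toMonoidHom, isIrr_comp e7.symm.toMonoidHom e7.symm.surjective φ.2⟩

theorem tr_apply (φ : IrrCharacter S7) (s : S7) : (tr φ : SL L7 → ℂ) (e7 s) = (φ : S7 → ℂ) s := by
  show (φ : S7 → ℂ) (e7.symm (e7 s)) = _
  rw [e7.symm_apply_apply]

theorem tr_deg (φ : IrrCharacter S7) : charDegree (tr φ : SL L7 → ℂ) = charDegree (φ : S7 → ℂ) := by
  apply Blocks.Basic.charDegree_of_eq
  rw [← Blocks.Basic.irr_one_eq_charDegree φ.2, ← tr_apply, map_one]

theorem inner_eq {χ : IrrCharacter Fi23} {ψ : S7 → ℤ} (hψ : ∀ s, (χ : Fi23 → ℂ) (elw y5 * f7 s) = ψ s)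
    (φ : IrrCharacter S7) {w : ℤ} (hw : part (tr φ : SL L7 → ℂ) (χ : Fi23 → ℂ) (elw y5) = w) :
    classInner (fun s : S7 => (ψ s : ℂ)) (φ : S7 → ℂ) = (w : ℂ) := by
  have := Fintype.ofFinite (SL L7)
  rw [← hw, part_eq, classInner_def]
  have h1 : Nat.card (SL L7) = Nat.card S7 := Nat.card_congr e7.symm.toEquiv
  rw [h1]
  congr 1
  rw [← e7.toEquiv.sum_comp]
  refine Finset.sum_congr rfl fun s _ => ?_
  show _ = (χ : Fi23 → ℂ) (elw y5 * ((e7 s : SL L7) : Fi23)) * conj ((tr φ : SL L7 → ℂ) (e7 s))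
  rw [e7_coe, hψ, tr_apply]

/-- **no character of degree `5987520`** -/
theorem killB {χ : IrrCharacter Fi23} {b c i : ℤ} (V : H174.Ore.Fi23Rk.Vals χ 5987520 (-221760) b c)
    (hc : c = -24759 + 2457 * i) (hb : b = 271040 - 19712 * i) : False := by
  classical
  have := Fintype.ofFinite (SL L7)
  obtain ⟨ψ, β, hψ, hβ, hconj, hcong, -⟩ := exists_psi χ
  obtain ⟨-, -, vb, vc⟩ := vals V hβ
  have hE : SevenTab.Eig ψ := ⟨fun g s => (hconj s _ (isConj_iff.2 ⟨g, rfl⟩)).symm, fun s => by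
    have h1 := eig_psi V hψ s
    convert h1⟩
  obtain ⟨A, -, hA, -, -⟩ := loc.exists_int (by norm_num) χ (tr SevenTab.phi15)
  obtain ⟨B, -, hB, -, -⟩ := loc.exists_int (by norm_num) χ (tr SevenTab.phi35)
  have h15 := SevenTab.main15 hE (inner_eq hψ _ hA)
  have h35 := SevenTab.main35 hE (inner_eq hψ _ hB)
  have cb := hcong (Equiv.swap (0 : Fin 7) 1 * Equiv.swap (2 : Fin 7) 3)
  have cc := hcong (Equiv.swap (0 : Fin 7) 1 * Equiv.swap (1 : Fin 7) 2)
  rw [vb] at cb
  rw [vc] at cc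
  have hA5 : (5 : ℤ) ∣ A - (b - c) := by (clear * - h15 cb cc; omega)
  have hB5 : (5 : ℤ) ∣ B - (c - 2 * b) := by omega
  have hK : (Nat.card (SL L7)).factorization 5 = 1 := by
    rw [card_SL7, show 5040 = 5 ^ 1 * 1008 by norm_num, Nat.factorization_mul (by norm_num) (by norm_num)]
    have h5 : (1008 : ℕ).factorization 5 = 0 := Nat.factorization_eq_zero_of_not_dvd (by norm_num)
    rw [Finsupp.add_apply, h5, Nat.Prime.factorization_pow (by norm_num)]
    simp
  refine H536.LD.ColOne.endC loc (tr SevenTab.phi15) (tr SevenTab.phi35) (by rw [tr_deg, SevenTab.deg15])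
    (by rw [tr_deg, SevenTab.deg35]) hK V hc hb hA hB hA5 hB5 H536.LD.ColOne.isConj_uu_ab ?_
  exact Cls7.cls3 _ SevenTab.t15 (fun s => by rw [tr_apply, SevenTab.phi15_int]) (fun s hs => SevenTab.t15_three hs)
    (fun s hs => SevenTab.t15_three_three hs) (IsConj.refl _)

end Cfsg.Agent.H343.LD.KB
end

private theorem dce_5821eb30f4b4 : _root_.True := by
  try have : _root_.True := by simp only [_root_.Cfsg.Agent.H552.LD.Frob.G3.eq_2]
  try have : _root_.True := by simp only [_root_.Cfsg.Agent.H552.LD.Frob.G3.eq_def]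
  try have : _root_.True := by simp only [_root_.Cfsg.Agent.H552.LD.SevenTab.d35.eq_1]
  try have : _root_.True := by simp only [_root_.Cfsg.Agent.H552.LD.SevenTab.lc.eq_1]
  try have : _root_.True := by simp only [_root_.Cfsg.Agent.H552.LD.SevenTab.sm.eq_2]
  try have : _root_.True := by simp only [_root_.Cfsg.Agent.H552.LD.SevenTab.sm.eq_def]
  try have : _root_.True := by simp only [_root_.Cfsg.Agent.H552.LD.SevenTab.sm.eq_1]
  try have : _root_.True := by simp only [_root_.Cfsg.Agent.H552.LD.Frob.G4.eq_1]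
  try have : _root_.True := by simp only [_root_.Cfsg.Agent.H552.LD.Frob.G4.eq_2]
  try have : _root_.True := by simp only [_root_.Cfsg.Agent.H552.LD.Frob.G3.eq_1]
  try have : _root_.True := by simp only [_root_.Cfsg.Agent.H552.LD.SevenTab.lc.eq_2]
  try have : _root_.True := by simp only [_root_.Cfsg.Agent.H552.LD.SevenTab.d15.eq_1]
  try have : _root_.True := by simp only [_root_.Cfsg.Agent.H552.LD.Frob.G4.eq_def]
  try have : _root_.True := by simp only [_root_.Cfsg.Agent.H552.LD.SevenTab.lc.eq_def]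
  exact _root_.True.intro
end

-- part: H587/LD/RowM24
section
set_option linter.all false
open scoped Cfsg.Agent.FastGrp

/-!
# S4910: the rows `M24`, `Co2`, `Co3` (helper587)

An irreducible character of degree 23, and `Out = 1`.
-/

set_option autoImplicit false

namespace Cfsg.Agent.H587.LD

open Cfsg Cfsg.Agent.H954.LD Cfsg.Agent.Characters.Core Cfsg.Agent.H419.LeechFix Cfsg.Agent.H419.LeechIrr

universe u

theorem copRow_of_23 {S : Type u} [Group S] [Finite S] [IsSimpleGroup S] (hna : ¬ IsMulCommutative S) {T : Type*}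
    [Group T] (e : S ≃* T) (hout : Nat.card (Out T) = 1) (hχ : ∃ χ : IrrCharacter T, charDegree (χ : T → ℂ) = 23) :
    CopRow S := by
  obtain ⟨χ, hχ⟩ := hχ
  have hS : Nat.card (Out S) = 1 := by rw [H55.OutGen.card_out_congr e, hout]
  refine copRow_one_pp hna hS (α := ⟨(χ : T → ℂ) ∘ e.toMonoidHom, isIrr_comp e.toMonoidHom e.surjective χ.2⟩) ?_
  have h1 : charDegree ((χ : T → ℂ) ∘ e.toMonoidHom) = 23 := by
    rw [← hχ]
    unfold charDegree
    rw [Function.comp_apply, map_one]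
  change IsPrimePow (charDegree ((χ : T → ℂ) ∘ e.toMonoidHom))
  rw [h1]
  exact (by norm_num : Nat.Prime 23).isPrimePow

theorem exists_irr_M24 : ∃ χ : IrrCharacter M24, charDegree (χ : M24 → ℂ) = 23 := by
  have h5 := Cfsg.Agent.S0366.result
  obtain ⟨θ, hθ⟩ := Cfsg.Agent.H419.TwoTrans.exists_irr (G := M24) GolayPt (MulAction.isMultiplyPretransitive_of_le (n := 5) (by norm_num)
      (by rw [Nat.card_eq_fintype_card]; decide)) (by rw [Nat.card_eq_fintype_card]; decide)
  refine ⟨θ, ?_⟩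
  have h1 := hθ 1
  rw [MulAction.fixedBy_one_eq_univ, Nat.card_coe_set_eq, Set.ncard_univ,
    Cfsg.Agent.Blocks.Basic.irr_one_eq_charDegree θ.2] at h1
  have h4 : ((charDegree (θ : M24 → ℂ) : ℕ) : ℂ) = ((23 : ℕ) : ℂ) := by
    rw [h1, Nat.card_eq_fintype_card, show Fintype.card GolayPt = 24 by decide]
    norm_num
  exact_mod_cast h4

theorem deg_of_lchi {G : Type*} [Group G] {f : G →* Co0} {μ : IrrCharacter G} (_ : Finite G)
    (hμ : ∀ g, lchi f g = 1 + (μ : G → ℂ) g) : charDegree (μ : G → ℂ) = 23 := by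
  have h1 := hμ 1
  have h6 : lchi f 1 = 24 := by
    rw [lchi, map_one, Cfsg.Agent.SigZeroCo2.Lin.tr8_one]
    norm_num
  rw [h6, Cfsg.Agent.Blocks.Basic.irr_one_eq_charDegree μ.2] at h1
  have h2 : (24 : ℂ) = ((1 + charDegree (μ : G → ℂ) : ℕ) : ℂ) := by rw [h1]; push_cast; ring
  have h9 : 24 = 1 + charDegree (μ : G → ℂ) := by exact_mod_cast h2
  omega

theorem exists_irr_Co3 : ∃ χ : IrrCharacter Spor.Co3, charDegree (χ : Spor.Co3 → ℂ) = 23 := by
  obtain ⟨hs, hcard⟩ := Cfsg.Agent.OddHalf.D8.RowCo3.card_of (K := Spor.Co3) ⟨MulEquiv.refl _⟩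
  have hfin : Finite Spor.Co3 := Nat.finite_of_card_ne_zero (by rw [hcard]; norm_num)
  obtain ⟨μ, hμ⟩ := irr23 Cfsg.Agent.H419.Spor.Co3.inc Cfsg.Agent.H419.Spor.Co3.inc_injective
    (by rw [hcard]; norm_num) Cfsg.Agent.H419.Spor.Co3.k ⟨Cfsg.Agent.H419.Spor.Co3.y14, fun h => by
      have := Cfsg.Agent.H419.Spor.Co3.order
      rw [h, orderOf_one] at this
      norm_num at this⟩ Cfsg.Agent.H419.Spor.Co3.inc_k (w := Spor.leechV) (fun h => by
        have := congrArg (fun v : leechLattice => (v : GolayPt → ℤ) none) h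
        exact absurd this (by decide)) Cfsg.Agent.H419.Spor.Co3.inc_fix
  exact ⟨μ, deg_of_lchi hfin hμ⟩

theorem exists_irr_Co2 : ∃ χ : IrrCharacter Spor.Co2, charDegree (χ : Spor.Co2 → ℂ) = 23 := by
  have hs : IsSimpleGroup Spor.Co2 := Cfsg.Agent.Schreier.CoTwoStab.isSimpleGroup
  have hcard : Nat.card Spor.Co2 = 42305421312000 := Cfsg.Agent.BiChar.Small.card_Co2
  have hfin : Finite Spor.Co2 := Nat.finite_of_card_ne_zero (by rw [hcard]; norm_num)
  obtain ⟨μ, hμ⟩ := irr23 Cfsg.Agent.H419.Spor.Co2.inc Cfsg.Agent.H419.Spor.Co2.inc_injective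
    (by rw [hcard]; norm_num) Cfsg.Agent.H419.Spor.Co2.k ⟨Cfsg.Agent.H419.Spor.Co3.y14, fun h => by
      have := Cfsg.Agent.H419.Spor.Co2.order
      rw [h, orderOf_one] at this
      norm_num at this⟩ Cfsg.Agent.H419.Spor.Co2.inc_k (w := Cfsg.Agent.H419.Spor.Co2.leechW) (fun h => by
        have := congrArg (fun v : leechLattice => (v : GolayPt → ℤ) none) h
        exact absurd this (by decide)) Cfsg.Agent.H419.Spor.Co2.inc_fix
  exact ⟨μ, deg_of_lchi hfin hμ⟩

variable {S : Type u} [Group S] [Finite S] [IsSimpleGroup S]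

theorem row_M24 (hna : ¬ IsMulCommutative S) (h : Spor.IsoM24 S) : CopRow S := by
  obtain ⟨e⟩ := h
  exact copRow_of_23 hna e Cfsg.Agent.S2064.result exists_irr_M24

theorem row_Co2 (hna : ¬ IsMulCommutative S) (h : Spor.IsoCo2 S) : CopRow S := by
  obtain ⟨e⟩ := h
  exact copRow_of_23 hna e Cfsg.Agent.S2070.result exists_irr_Co2

theorem row_Co3 (hna : ¬ IsMulCommutative S) (h : Spor.IsoCo3 S) : CopRow S := by
  obtain ⟨e⟩ := h
  exact copRow_of_23 hna e Cfsg.Agent.S2071.result exists_irr_Co3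

end Cfsg.Agent.H587.LD
end

-- part: H618/LD/RowFi22
section
set_option linter.all false
open scoped Cfsg.Agent.FastGrp

/-- decoders of the packed data (elaboration time only) -/
private noncomputable def pk61d (b S i : Nat) : Nat := Nat.mod (Nat.shiftRight S (Nat.mul b i)) (Nat.shiftLeft (nat_lit 1) b)
private noncomputable def pk61f {α : Type} (t : Nat) (f : Nat → α) : α := Nat.rec (f Nat.zero) (fun k _ => f (Nat.succ k)) t
private noncomputable def pk61l {α : Type} (f : Nat → α) (s e : Nat) (tl : List α) : List α :=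
  pk61f e fun e => Nat.rec tl (fun k ih => List.cons (pk61f (Nat.sub e (Nat.succ k)) f) ih) (Nat.sub e s)

-- part: H618/LD/Use
section
/-!
# S4910, row Fi22 (helper618): the search for three unknown characters and one exceptional one
-/

set_option autoImplicit false

namespace Cfsg.Agent.H618.LD.Use

open Cfsg.Agent.H618.LD.Num

universe u

theorem sort3 {α : Type u} [DecidableEq α] {F : Finset α} (hF : F.card = 3) (f : α → ℕ) :
    ∃ a b c, a ≠ b ∧ a ≠ c ∧ b ≠ c ∧ F = {a, b, c} ∧ f a ≤ f b ∧ f b ≤ f c := by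
  obtain ⟨x, y, z, hxy, hxz, hyz, rfl⟩ := Finset.card_eq_three.1 hF
  rcases le_total (f x) (f y) with h1 | h1 <;> rcases le_total (f y) (f z) with h2 | h2 <;>
    rcases le_total (f x) (f z) with h3 | h3
  · exact ⟨x, y, z, hxy, hxz, hyz, rfl, h1, h2⟩
  · exact ⟨x, y, z, hxy, hxz, hyz, rfl, h1, h2⟩
  · exact ⟨x, z, y, hxz, hxy, hyz.symm, by ext s; simp only [Finset.mem_insert, Finset.mem_singleton]; itauto, h3, h2⟩
  · exact ⟨z, x, y, hxz.symm, hyz.symm, hxy, by ext s; simp only [Finset.mem_insert, Finset.mem_singleton]; itauto, h3, h1⟩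
  · exact ⟨y, x, z, hxy.symm, hyz, hxz, by ext s; simp only [Finset.mem_insert, Finset.mem_singleton]; itauto, h1, h3⟩
  · exact ⟨y, z, x, hyz, hxy.symm, hxz.symm, by ext s; simp only [Finset.mem_insert, Finset.mem_singleton]; itauto, h2, h3⟩
  · exact ⟨z, y, x, hyz.symm, hxz.symm, hxy.symm, by ext s; simp only [Finset.mem_insert, Finset.mem_singleton]; itauto, h2, h1⟩
  · exact ⟨z, y, x, hyz.symm, hxz.symm, hxy.symm, by ext s; simp only [Finset.mem_insert, Finset.mem_singleton]; itauto, h2, h1⟩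

theorem adm_lt {d : ℕ} {w : ℤ} (h : Adm d w) : d < 100000000 := by
  by_contra h1
  have h2 := h.sq
  have h3 : 100000000 * 100000000 ≤ d * d := Nat.mul_le_mul (by omega) (by omega)
  omega

theorem use {p q m : ℕ} (hp1 : 1 < p) {D : List ℕ} {tab : List (ℕ × List ℕ)} {rs : ℕ → ℕ → Bool} {T : Tst}
    {KN : List KD} {K : ℕ} {S : ℤ} (hD : D.Pairwise fun x y => ab x < ab y) (hDD : chkD p q m D = true)
    (ht : allL (fun x : ℕ × List ℕ => chkRow rs x.1 x.2) tab = true) (main : tri D K (gg q m T KN tab) = true)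
    (hK : (K : ℤ) = 400000000 - S) {α : Type u} [DecidableEq α] {F : Finset α} (hF : F.card = 3) {c w : α → ℤ} {Θ : α}
    (hadm : ∀ χ, χ ∈ F ∨ χ = Θ → Adm (c χ).natAbs (w χ))
    (hrs : ∀ χ, χ ∈ F ∨ χ = Θ → rs (c χ).natAbs (w χ + 3510).toNat = true)
    (hbit : ∀ χ, χ ∈ F ∨ χ = Θ → m / 2 ^ ((c χ).natAbs % q) % 2 = 1) (hcp : ∀ χ ∈ F, (p : ℤ) ∣ c χ - 1) {kn : KD}
    (hkn : kn ∈ KN) (e0 : S + ∑ χ ∈ F, c χ + c Θ = 0)
    (e1 : (kn.C : ℤ) - 100000000 * kn.W + ∑ χ ∈ F, c χ * (w χ + 3510) + c Θ * (w Θ + 3510) = 0)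
    (e2 : (kn.C2 : ℤ) - 100000000 * kn.W2 + ∑ χ ∈ F, c χ * (w χ + 3510) ^ 2 + c Θ * (w Θ + 3510) ^ 2 = 0)
    (hne : cd (c Θ) ≠ T.A) (hne' : cd (c Θ) ≠ T.c₀) :
    (∃ A ∈ F, cd (c A) = T.A ∧ ∀ A' ∈ F, cd (c A') = T.A → A' = A) ∧
      (T.n₀ = 1 → ∃ A ∈ F, cd (c A) = T.c₀ ∧ (w A + 3510).toNat = T.w₀) := by
  obtain ⟨x, y, z, hxy, hxz, hyz, rfl, h1, h2⟩ := sort3 hF fun χ => (c χ).natAbs
  have mx : x ∈ ({x, y, z} : Finset α) := by simp
  have my : y ∈ ({x, y, z} : Finset α) := by simp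
  have mz : z ∈ ({x, y, z} : Finset α) := by simp
  have ax := hadm x (Or.inl mx)
  have ay := hadm y (Or.inl my)
  have az := hadm z (Or.inl mz)
  have aΘ := hadm Θ (Or.inr rfl)
  have hs : ∀ g : α → ℤ, ∑ χ ∈ ({x, y, z} : Finset α), g χ = g x + g y + g z := by
    intro g
    rw [Finset.sum_insert (by simp [hxy, hxz]), Finset.sum_pair hyz]
    ring
  rw [hs] at e0 e1 e2
  have hR := search hD (fun a ha => allL_iff.1 ht a ha) main hK (adm_lt ax) (adm_lt ay) (adm_lt az) (adm_lt aΘ)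
    ax ay az aΘ (hrs x (Or.inl mx)) (hrs y (Or.inl my)) (hrs z (Or.inl mz)) (hrs Θ (Or.inr rfl))
    (chkD_spec hp1 hDD ax (adm_lt ax) (hbit x (Or.inl mx)) (hcp x mx))
    (chkD_spec hp1 hDD ay (adm_lt ay) (hbit y (Or.inl my)) (hcp y my))
    (chkD_spec hp1 hDD az (adm_lt az) (hbit z (Or.inl mz)) (hcp z mz)) h1 h2 (hbit Θ (Or.inr rfl)) hkn
    (by linear_combination e0) (by linear_combination e1) (by linear_combination e2)
  have mem : ∀ s, s ∈ ({x, y, z} : Finset α) ↔ s = x ∨ s = y ∨ s = z := by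
    intro s; simp only [Finset.mem_insert, Finset.mem_singleton]
  constructor
  · rcases cnt_one hR.a with ⟨k1, k2, k3, k4⟩ | ⟨k1, k2, k3, k4⟩ | ⟨k1, k2, k3, k4⟩ | ⟨k1, k2, k3, k4⟩
    · refine ⟨x, mx, k1, fun s hs' h => ?_⟩
      rcases (mem s).1 hs' with rfl | rfl | rfl
      · rfl
      · exact absurd h k2
      · exact absurd h k3
    · refine ⟨y, my, k2, fun s hs' h => ?_⟩
      rcases (mem s).1 hs' with rfl | rfl | rfl
      · exact absurd h k1
      · rfl
      · exact absurd h k3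
    · refine ⟨z, mz, k3, fun s hs' h => ?_⟩
      rcases (mem s).1 hs' with rfl | rfl | rfl
      · exact absurd h k1
      · exact absurd h k2
      · rfl
    · exact absurd k4 hne
  · intro hn
    have hc := hR.c
    rw [hn] at hc
    rcases cnt_one hc with ⟨k1, k2, k3, k4⟩ | ⟨k1, k2, k3, k4⟩ | ⟨k1, k2, k3, k4⟩ | ⟨k1, k2, k3, k4⟩
    · exact ⟨x, mx, k1, hR.x k1⟩
    · exact ⟨y, my, k2, hR.y k2⟩
    · exact ⟨z, mz, k3, hR.z k3⟩
    · exact absurd k4 hne'

end Cfsg.Agent.H618.LD.Use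
end

-- part: H618/LD/Part
section
/-!
# S4910, row Fi22 (helper618): the search in pieces
-/

set_option autoImplicit false

namespace Cfsg.Agent.H618.LD.Num

/-- the first `n` entries -/
def part (f : ℕ → List ℕ → Bool) (n : ℕ) : List ℕ → Bool :=
  Nat.rec (fun _ => true) (fun _ ih l => List.rec true (fun a l _ => cond (f a (a :: l)) (ih l) false) l) n

theorem part_succ (f : ℕ → List ℕ → Bool) (n : ℕ) (a : ℕ) (l : List ℕ) :
    part f (n + 1) (a :: l) = cond (f a (a :: l)) (part f n l) false := rfl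

/-- the loop for `a` -/
def fa (K : ℕ) (g : ℕ → ℕ → ℕ → ℕ → Bool) : ℕ → List ℕ → Bool :=
  fun a l => tails (fun b l' => allL (fun c => g a b c (Nat.sub K (Nat.add a (Nat.add b c)))) l') l

theorem tri_eq (D : List ℕ) (K : ℕ) (g : ℕ → ℕ → ℕ → ℕ → Bool) : tri D K g = tails (fa K g) (D.drop 0) := rfl

end Cfsg.Agent.H618.LD.Num
end

-- part: fast triple loop (P4)
section
set_option autoImplicit false

namespace Cfsg.Agent.H618.LD.F81

open Cfsg.Agent.H618.LD.Num
open Cfsg.Agent.SmallSimple.DegreeSearch (divs mem_divs)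

/-- a fold with forced accumulator -/
def fld (f : ℕ → ℕ → ℕ) (k : ℕ → Bool) (l : List ℕ) : ℕ → Bool :=
  List.rec k (fun d _ ih acc => frc (f d acc) ih) l

theorem fld_spec {f : ℕ → ℕ → ℕ} {k : ℕ → Bool} {P : ℕ → ℕ → Prop} (h1 : ∀ d acc, P d (f d acc))
    (h2 : ∀ d e acc, P d acc → P d (f e acc)) {l : List ℕ} {acc : ℕ} (h : fld f k l acc = true) :
    ∃ x, k x = true ∧ (∀ d ∈ l, P d x) ∧ ∀ d, P d acc → P d x := by
  induction l generalizing acc with
  | nil => exact ⟨acc, h, by simp, fun _ h => h⟩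
  | cons e l ih =>
    have h' : fld f k (e :: l) acc = frc (f e acc) (fld f k l) := rfl
    rw [h', frc_eq] at h
    obtain ⟨x, k1, k2, k3⟩ := ih h
    refine ⟨x, k1, fun d hd => ?_, fun d hd => k3 d (h2 d e acc hd)⟩
    rcases List.mem_cons.1 hd with rfl | hd
    · exact k3 _ (h1 _ _)
    · exact k2 d hd

/-- set a bit -/
def sb (i acc : ℕ) : ℕ := Nat.lor acc (Nat.shiftLeft 1 i)

theorem sb_self (i acc : ℕ) : (sb i acc).testBit i = true := by
  show (acc ||| 1 <<< i).testBit i = true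
  rw [Nat.testBit_or, Nat.one_shiftLeft, Nat.testBit_two_pow_self, Bool.or_true]

theorem sb_mono {j acc : ℕ} (i : ℕ) (h : acc.testBit j = true) : (sb i acc).testBit j = true := by
  show (acc ||| 1 <<< i).testBit j = true
  rw [Nat.testBit_or, h, Bool.true_or]

def st1 (q m p ρ M r acc : ℕ) : ℕ :=
  cond (Nat.beq (Nat.mod r p) ρ) (cond (okr q m r) (sb (Nat.mod r M) acc) acc) acc

theorem st1_self {q m p ρ M r : ℕ} (acc : ℕ) (h1 : r % p = ρ) (h2 : okr q m r = true) :
    (st1 q m p ρ M r acc).testBit (r % M) = true := by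
  unfold st1
  have h3 : Nat.beq (Nat.mod r p) ρ = true := _root_.Cfsg.Agent.H618.LD.Num.beq_of_eq h1
  rw [h3, h2]
  exact sb_self _ _

theorem st1_mono {q m p ρ M r acc j : ℕ} (h : acc.testBit j = true) : (st1 q m p ρ M r acc).testBit j = true := by
  unfold st1
  cases Nat.beq (Nat.mod r p) ρ
  · exact h
  · cases okr q m r
    · exact h
    · exact sb_mono _ h

def st2 (q m p ρ M d acc : ℕ) : ℕ :=
  cond (Nat.ble d 8035033) (st1 q m p ρ M (Nat.add 100000000 d) (st1 q m p ρ M (Nat.sub 100000000 d) acc)) acc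

def row (M K rm : ℕ) (g : ℕ → ℕ → ℕ → ℕ → Bool) (b : ℕ) (tl : List ℕ) (cm a : ℕ) : Bool :=
  cond (Nat.beq (Nat.land (Nat.shiftRight rm (Nat.mod (Nat.sub K (Nat.add a b)) M)) cm) 0) true
    (allL (fun c => g a b c (Nat.sub K (Nat.add a (Nat.add b c)))) tl)

def go (M K rm : ℕ) (g : ℕ → ℕ → ℕ → ℕ → Bool) (R : List ℕ) : List ℕ → ℕ → Bool :=
  List.rec (fun _ _ => true) (fun b R ih tl cm => frc (sb (Nat.sub M (Nat.mod b M)) cm) fun cm' =>
    cond (allL (row M K rm g b (b :: tl) cm') (b :: R)) (ih (b :: tl) cm') false) R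

theorem go_spec {M K rm : ℕ} {g : ℕ → ℕ → ℕ → ℕ → Bool} {b : ℕ} {R1 R2 tl : List ℕ} {cm : ℕ}
    (h : go M K rm g (R1 ++ b :: R2) tl cm = true) (hc : ∀ c ∈ tl, cm.testBit (M - c % M) = true) :
    ∃ cm' : ℕ, (∀ c ∈ b :: (R1.reverse ++ tl), cm'.testBit (M - c % M) = true) ∧
      allL (row M K rm g b (b :: (R1.reverse ++ tl)) cm') (b :: R2) = true := by
  have st : ∀ (x : ℕ) (R tl : List ℕ) (cm : ℕ), go M K rm g (x :: R) tl cm = true →
      (∀ c ∈ tl, cm.testBit (M - c % M) = true) → ∃ cm' : ℕ, (∀ c ∈ x :: tl, cm'.testBit (M - c % M) = true) ∧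
      allL (row M K rm g x (x :: tl) cm') (x :: R) = true ∧ go M K rm g R (x :: tl) cm' = true := by
    intro x R tl cm h hc
    have h' : go M K rm g (x :: R) tl cm = frc (sb (Nat.sub M (Nat.mod x M)) cm) fun cm' =>
      cond (allL (row M K rm g x (x :: tl) cm') (x :: R)) (go M K rm g R (x :: tl) cm') false := rfl
    rw [h', frc_eq, cond_tf] at h
    refine ⟨_, fun c hc' => ?_, h.1, h.2⟩
    rcases List.mem_cons.1 hc' with rfl | hc'
    · exact sb_self _ _
    · exact sb_mono _ (hc c hc')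
  induction R1 generalizing tl cm with
  | nil =>
    obtain ⟨cm', h1, h2, -⟩ := st b R2 tl cm h hc
    exact ⟨cm', h1, h2⟩
  | cons x R1 ih =>
    obtain ⟨cm', h1, -, h3⟩ := st x _ tl cm h hc
    have e : (x :: R1).reverse ++ tl = R1.reverse ++ x :: tl := by simp
    rw [e]
    exact ih h3 h1

theorem tails_of {f : ℕ → List ℕ → Bool} {l : List ℕ} (h : ∀ l1 a l2, l = l1 ++ a :: l2 → f a (a :: l2) = true) :
    tails f l = true := by
  induction l with
  | nil => rfl
  | cons b l ih =>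
    show cond (f b (b :: l)) (tails f l) false = true
    rw [cond_tf]
    exact ⟨h [] b l rfl, ih fun l1 a l2 e => h (b :: l1) a l2 (by rw [e]; rfl)⟩

/-- the fast check -/
noncomputable def chk (q m p ρ ρ' M K : ℕ) (g : ℕ → ℕ → ℕ → ℕ → Bool) (D : List ℕ) : Bool :=
  cond (allL (fun a => Nat.beq (Nat.mod a p) ρ) D)
    (fld (st2 q m p ρ' M) (fun rm => frc (Nat.lor rm (Nat.shiftLeft rm M)) fun rm2 => go M K rm2 g D.reverse [] 0)
      (divs L) 0) false

theorem okr_spec {q m r : ℕ} (h : okr q m r = true) : r ≠ 0 ∧ ab r ∈ divs L ∧ ab r ≤ 8035033 := by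
  unfold okr at h
  simp only [cond_tf] at h
  have h1 : 64561751654400 % ab r = 0 := Nat.eq_of_beq_eq_true h.1
  have h2 : ab r * ab r ≤ 64561751654400 := Nat.le_of_ble_eq_true h.2.1
  refine ⟨?_, ?_, ?_⟩
  · rintro rfl
    exact absurd h1 (by decide)
  · refine mem_divs (by intro x hx; simp only [L, List.mem_cons, List.not_mem_nil, or_false] at hx;
                        rcases hx with rfl | rfl | rfl | rfl | rfl | rfl <;> norm_num) ?_
    have h1' : (L.map fun x => x.1 ^ x.2).prod = 64561751654400 := by decide +kernel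
    rw [h1']
    exact Nat.dvd_of_mod_eq_zero h1
  · by_contra h3
    have h4 : 8035034 * 8035034 ≤ ab r * ab r := Nat.mul_le_mul (by omega) (by omega)
    omega

theorem tri_of_chk {q m p ρ ρ' M K : ℕ} {g g' : ℕ → ℕ → ℕ → ℕ → Bool} {D : List ℕ} (hM : 0 < M)
    (hp : ∀ a b c r, a % p = ρ → b % p = ρ → c % p = ρ → r + (a + (b + c)) = K → r % p = ρ')
    (hg : ∀ a b c r, (okr q m r = true → g' a b c r = true) → g a b c r = true)
    (h : chk q m p ρ ρ' M K g' D = true) : tri D K g = true := by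
  unfold chk at h
  rw [cond_tf] at h
  obtain ⟨hD, h⟩ := h
  have hD' : ∀ a ∈ D, a % p = ρ := fun a ha => Nat.eq_of_beq_eq_true (allL_iff.1 hD a ha)
  obtain ⟨rm, h, hrm, -⟩ := fld_spec (P := fun d acc => ∀ r, ab r = d → d ≤ 8035033 → r % p = ρ' → okr q m r = true →
      acc.testBit (r % M) = true) (by
    intro d acc r h1 h2 h3 h4
    unfold st2
    rw [ble_of_le h2]
    have h5 : r = 100000000 + d ∨ r = 100000000 - d := by
      have : ab r = (r - 100000000) + (100000000 - r) := rfl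
      omega
    rcases h5 with h5 | h5
    · have : Nat.add 100000000 d = r := h5.symm
      rw [this]
      exact st1_self _ h3 h4
    · have : Nat.sub 100000000 d = r := h5.symm
      rw [this]
      exact st1_mono (st1_self _ h3 h4)) (by
    intro d e acc h0 r h1 h2 h3 h4
    unfold st2
    cases Nat.ble e 8035033
    · exact h0 r h1 h2 h3 h4
    · exact st1_mono (st1_mono (h0 r h1 h2 h3 h4))) h
  rw [frc_eq] at h
  refine tails_of fun l1 a l2 e1 => tails_of fun m1 b m2 e2 => allL_iff.2 fun c hc => hg _ _ _ _ fun ho => ?_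
  have e3 : D.reverse = m2.reverse ++ b :: (l1 ++ m1).reverse := by rw [e1, e2]; simp
  rw [e3] at h
  obtain ⟨cm, h1, h2⟩ := go_spec h (by simp)
  rw [List.reverse_reverse, List.append_nil] at h1 h2
  have ha : a ∈ b :: (l1 ++ m1).reverse := by
    cases m1 with
    | nil => injection e2 with e2; rw [e2]; exact List.mem_cons_self
    | cons x m1 => injection e2 with e2; rw [e2]; simp
  have h3 := allL_iff.1 h2 a ha
  unfold row at h3
  obtain ⟨o1, o2, o3⟩ := okr_spec ho
  have ma : a ∈ D := by rw [e1]; simp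
  have mb : b ∈ D := by rw [e1, e2]; simp
  have mc : c ∈ D := by rw [e1, e2]; exact List.mem_append_right _ (List.mem_append_right _ hc)
  simp only [Nat.sub_eq, Nat.add_eq] at ho o1 o2 o3 h3 ⊢
  generalize hr : K - (a + (b + c)) = r at ho o1 o2 o3 ⊢
  have e4 : r + (a + (b + c)) = K := by omega
  have h4 := hrm _ o2 r rfl o3 (hp a b c r (hD' a ma) (hD' b mb) (hD' c mc) e4) ho
  have h5 := h1 c hc
  have e5 : K - (a + b) = r + c := by omega
  have h6 : Nat.beq (Nat.land (Nat.shiftRight (Nat.lor rm (Nat.shiftLeft rm M)) (Nat.mod (K - (a + b)) M)) cm) 0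
      = false := by
    cases h7 : Nat.beq (Nat.land (Nat.shiftRight (Nat.lor rm (Nat.shiftLeft rm M)) (Nat.mod (K - (a + b)) M)) cm) 0
    · rfl
    · exfalso
      have h8 : (((rm ||| rm <<< M) >>> ((K - (a + b)) % M)) &&& cm) = 0 := Nat.eq_of_beq_eq_true h7
      have h9 := congrArg (fun x => Nat.testBit x (M - c % M)) h8
      simp only [Nat.testBit_and, Nat.testBit_shiftRight, Nat.testBit_or, Nat.testBit_shiftLeft, h5, Bool.and_true,
        Nat.zero_testBit] at h9
      have k1 := Nat.mod_lt c hM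
      have k2 := Nat.mod_lt r hM
      have k3 : (K - (a + b)) % M = (r % M + c % M) % M := by rw [e5, Nat.add_mod]
      rcases lt_or_ge (r % M + c % M) M with k4 | k4
      · rw [Nat.mod_eq_of_lt k4] at k3
        have k5 : (K - (a + b)) % M + (M - c % M) - M = r % M := by omega
        have k6 : (K - (a + b)) % M + (M - c % M) ≥ M := by omega
        rw [k5, h4] at h9
        simp only [k6, _root_.ge_iff_le, _root_.decide_true, _root_.Bool.and_self, _root_.Bool.or_true, _root_.Bool.true_eq_false] at h9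
      · rw [Nat.mod_eq_sub_mod k4, Nat.mod_eq_of_lt (by omega : r % M + c % M - M < M)] at k3
        have k5 : (K - (a + b)) % M + (M - c % M) = r % M := by omega
        rw [k5, h4] at h9
        simp at h9
  rw [h6, cond_false] at h3
  have h7 := allL_iff.1 h3 c hc
  simp only [hr] at h7
  exact h7

/-! ### the inner loops: the discriminant is a square -/

def bt (m k : ℕ) : Bool := Nat.beq (Nat.mod (Nat.shiftRight m k) 2) 1

def qr (d : ℕ) : Bool := cond (bt 4341437005659545356311106875435249476073376895144305954155417450284306736590537326127758294319635 (Nat.mod d 323))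
  (cond (bt 23921134615710081803813205065126949014494889956005559412592256605230168427806651291098833792239843776328286105791500976159449908853562896422428708725352164064531271593724336268645919248941339358863955 (Nat.mod d 667))
    (bt 240355483904209556250117814217988047853750090996989245239213756864721840918091756156358578476895540629567895600371917725012011914877156072965119863964107061083975624641898967745958324491973784849172320774103970469743703673577470536478499541608894153796970941488230661536224972592482038551044692071406062434779828958411136036620800636586916120211 (Nat.mod d 1147)) false) false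

theorem bt_sq {m n : ℕ} (h : allR (fun k => bt m (Nat.mod (Nat.mul k k) n)) n = true) (hn : n ∣ 247110827) (s : ℕ) :
    bt m (Nat.mod (s * s % 247110827) n) = true := by
  have h0 : 0 < n := Nat.pos_of_dvd_of_pos hn (by decide)
  have h1 := allR_iff.1 h (s % n) (Nat.mod_lt _ h0)
  have h2 : s * s % 247110827 % n = (s % n) * (s % n) % n := by rw [Nat.mod_mod_of_dvd _ hn, Nat.mul_mod]
  have h3 : Nat.mod (s * s % 247110827) n = Nat.mod (Nat.mul (s % n) (s % n)) n := h2
  rw [h3]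
  exact h1

theorem qr_sq (s : ℕ) : qr (s * s % 247110827) = true := by
  unfold qr
  rw [bt_sq (by decide +kernel) (by decide) s, bt_sq (by decide +kernel) (by decide) s,
    bt_sq (by decide +kernel) (by decide) s]
  rfl

def pr (kn : KD) (x : ℕ) (lx : List ℕ) (y : ℕ) (ly : List ℕ) (z u : ℕ) (fb : ℕ → ℕ → Bool) : Bool :=
  frc (Nat.add x 147110827) fun X => frc (Nat.add y 147110827) fun Y =>
  frc (Nat.mul 247110826 (Nat.mul (Nat.add z 147110827) (Nat.add u 147110827))) fun k1 =>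
  frc (Nat.add (Nat.add z 147110827) (Nat.add u 147110827)) fun k2 =>
  allL (fun wx => frc (Nat.add (Nat.add kn.C (Nat.mul 147110827 kn.W)) (Nat.mul X wx)) fun a1 =>
    frc (Nat.add (Nat.add kn.C2 (Nat.mul 147110827 kn.W2)) (Nat.mul X (Nat.mul wx wx))) fun a2 =>
    allL (fun wy => frc (Nat.mod (Nat.mul k1 (Nat.add (Nat.pow (Nat.add a1 (Nat.mul Y wy)) 2)
      (Nat.mul (Nat.add a2 (Nat.mul Y (Nat.mul wy wy))) k2))) 247110827) fun d => cond (qr d) (fb wx wy) true) ly) lx

theorem pr_spec {kn : KD} {x : ℕ} {lx : List ℕ} {y : ℕ} {ly : List ℕ} {z u : ℕ} {fb : ℕ → ℕ → Bool}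
    (h : pr kn x lx y ly z u fb = true) {wx wy wz wu : ℕ} (hx : wx ∈ lx) (hy : wy ∈ ly)
    (e1 : kn.C + x * wx + y * wy + z * wz + u * wu = 100000000 * (kn.W + wx + wy + wz) + 100000000 * wu)
    (e2 : kn.C2 + (x * (wx * wx) + (y * (wy * wy) + (z * (wz * wz) + u * (wu * wu)))) =
      100000000 * (kn.W2 + (wx * wx + (wy * wy + (wz * wz + wu * wu))))) : fb wx wy = true := by
  unfold pr at h
  simp only [frc_eq] at h
  have h1 := allL_iff.1 (allL_iff.1 h wx hx) wy hy
  rw [cond_ft] at h1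
  apply h1
  have hP : (247110827 : ZMod 247110827) = 0 := by exact_mod_cast ZMod.natCast_self 247110827
  have f1 := congrArg (Nat.cast : ℕ → ZMod 247110827) e1
  have f2 := congrArg (Nat.cast : ℕ → ZMod 247110827) e2
  push_cast at f1 f2
  have g1 : (kn.C : ZMod 247110827) + 147110827 * kn.W + (x + 147110827) * wx + (y + 147110827) * wy =
      -((z + 147110827) * wz + (u + 147110827) * wu) := by
    linear_combination f1 + (kn.W + wx + wy + wz + wu) * hP
  have g2 : (kn.C2 : ZMod 247110827) + 147110827 * kn.W2 + (x + 147110827) * (wx * wx) + (y + 147110827) * (wy * wy) =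
      -((z + 147110827) * (wz * wz) + (u + 147110827) * (wu * wu)) := by
    linear_combination f2 + (kn.W2 + wx * wx + wy * wy + wz * wz + wu * wu) * hP
  have g0 : (247110826 : ZMod 247110827) = -1 := by linear_combination hP
  obtain ⟨s, hs⟩ : ∃ s : ℕ, (s : ZMod 247110827) = (z + 147110827) * (u + 147110827) * (wz - wu) :=
    ⟨_, ZMod.natCast_zmod_val _⟩
  have g3 : 247110826 * ((z + 147110827) * (u + 147110827)) *
      ((kn.C + 147110827 * kn.W + (x + 147110827) * wx + (y + 147110827) * wy) ^ 2 +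
        (kn.C2 + 147110827 * kn.W2 + (x + 147110827) * (wx * wx) + (y + 147110827) * (wy * wy)) *
          ((z + 147110827) + (u + 147110827))) % 247110827 = s * s % 247110827 := by
    rw [← ZMod.natCast_eq_natCast_iff']
    push_cast
    rw [g0, g1, g2, hs]
    generalize (z : ZMod 247110827) + 147110827 = Z
    generalize (u : ZMod 247110827) + 147110827 = U
    ring
  have g4 := qr_sq s
  rw [← g3] at g4
  exact g4

theorem slv_iff {T : Tst} {kn : KD} {x : ℕ} {lx : List ℕ} {y : ℕ} {ly : List ℕ} {z : ℕ} {lz : List ℕ} {u : ℕ} :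
    slv T kn x lx y ly z lz u = true ↔ ∀ wx ∈ lx, ∀ wy ∈ ly, ∀ wz ∈ lz, slv T kn x [wx] y [wy] z [wz] u = true := by
  unfold slv
  simp only [frc_eq, allL_iff, List.mem_singleton, forall_eq]

theorem slv_of {T : Tst} {kn : KD} {x wx y wy z wz u : ℕ} (h : ∀ wu,
    kn.C + x * wx + y * wy + z * wz + u * wu = 100000000 * (kn.W + wx + wy + wz) + 100000000 * wu →
    kn.C2 + (x * (wx * wx) + (y * (wy * wy) + (z * (wz * wz) + u * (wu * wu)))) =
      100000000 * (kn.W2 + (wx * wx + (wy * wy + (wz * wz + wu * wu)))) → slv T kn x [wx] y [wy] z [wz] u = true) :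
    slv T kn x [wx] y [wy] z [wz] u = true := by
  unfold slv at h ⊢
  simp only [frc_eq, allL_iff, List.mem_singleton, forall_eq, cond_ft] at h ⊢
  intro h1 h2 h3
  exact h _ (Nat.eq_of_beq_eq_true h2) (Nat.eq_of_beq_eq_true h3) h1 h2 h3

/-- a solver which is a triple loop, true off the solutions of the two equations -/
structure Slv (S : KD → ℕ → List ℕ → ℕ → List ℕ → ℕ → List ℕ → ℕ → Bool) : Prop where
  iff : ∀ {kn : KD} {x : ℕ} {lx : List ℕ} {y : ℕ} {ly : List ℕ} {z : ℕ} {lz : List ℕ} {u : ℕ},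
    S kn x lx y ly z lz u = true ↔ ∀ wx ∈ lx, ∀ wy ∈ ly, ∀ wz ∈ lz, S kn x [wx] y [wy] z [wz] u = true
  of : ∀ {kn : KD} {x wx y wy z wz u : ℕ}, (∀ wu,
    kn.C + x * wx + y * wy + z * wz + u * wu = 100000000 * (kn.W + wx + wy + wz) + 100000000 * wu →
    kn.C2 + (x * (wx * wx) + (y * (wy * wy) + (z * (wz * wz) + u * (wu * wu)))) =
      100000000 * (kn.W2 + (wx * wx + (wy * wy + (wz * wz + wu * wu)))) → S kn x [wx] y [wy] z [wz] u = true) →
    S kn x [wx] y [wy] z [wz] u = true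

def slv2 (S : KD → ℕ → List ℕ → ℕ → List ℕ → ℕ → List ℕ → ℕ → Bool) (KN : List KD) (x : ℕ) (lx : List ℕ) (nx y : ℕ)
    (ly : List ℕ) (ny z : ℕ) (lz : List ℕ) (nz u : ℕ) : Bool :=
  cond (cond (Nat.ble nx nz) (Nat.ble ny nz) false)
    (allL (fun kn => pr kn x lx y ly z u fun wx wy => S kn x [wx] y [wy] z lz u) KN)
    (cond (Nat.ble nx ny) (allL (fun kn => pr kn x lx z lz y u fun wx wz => S kn x [wx] y ly z [wz] u) KN)
      (allL (fun kn => pr kn y ly z lz x u fun wy wz => S kn x lx y [wy] z [wz] u) KN))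

theorem slv2_spec {S : KD → ℕ → List ℕ → ℕ → List ℕ → ℕ → List ℕ → ℕ → Bool} (hS : Slv S) {KN : List KD} {x : ℕ}
    {lx : List ℕ} {nx y : ℕ} {ly : List ℕ} {ny z : ℕ} {lz : List ℕ}
    {nz u : ℕ} (h : slv2 S KN x lx nx y ly ny z lz nz u = true) {kn : KD} (hk : kn ∈ KN) :
    S kn x lx y ly z lz u = true := by
  refine hS.iff.2 fun wx hx wy hy wz hz => hS.of fun wu e1 e2 => ?_
  unfold slv2 at h
  rcases cond_or h with h | h
  · exact hS.iff.1 (pr_spec (allL_iff.1 h kn hk) hx hy e1 e2) wx (by simp) wy (by simp) wz hz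
  rcases cond_or h with h | h
  · exact hS.iff.1 (pr_spec (wz := wy) (wu := wu) (allL_iff.1 h kn hk) hx hz (by omega) (by (clear * - e2; omega)))
      wx (by simp) wy hy wz (by simp)
  · exact hS.iff.1 (pr_spec (wz := wx) (wu := wu) (allL_iff.1 h kn hk) hy hz (by omega) (by (clear * - e2; omega)))
      wx hx wy (by simp) wz (by simp)

def sel2 (S : KD → ℕ → List ℕ → ℕ → List ℕ → ℕ → List ℕ → ℕ → Bool) (KN : List KD) (a : ℕ) (la : List ℕ) (b : ℕ)
    (lb : List ℕ) (c : ℕ) (lc : List ℕ) (r : ℕ) (lr : List ℕ) : Bool :=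
  frc (len la) fun na => frc (len lb) fun nb => frc (len lc) fun nc => frc (len lr) fun nr =>
    cond (cond (Nat.ble na nr) (cond (Nat.ble nb nr) (Nat.ble nc nr) false) false) (slv2 S KN a la na b lb nb c lc nc r)
      (cond (cond (Nat.ble na nc) (Nat.ble nb nc) false) (slv2 S KN a la na b lb nb r lr nr c)
        (cond (Nat.ble na nb) (slv2 S KN a la na c lc nc r lr nr b) (slv2 S KN b lb nb c lc nc r lr nr a)))

def selG (S : KD → ℕ → List ℕ → ℕ → List ℕ → ℕ → List ℕ → ℕ → Bool) (kn : KD) (a : ℕ) (la : List ℕ) (b : ℕ)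
    (lb : List ℕ) (c : ℕ) (lc : List ℕ) (r : ℕ) (lr : List ℕ) : Bool :=
  frc (len la) fun na => frc (len lb) fun nb => frc (len lc) fun nc => frc (len lr) fun nr =>
    cond (cond (Nat.ble na nr) (cond (Nat.ble nb nr) (Nat.ble nc nr) false) false) (S kn a la b lb c lc r)
      (cond (cond (Nat.ble na nc) (Nat.ble nb nc) false) (S kn a la b lb r lr c)
        (cond (Nat.ble na nb) (S kn a la c lc r lr b) (S kn b lb c lc r lr a)))

theorem cond_mono {c x y x' y' : Bool} (h : cond c x y = true) (h1 : x = true → x' = true) (h2 : y = true → y' = true) :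
    cond c x' y' = true := by
  cases c
  · exact h2 h
  · exact h1 h

theorem withL_mono {t : List (ℕ × List ℕ)} {x : ℕ} {f f' : List ℕ → Bool} (h : withL t x f = true)
    (h1 : ∀ l, f l = true → f' l = true) : withL t x f' = true := by
  unfold withL at h ⊢
  cases h2 : lk t (ab x) with
  | none => rw [h2] at h; exact h
  | some l => rw [h2] at h; exact h1 l h

def gg2 (q m : ℕ) (S : KD → ℕ → List ℕ → ℕ → List ℕ → ℕ → List ℕ → ℕ → Bool) (KN : List KD) (t : List (ℕ × List ℕ))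
    (a b c r : ℕ) : Bool :=
  cond (okr q m r) (withL t a fun la => withL t b fun lb => withL t c fun lc => withL t r fun lr =>
    sel2 S KN a la b lb c lc r lr) true

theorem gg2_spec {q m : ℕ} {S : KD → ℕ → List ℕ → ℕ → List ℕ → ℕ → List ℕ → ℕ → Bool} (hS : Slv S) {KN : List KD}
    {t : List (ℕ × List ℕ)} {a b c r : ℕ} (h : okr q m r = true → gg2 q m S KN t a b c r = true) :
    cond (okr q m r) (withL t a fun la => withL t b fun lb => withL t c fun lc => withL t r fun lr =>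
      allL (fun kn => selG S kn a la b lb c lc r lr) KN) true = true := by
  refine cond_ft.2 fun ho => ?_
  have h1 := cond_ft.1 (h ho) ho
  refine withL_mono h1 fun la h1 => withL_mono h1 fun lb h1 => withL_mono h1 fun lc h1 => withL_mono h1 fun lr h1 =>
    allL_iff.2 fun kn hk => ?_
  unfold sel2 at h1
  unfold selG
  simp only [frc_eq] at h1 ⊢
  exact cond_mono h1 (slv2_spec hS · hk) fun h1 => cond_mono h1 (slv2_spec hS · hk) fun h1 =>
    cond_mono h1 (slv2_spec hS · hk) (slv2_spec hS · hk)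

theorem gg_of {q m : ℕ} {T : Tst} {KN : List KD} {t : List (ℕ × List ℕ)} (a b c r : ℕ)
    (h : okr q m r = true → gg2 q m (slv T) KN t a b c r = true) : gg q m T KN t a b c r = true := by
  have h1 := gg2_spec (S := slv T) ⟨slv_iff, slv_of⟩ h
  unfold selG at h1
  unfold gg Num.inner sel
  exact h1

/-! ### the table and the order -/

def mk (ws : List ℕ) : ℕ := List.rec 0 (fun a _ ih => sb a ih) ws

theorem mk_spec {w : ℕ} {ws : List ℕ} (h : (mk ws).testBit w = true) : memN w ws = true := by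
  induction ws with
  | nil => exact absurd h (by simp [mk])
  | cons a l ih =>
    show cond (Nat.beq a w) true (memN w l) = true
    have h' : (mk l ||| 1 <<< a).testBit w = true := h
    rw [Nat.testBit_or, Nat.one_shiftLeft, Nat.testBit_two_pow, Bool.or_eq_true, decide_eq_true_eq] at h'
    rcases h' with h' | h'
    · rw [ih h']; cases Nat.beq a w <;> rfl
    · rw [Num.beq_of_eq h']; rfl

theorem bt_spec {m k : ℕ} (h : bt m k = true) : m.testBit k = true := by
  have h1 : m >>> k % 2 = 1 := Nat.eq_of_beq_eq_true h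
  rw [Nat.testBit_eq_decide_div_mod_eq, ← Nat.shiftRight_eq_div_pow, h1]
  rfl

def row2 (rs : ℕ → ℕ → Bool) (d : ℕ) (ws : List ℕ) : Bool :=
  frc (Nat.div 3510 (Nat.gcd 3510 d)) fun q => frc (Nat.div 3509 q) fun h => frc (Nat.sub 3510 (Nat.mul q h)) fun o =>
    frc (mk ws) fun mz => allR (fun v => frc (Nat.add (Nat.mul q v) o) fun o' => cond (rs d o')
      (allR (fun k => frc (Nat.add (Nat.mul (Nat.mul q 11) k) o') fun w => cond (bt mz w) true (cond (okw d w) false true))
        (Nat.div (Nat.sub (Nat.add (Nat.mul 2 h) 11) v) 11)) true) 11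

theorem tab_of {rs : ℕ → ℕ → Bool} (hr : ∀ d w k, rs d (k * 11 + w) = rs d w) {t : List (ℕ × List ℕ)}
    (h : allL (fun x : ℕ × List ℕ => row2 rs x.1 x.2) t = true) :
    allL (fun x : ℕ × List ℕ => chkRow rs x.1 x.2) t = true := by
  refine allL_iff.2 fun x hx => ?_
  have h1 := allL_iff.1 h x hx
  unfold row2 at h1
  unfold chkRow
  simp only [Nat.add_eq, Nat.mul_eq, Nat.sub_eq, frc_eq, allR_iff, cond_ft] at h1 ⊢
  generalize Nat.div 3510 (Nat.gcd 3510 x.1) = q at h1 ⊢
  generalize Nat.div 3509 q = hh at h1 ⊢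
  generalize 3510 - q * hh = o at h1 ⊢
  intro u hu h2 h3
  have e : q * u + o = q * 11 * (u / 11) + (q * (u % 11) + o) := by
    conv_lhs => rw [← Nat.div_add_mod u 11]
    ring
  have e' : q * u + o = q * (u / 11) * 11 + (q * (u % 11) + o) := by rw [e]; ring
  have h4 := h1 (u % 11) (Nat.mod_lt _ (by decide)) (by rw [e', hr] at h2; exact h2) (u / 11)
    (by show u / 11 < (2 * hh + 11 - u % 11) / 11; omega)
  rw [← e, h3] at h4
  cases h5 : bt (mk x.2) (q * u + o)
  · rw [h5] at h4; exact absurd h4 (by decide)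
  · exact mk_spec (bt_spec h5)

theorem pw_of {D : List ℕ} (h : D.IsChain fun x y => ab x < ab y) : D.Pairwise fun x y => ab x < ab y :=
  @List.IsChain.pairwise _ _ _ ⟨fun h1 h2 => Nat.lt_trans h1 h2⟩ h

theorem part_of {f : ℕ → List ℕ → Bool} {l : List ℕ} (h : tails f (l.drop 0) = true) (n m : ℕ) :
    part f n (l.drop m) = true := by
  have h1 : ∀ (n : ℕ) (l : List ℕ), tails f l = true → part f n l = true := by
    intro n
    induction n with
    | zero => exact fun _ _ => rfl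
    | succ n ih =>
      intro l h
      cases l with
      | nil => rfl
      | cons a l =>
        have h' : cond (f a (a :: l)) (tails f l) false = true := h
        rw [cond_tf] at h'
        rw [part_succ, cond_tf]
        exact ⟨h'.1, ih l h'.2⟩
  refine h1 n _ (tails_of fun l1 a l2 e => tails_spec (l1 := l.take m ++ l1) h ?_)
  rw [List.append_assoc, ← e, List.take_append_drop, List.drop_zero]

end Cfsg.Agent.H618.LD.F81
end

-- part: H618/LD/S11
section
/-!
# S4910, row Fi22 (helper618): the principal 11-block, data and kernel check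
-/

set_option autoImplicit false
set_option maxRecDepth 100000
set_option maxHeartbeats 4000000

namespace Cfsg.Agent.H618.LD.S11

open Cfsg.Agent.H618.LD.Num

/-- the signed degrees of the nonexceptional characters -/
noncomputable def D : List ℕ :=
  (by
  refine (?fq9001 : ((pk61l (fun i1 => (pk61d (nat_lit 27) 
    (nat_lit 0x337e08057c6100cd21a0161b4802caf3806526d80c8bb8016a30502d67f9463a2100b6822016d73a03194e9a5bd0100b7d04018b2e402e1a2155c3e100b905a0188dc402e5584061f86a0c3a820173b84030cef605d32c50c2cc20175f8b8309667461135b1bb8920183a3c03059a8060aa4a0bc2a0017876ce30450805e41b00c0e09018184cc2f321725e71d00c0902018107802f430ec602e4c2bd362018048132f555485eb0889c00c2018002402f5e0805ff7a00bd93f817b78602fecbb05fd632bbf916817bdcec2f7e7175fb9100be0ca017c22882fd7857df143c0bf4e6017e855aaf909005f9ad00be48f417e565e2fc94805f2a100bf1c1a17cbf272f9b0945f849febe77e017dfbe02fbd4005f79bf8be854817d0d76afbb8805f74ea0bee75097d24f4efa53005f71900bee21817d3044afa6e805f6d0f1be9e3997db0402fa84805f6adc0bea37217d4d982fb42c45f66f30beaafc97d5b002fab78c5f57e90bec85017d63f02fb19005f59438bec56157d89c02fb107e5f5a34dbeb575d7d6ce02fb06705f605eabeb78e17d7fde2fafee5df5c6c0bebf6017d7e942fae688df5cf00bebe4217d74232fae9645f5eeb6bebab277d75d02faebc15f5d8ccbebd2417d79f02faed4d5f5e655bebc9517d777d2faf1c55f5ded0bebc6397d77e02faf1365f5dfa1bebc0617d78146faf0c85f5e14ebebc17f7d784b6faf0705f5e10c)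 i1)) (nat_lit 0) (nat_lit 154) List.nil) : List ℕ)
    = ?xq9001 → (List ℕ)) ?hq9001; (case hq9001 => (set_option maxRecDepth 1000000 in set_option simprocs false in conv => lhs; reduce; dsimp only)); intro _; exact ?xq9001 : List ℕ)

/-- the eigenvalues -/
noncomputable def tab : List (ℕ × List ℕ) :=
  let y0 : List (ℕ × List ℕ) := (by
  refine (?fq9002 : (pk61l (fun i0 => (_root_.Prod.mk (pk61d (nat_lit 23) 
    (nat_lit 0x1e78003cc000708000de1e00bff4013b000270000410000802500eff101b54b1315c005e8000acc2014c3a029220047fb808e3001040001f3c383a800071e800d03c2199800315c00618000b3f4c166ce02b61dc540000a61d014910028a00051000099900128280238c004458007b6600ec4001d4000355200681e10cdaa016c0002be000540000a280013320025050049d40) i0) ((fun g0 : Nat → Nat => pk61l (fun i1 => (pk61d (nat_lit 13) (Nat.add 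
    (nat_lit 0xf32657e8b4f85741de0810097e93e6dec8f2d77b3afdd10e5170d378db58d7569f341d9a0c9963130ad7e8bbd5c32d3d630ae15553f49d52d8062bacba080d75555457a2a714889ec4ca24f11c888c41a1f70f0872c36a19f0c485cc2ba147098846c20a0ef06c830c15a09704081ac0aa03f014804bff9fe6fe87eebf49f8efbc7d8be99f36f907c2bde9edef647acbd39e86f38796bc89e2ef0c780bbd9dd6ee076abb29d7eeb4754ba79d26e8873eb9c9ccee5c728b919c76e30712b869c1ee046fcb7b9bc6dd86e6b709b6edac6d0b659b16d806bab5a9abed546a4b4f9a66d2868eb449a0ecfc678b3999b6cd0662b2e995eca464cb239906c78636b1898aec4c620b0d9856c2060ab0297febf45f4af797a6bc85deaec974eb9c5c8ae196f6b705b2ad6969eb4459cacb9646b18586ac095eeaec570ab59596ac055aaaa953ea94544a9f94e6a6852ea94948ea3c518a899436a108af3ec5c08c5755544720eefd2796ba21bc6d3e64cafd169eaaa502c7062bd0fb84c40d5fa4f6f7863aa5c8cde36c03475974c575fa2e4565cacb53428153451f88e646822e914888e43c21890988364102028fe87de3e41ec8f387863b81d68e8872e38c1c08dd86d63601aa8d2867e3341948c7862630817e8bc85ce2dc1688b1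85762b01528a6851e28413c89b84c6258243320e901c7e23db1e28ebc7323831b68d5c68232b18a8bfc5d22d315e8a9c52227b132893c47222310687dc3c21cb0da867c3121730ae851c26211b08283bc1b20c3056825c10206b02a80fc052012ffe7f9bfa1fbafd27e3bef1f62fa67cdbe41f0af7a7b7bd91eb2f4e7a1bce1e5af2278bbc31e02ef6775bb81daaeca75fbad1d52e9e749ba21cfae72733b971ca2e4671db8c1c4ae1a707b811bf2dee6f1b761b9adc26dbb6b1b42d966c5b601aead6a6afb551a92d3e699b4a1a3ad12683b3f19e2ce666db34198acba657b291932c8e641b1e18dac6262bb131882c36615b08182ac0a5ffafd17d2bde5e9af2177abb25d3ae71722b865bdadc16cab5a5a7ad11672b2e591ac6161ab0257babb15c2ad6565ab0156aaaa54faa51512a7e539a9a14baa52523a8f1462a2650da84140a9fa4f7a7913b29ce4e1a6e135a9a24cba6313029764b5a5812aafd2502c99a38311c83bbf49e5ae886f1b4f9932bf45a7aaa940a96045dc8921f6fd2754b6018aeb2e502a3726172668e0c4720eefd2796ba21bc6d3e64cafd169eaaa502a5811768169d84de668530b96a4a764cd22f8fc470631515388e439615d0778204025fa4f9b7b23cb5decebf7443945c34de36d635d5a7cd0766832658c4c2b5fa2ef570cb4f58c2b85554a7351e281539c9974b024a51e48bb442213502c7df3d44c2e2bcfb1702315d5548fd)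 (Nat.shiftLeft 
    (nat_lit 0x1bc6d806f1b6b1aeae46712b811bc6dc26d0b601abed3e702378db00e9370235d59cce88733b919c4ae046f1b709b42d806afb4f9a3acfc66dba21b58cd075fba21ca2e1a6f1b6b1aead3e683b341932ef675fba21ca2e1a6f1b6b1aead3e683b341932e9370235d59ccf177863c05deceeb7703b55d94ebf75a3aa5d3ce9374439f5ce4e6772e3945c8ce3b7183895c34e0f70237e5bdcde36ec3735b84db76d63685b2cd8b6c035d5ad4d5f6aa3525a7cd336943475a24d0767e33c59cccdb6683315974caf652326591cc8363c31b58c4c577a1bce1e5af2278bbc31e02ef6775bb81daaeca75fbad1d52e9e749ba21cfae72733b971ca2e4671db8c1c4ae1a707b811bf2dee6f1b761b9adc26dbb6b1b42d966c5b601aead6a6afb551a92d3e699b4a1a3ad12683b3f19e2ce666db34198acba657b291932c8e641b1e18dac6262bb131882c36615baa5b00c57754b6018aef6477b3a21c34dac69f33418c4bf4796ba21bc6d3e64cafd1f62f22749b811aeace662baf21fa4fbc7d33e41ef4f647a73ce1e44f0c77b3b81d94eb474f3a21ce4e5c72338c1c34e046f73761b84dac6cb3601ad4d5469f34a1a24cfc6733341974ca464731e18c4c4c61b3081814bf45ef2f21764b9c7e93cb5d10de3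69f32657e8fd27cdbd91e5aef675fba21ca2e1a6f1b6b1aead3e683b341932c62615afd177ab867e93dbde18ea9723378db00d1d65d315d7e8b918154051ffcfe87e93ef1f4cf907bd3d91e9cf387913c31decee07653ad1d3ce887393971c8ce3070d3811bdcdd86e136b1b2cd806b53551a7cd2868933f19cccd065d329191cc78631313186cc206052fd17bcbc85d92e7170cb705ad2d11aeb04080a3fa1f78f907b23ce1e18ee075a3a21cb8e307023761b58d806aa34a19f8cd065231e1898c205fa2f21738b705a24101f62f22749b811aeace662baf2167307783641860ad04b82040d605501f80a4025ffcff37f43f75fa4fc77de3ec5f4cf9b7c83e15ef4f6f7b23d65e9cf4379c3cb5e44f177863c05deceeb7703b55d94ebf75a3aa5d3ce9374439f5ce4e6772e3945c8ce3b7183895c34e0f70237e5bdcde36ec3735b84db76d63685b2cd8b6c035d5ad4d5f6aa3525a7cd336943475a24d0767e33c59cccdb6683315974caf652326591cc8363c31b58c4c57626310586cc2b6103055814bff5fa2fa57bcbd35e42ef5764ba75ce2e4570cb7b5b82d956b4b4f5a22ce565cb2358c2c35604af77e93aa5b00c575974101aeb0777e93cb5d10de369) (nat_lit 8000))) i1)) (g0 i0) (g0 (Nat.succ i0)) List.nil) fun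 j => (pk61d (nat_lit 11) 
    (nat_lit 0x9352624c49892b23245c8a9132163bc748d31a62ec59830f3de63c9780ee9d93806f2d91ac31e63abfd7faf54e89bd36a6448e9091f99431e60cb693a0da1ac2d85b0a410003800) j)))) (nat_lit 0) (nat_lit 51) List.nil : List (ℕ × List ℕ))
    = ?xq9002 → (List (ℕ × List ℕ))) ?hq9002; (case hq9002 => (set_option maxRecDepth 1000000 in set_option simprocs false in conv => lhs; reduce; dsimp only)); intro _; exact ?xq9002 : List (ℕ × List ℕ))
  let y1 : List (ℕ × List ℕ) := (by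
  refine (?fq9003 : (fun tl : List (ℕ × List ℕ) => pk61l (fun i0 => (_root_.Prod.mk (pk61d (nat_lit 19) 
    (nat_lit 0x249003cf0079800e6581c2003787868000c25a57fe82e4645b000b13015f0027fd84d1fc92401110020e803cf0079800e3801bc3c) i0) ((fun g0 : Nat → Nat => pk61l (fun i1 => (pk61d (nat_lit 13) (Nat.add 
    (nat_lit 0x7cdba69b32c985cbaa5932a8943c99a48b224901c78a3831a08bfc57a27b11c87dc36a17309883bc15a06b0147f9bf49f62f907b7bd39e5af0c775bb29d52e88733b919c4ae046f1b709b42d806afb4f9a3acfc66db2e9932c7862bb0d982abf45e9aec9722b705a7acb961aaec565aaa9512a68523a89940a9e44e1a68930296049fa4791fa8dc45da2690f285841ba058fea7d43d99e48ee27503979c38dda6cc3559a28cd26483139818bca5c42d1960abad5c0ad55652afd568aa954f2a4d510a7d539299d4b8a5152328ed460a2550d283d4089f94f7278d3b09cd4e126dd3589a14cb262d3009754b5257d2a894949f24cd25091d489241d1f88f1473236d1a08c545d22bd148899447220d0f086d431215d09884141b20ad0408154051ffcfe87e93ef1f4cf907bd3d91e9cf387913c31decee07653ad1d3ce887393971c8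ce3070d3811bdcdd86e136b1b2cd806b53551a7cd2868933f19cccd065d329191cc78631313186cc206052fd17bcbc85d92e7170cb705ad2d1165cb185812bb15acac05552a514fca6852928f144ca104fd279139c9b84d126312ec9604a524d123c908479237118c8b044d22110dc85842120b102c8003f51f50f7c7a83c91df0ecc75039d1c90e1c6f83711b30d6c6a034519d0cbc6483191870c0c5f02ed1710b5c5982c15786b8159fabf5576a7951ba7d5366971497a3b51568694139f94f4676138f9b74d3665930b9754b2655128793349164492038f1470634117f8af44f62390fb86d42e613107782b40d6028ff37e93ec5f20f6f7a73cb5e18eeb7653aa5d10e677233895c08de36e13685b00d5f69f34759f8cdb65d32658f0c5761b30557e8bd35d92e456e0b4f5972c355d8acb5552a254d0a4751328153c89c34d126052c093f48f23f51b88bb44d21e50b083740b1fd4fa87b33c91dc4ea072f3871bb4d986ab34519a4c906273031794b885a32c1567e7611c17e9378d7e8a0540b189ebad59fab454c69f54c3a46515683d3e79d84de668530b96a4a764cd22f8fc470631515388e439615d0778204025fa4f9b7b23cb5decebf7443945c34de36d635d5a7cd0766832658c4c2b5fa2ef570cb4f58c2b85554a7351e281539c9974b024a51e48bb442213502c7df3d41dc4e747033661a54cbc6272f816e4b0559fa9e53668ed4139d84d365d528791247062bd0fb84c40d5fa4f6f7863aa5c8cde36c03475974c575fa2e4565cacb534281534493f46e21e502c7b33a81bb4d146272e2575a6170406baaaa8fbf59fa3b4d364490fb7e93aa5b00c5759728151b87b3345575aad14faa46507a76134296a499a3f118a88e42ba080fd27b23bd9d10e1a6d634f99a0c625fa2e19630aaa51e27392c08f24422058f5073a3661978be0582)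 (Nat.shiftLeft (Nat.add 
    (nat_lit 0xd365d528791247062bd0fb84c40d5fa4f6f7863aa5c8cde36c03475974c575fa2e4565cacb534281534493f46e21e502c7b33a81bb4d1530b82035d55547dfab454c69f54c3a46515683d3e79d84de668530b96a4a764cd22f8fc470631515388e439615d0778204025fa4f9b7b23cb5decebf7443945c34de36d635d5a7cd0766832658c4c2b5fa2ef570cb4f58c2b85554a7351e281539c9974b024a51e48bb442213502c7df3d41dc4e747033661a54cbc6272f852e261715e7d8b8118aeaaa47e9d42bad59fab454c69f54c3a46515683d3e79d84de668530b96a4a764cd22f8fc470631515388e439615d0778204025fa4f9b7b23cb5decebf7443945c34de36d635d5a7cd0766832658c4c2b5fa2ef570cb4f58c2b85554a7351e281539c9974b024a51e48bb442213502c7df3d41dc4e747033661a54cbc6272f816e6b3efd2502d5a29193b096a47e22390407b23a21b58cd05fa2c614789604421ea0d985f0af0d702b3f57eaaed4f2a374faa6cd2e292f476a2ad0d28273f29e8cec271f36e9a6ccb26172ea964caa250f266922c8924071e28e0c6822ff15e89ec4721f70da85cc2620ef05681ac051fe6fd27d8be41edef4e796bc31dd6eca754ba21ccee46712b811bc6dc26d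0b601abed3e68eb3f19b6cba64cb1e18aec3660aafd17a6bb25c8adc169eb2e586abb1596aaa544a9a148ea26502a7913869a24c0a58127e91e47ea37117689a43ca16106e8163fa9f50f667923b89d40e5e70e3769b30d5668a3349920c4e6062f29710b46582aeb5702b55594abf55a2aa553ca9354429f54e4a6752e294548ca3b5182895434a0f50227e53dc9e34ec27353849b74d6268532c98b4c025d52d495f4aa252527c933494247522490747e23c51cc8db46823151748af452226511c88343c21b50c4857426210506c82b41020550147ff3fa1fa4fbc7d33e41ef4f647a73ce1e44f0c77b3b81d94eb474f3a21ce4e5c72338c1c34e046f73761b84dac6cb3601ad4d5469f34a1a24cfc6733341974ca464731e18c4c4c61b3081814bf45ef2f21764b9c5c32dc16b4b445972c61604aec56b2b01554a9453f29a14a4a3c51328413f49e44e726e134498c4bb258129493448f24211e48dc46322c1134884437216108482c40b2000fd47d43df1ea0f2477c3b31d40e747243871be0dc46cc35b1a80d1467432f1920c6461c30317c0bb45c42d71660b0559f7e92816bad547a5c50a673530b93e47b62bd0cf8203ec5e44e9370235d59ccc575e42ce5554a1b4c623f50dc7df3a81b04c645a3acfd3ea8ab3b0985c99a38311c83bbf49e5ae886f1b4f9932bf45a7aaa940a96045da058ee26cc313960abc35c0acfd5faabb53ca8dd3ea9b34b8a4bd1da8ab434a09cfca7a33b09c)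 (Nat.shiftLeft 
    (nat_lit 0x4f4676138f9b74d3665930b9754b2655128793349164492038f1470634117f8af44f62390fb86d42e613107782b40d6028ff37e93ec5f20f6f7a73cb5e18eeb7653aa5d10e677233895c08de36e13685b00d5f69f34759f8cdb65d32658f0c5761b30557e8bd35d92e456e0b4f5972c355d8acb5552a254d0a4751328153c89c34d126052c093f48f23f51b88bb44d21e50b083740b1fd4fa87b33c953668ed4139d84) (nat_lit 8000))) (nat_lit 8000))) i1)) (g0 i0) (g0 (Nat.succ i0)) List.nil) fun j => (pk61d (nat_lit 11) 
    (nat_lit 0x14ce69cad95117e2b40a80efd1ba2b5564a513d1fa2762ec590650760d413800) j)))) (nat_lit 0) (nat_lit 22) tl)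
    = ?xq9003 → (List (ℕ × List ℕ))) ?hq9003; (case hq9003 => (set_option maxRecDepth 1000000 in set_option simprocs false in conv => lhs; reduce; dsimp only)); intro _; exact ?xq9003 y0 : List (ℕ × List ℕ))
  let y2 : List (ℕ × List ℕ) := (by
  refine (?fq9004 : (fun tl : List (ℕ × List ℕ) => pk61l (fun i0 => (_root_.Prod.mk (pk61d (nat_lit 17) 
    (nat_lit 0xdb606ac9b40019000bff45b682b3094d2d9d804e00268ff1fee83a0410020094eff1779a38e01c000db606c00333019000c5705b682d9015984aaa0) i0) ((fun g0 : Nat → Nat => pk61l (fun i1 => (pk61d (nat_lit 13) (Nat.add 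
    (nat_lit 0xa1978c9063230e1818be05da2e216b8b30582aeb567ead1531a7d530e919455a0f4f9e7613799a14c2e5a929d93348be3f11c18c5454e2390e585741de0810097e93e6dec8f2d77b3afdd10e5170d378db58d7569f341d9a0c9963130ad7e8bbd5c32d3d630ae155529cd478a054e7265d2c092947922ed10884d40b1f7cf5077139d1c0cd9869532f189cbe05b92c1567e8ed34d91243edfa4ea96c0315d65ca0546e1eccd155d6a5c4e6a4f915e8203c89c08ce65e42aa931886e3a818cab8153ca5c50d276132c954489234111c84c4051f20f0c7443811b00cfc63c2fd16e0aec53427912c08dc42c1f50ea06cc3241712bad040555567e8ed34d91243edfa4ea96c0315d65ca0546e1eccd155e1ae0567eafd55da9e546e9f54d9a5c525e8ed455a1a504e7e53d19d84e3e6dd34d9964c2e5d52c99544a1e4cd245912480e3c51c18d045fe2bd13d88e43ee1b50b984c41de0ad03580a3fcdfa4fb17c83dbde9cf2d7863badd94ea9744399dc8ce25702378db84da16c0357da7cd1d67e336d974c9963c315d86cc155fa2f4d764b915b82d3d65cb0d5762b2d554a89534291d44ca054f2270d3449814b024fd23c8fd46e22ed13487942c20dd02c7f53ea1eccf247713a81cbce1c6ed3661aacd14669324189cc0c5e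52e2168cb0530b555567e9f54559d84c2e4cd1c188e41ddfa4f2d744378da7cc995fa2d3d554a054b022ed02c771366189cb04c57aeb567ead1531a7d530e919455a0f4f9e7613799a14c2e5a929d93348be3f11c18c5454e2390e585741de0810097e93e6dec8f2d77b3afdd10e5170d378db58d7569f341d9a0c9963130ad7e8bbd5c32d3d630ae155529cd478a054e7265d2c092947922ed10884d40b1f7cf5077139d1c0cd9869532f189cbe05b92c15786b8159fabf5576a7951ba7d5366971497a3b51568694139f94f4676138f9b74d3665930b9754b2655128793349164492038f1470634117f8af44f62390fb86d42e613107782b40d6028ff37e93ec5f20f6f7a73cb5e18eeb7653aa5d10e677233895c08de36e13685b00d5f69f34759f8cdb65d32658f0c5761b30557e8bd35d92e456e0b4f5972c355d8acb5552a254d0a4751328153c89c34d126052c093f48f23f51b88bb44d21e50b083740b1fd4fa87b33c91dc4ea072f3871bb4d986ab34519a4c906273031794b885a32c1575a6170406baaaa8fbf5d6ab453ea91941e9d84d0a5a92668fc462a2390ae8203f49ec8ef67443869b58d3e66831897e8b8658c2aa94789ce4b023c91088163d41ce8d9865e2f8160ab3f53ca6cd1da8273b09a6cbaa50f2248e0c57a1f709881abf49edef0c754b919bc6d8068eb2e98aebf45c8acb9596a68502a68927e8dc43ca058f667503769a28c4e5c4)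 (Nat.shiftLeft (Nat.add 
    (nat_lit 0x6310dc750319567dfa4a0562bd786b8159fabf5576a7951ba7d5366971497a3b51568694139f94f4676138f9b74d3665930b9754b2655128793349164492038f1470634117f8af44f62390fb86d42e613107782b40d6028ff37e93ec5f20f6f7a73cb5e18eeb7653aa5d10e677233895c08de36e13685b00d5f69f34759f8cdb65d32658f0c5761b30557e8bd35d92e456e0b4f5972c355d8acb5552a254d0a4751328153c89c34d126052c093f48f23f51b88bb44d21e50b083740b1fd4fa87b33c91dc4ea072f3871bb4d986ab34519a4c906273031794b885a32c15786b8159fabf5576a7951ba7d5366971497a3b51568694139f94f4676138f9b74d3665930b9754b2655128793349164492038f1470634117f8af44f62390fb86d42e613107782b40d6028ff37e93ec5f20f6f7a73cb5e18eeb7653aa5d10e677233895c08de36e13685b00d5f69f34759f8cdb65d32658f0c5761b30557e8bd35d92e456e0b4f5972c355d8acb5552a254d0a4751328153c89c34d126052c093f48f23f51b88bb44d21e50b083740b1fd4fa87b33c91dc4ea072f3871bb4d986ab34519a4c906273031794b885a32c1575aad14faa46507a76134296a499a3f118a88e42ba080fd27b23bd9d10e1a6d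634f99a0c625fa2e19630aaa51e27392c08f24422058f5073a3661978be0582ab452327612d48fc4472080f6474436b19a0bf458c28f12c08843d41b30be14b8985c579f62e0462baaa91fa7502d1d67e7611c17e9378d7e8a0540b189eb81594ab454f2a214e4a5c52328c1434a044f727613849ac4cb26012d495449f24a12248fc47323411748a444721e10c484c41b20810147f43ef1f20f6479c3c31dc0eb47443971c60e046ec36b1b00d5469433f19a0ca463c3131840bf45e42e716e0b4458c2bb1580a9453428f14209e44dc26312c0934484237116088442c20b10007d43d41df0ea072437c1b30d406743241870be05c42cc575ab815aaaca55faad1552a9e549aa214faa72533a9714a2a4651da8c144aa1a507a8113f29ee4f1a76139a9c24dba6b13429964c5a6012ea96a4afa55129293e499a4a123a912483a3f11e28e646da34118a8ba457a29113288e441a1e10da86242ba131082836415a08102a80a3ff9fd0fd27de3e99f20f7a7b23d39e70f227863bd9dc0eca75a3a79d10e7272e3919c60e1a70237b9bb0dc26d63659b00d6a6aa34f9a50d1267e33999a0cba65232398f0c6262630d9840c0a5fa2f79790bb25ce2e196e0b5a5a22cb9630b025762b59580aaa54a29f94d0a5251e28994209fa4f227393709a24c625d92c094a49a24792108f246e231916089a44221b90b084241620590007ea3ea1ef8f507923be1d98ea073a3921c38df06e23661ad8d4068a33)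 (Nat.shiftLeft 
    (nat_lit 0x2bc35c0acfd5faabb53ca8dd3ea9b34b8a4bd1da8ab434a09cfca7a33b09c7cdba69b32c985cbaa5932a8943c99a48b224901c78a3831a08bfc57a27b11c87dc36a17309883bc15a06b0147f9bf49f62f907b7bd39e5af0c775bb29d52e88733b919c4ae046f1b709b42d806afb4f9a3acfc66db2e9932c7862bb0d982abf45e9aec9722b705a7acb961aaec565aaa9512a68523a89940a9e44e1a68930296049fa4791fa8dc45da2690f285841ba058fea7d43d99e48ee27503979c38dda6cc3559a28cd26483139818bca5c42d1960abad4b89cd49f22bd04079138119ccbc85552) (nat_lit 8000))) (nat_lit 8000))) i1)) (g0 i0) (g0 (Nat.succ i0)) List.nil) fun j => (pk61d (nat_lit 11) 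
    (nat_lit 0x55a9b532e644c788ef1dd038d706de98da5c41e804f91d239e704e094127e494920d70ae14415000) j)))) (nat_lit 0) (nat_lit 28) tl)
    = ?xq9004 → (List (ℕ × List ℕ))) ?hq9004; (case hq9004 => (set_option maxRecDepth 1000000 in set_option simprocs false in conv => lhs; reduce; dsimp only)); intro _; exact ?xq9004 y1 : List (ℕ × List ℕ))
  let y3 : List (ℕ × List ℕ) := (by
  refine (?fq9005 : (fun tl : List (ℕ × List ℕ) => pk61l (fun i0 => (_root_.Prod.mk (pk61d (nat_lit 16) 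
    (nat_lit 0xa4889d809c008ff78e30891c8200750071e87000666062b8618055505244514051004cc84a0a47184600448e3ffc3db33b103a80) i0) ((fun g0 : Nat → Nat => pk61l (fun i1 => (pk61d (nat_lit 13) (Nat.add 
    (nat_lit 0x4b919bc6d8068eb2e98aebf45c8acb9596a68502a68927e8dc43ca058f667503769a28c4e5c4acfd4f29b3476a09cec269b2ea943c89238315e87dc26206afd27b7bc31d52e466f1b601a3acba62bafd1722b2e565a9a140a9a249fa3710f28163d99d40dda68a3139712bad5c0ad55652afd568aa954f2a4d510a7d539299d4b8a5152328ed460a2550d283d4089f94f7278d3b09cd4e126dd3589a14cb262d3009754b5257d2a894949f24cd25091d489241d1f88f1473236d1a08c545d22bd148899447220d0f086d431215d09884141b20ad0408154051ffcfe87e93ef1f4cf907bd3d91e9cf387913c31decee07653ad1d3ce887393971c8ce3070d3811bdcdd86e136b1b2cd806b53551a7cd2868933f19cccd065d329191cc78631313186cc206052fd17bcbc85d92e7170cb705ad2d1165cb185812bb15acac05552a514fca6852928f144ca104fd279139c9b84d126312ec9604a524d123c908479237118c8b044d22110dc85842120b102c8003f51f50f7c7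a83c91df0ecc75039d1c90e1c6f83711b30d6c6a034519d0cbc6483191870c0c5f02ed1710b5c5982c1567e8ed34d91243edfa4ea96c0315d65ca0546e1eccd155d6985c101aeaaaa3efd67e9f54559d84c2e4cd1c188e41ddfa4f2d744378da7cc995fa2d3d554a054b022ed02c771366189cb055d6ab453ea91941e9d84d0a5a92668fc462a2390ae8203f49ec8ef67443869b58d3e66831897e8b8658c2aa94789ce4b023c91088163d41ce8d9865e2f8160ab3f4769a6c8921f6fd2754b6018aeb2e502a370f6668a62bd702afd53ca7d52e28ed4349f94ec26dd32c9754aa24cd2248f146822bd11c86d42620ad0147e93e41e9cf0c7653a21c8ce046e13601a7ccfc65d31e186cbf45d92dc165caec55529a144c9e44d1258123c8dc44d216102c7d43c91d40e1c6cc3451920c0c5c42c15702afd53ca7d52e28ed4349f94ec26dd32c9754aa24cd2248f146822bd11c86d42620ad0147e93e41e9cf0c7653a21c8ce046e13601a7ccfc65d31e186cbf45d92dc165caec55529a144c9e44d1258123c8dc44d216102c7d43c91d40e1c6cc3451920c0c5c42c15702b29568a9e54429c94b8a4651828694089ee4ec27093589964c025a92a893e49424491f88e646822e914888e43c21890988364102028fe87de3e41ec8f387863b81d68e8872e38c1c08dd86d63601aa8d2867e3341948c7862630817e8bc85ce2dc1688b185762b01528a6851e28413c89b84c6258126890846e22c11088584162000fa87a83be1d40e486f83661a80ce864830e17c0b88598a5c4c2e2bcfb1702315d5548fd3a8168eb3f4faa2acec26172668e0c4720eefd2796ba21bc6d3e64cafd169eaaa502a5811768163b89b30c4e582)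 (Nat.shiftLeft (Nat.add 
    (nat_lit 0xdbdec8f597a73d0de70f2d7913c5de18f0177b3baddc0ed57653afdd68ea974f3a4dd10e7d739399dcb8e5172338edc60e2570d383dc08df96f7378dbb0dcd6e136ddb58da16cb362db00d756b5357daa8d4969f34cda50d1d689341d9f8cf1673336d9a0cc565d32bd948c99647320d8f0c6d631315d898c4161b30ad840c156052ffd7e8be95ef2f4d790bbd5d92e9d738b915c32ded6e0b655ad2d3d688b395972c8d630b0d5812bdd5d8ae156b2b2d580ab55552a7d528a8953f29cd4d0a5d529291d478a31513286d420a054fd27bd3c89d94e7270d3709ad4d1265d3189814bb25ad2c09554a524fd26892948f244d2108fd479239d1b88d146322ed1608a544d223d108879437218d0b084d42120dd05882140b202d0007f53f51f7cfa87c93df1eccf5079d3c91e1cef87713b31d6cea074539d1cbce487193871c0cdf06ed3711b5cd986c135b1aacd4069534519fcce866932f194cc9063d319189cc3861130317ecbe05e52ed173cb885b92d7168cb3058d2c152e261715e7d8b8118aeaaa47e9d40b4759f9d84705fa4de35fa281502c627ae05652ad153ca88539297148ca3050d28113dc9d84e126b132c9804b5255127c92848923f11cc8d045d229111c878431213106c82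04051fd0fbc7c83d91e70f0c7703ad1d10e5c7183811bb0dac6c03551a50cfc66832918f0c4c6102fd1790b9c5b82d11630aec5602a514d0a3c508279137098c4b024d12108dc45822110b082c4001f50f5077c3a81c90df06cc35019d0c9061c2f81710b3159fa3b4d364490fb7e93aa5b00c5759728151b87b33455702afd53ca7d52e28ed4349f94ec26dd32c9754aa24cd2248f146822bd11c86d42620ad0147e93e41e9cf0c7653a21c8ce046e13601a7ccfc65d31e186cbf45d92dc165caec55529a144c9e44d1258123c8dc44d216102c7d43c91d40e1c6cc3451920c0c5c42c1567e8ed34d91243edfa4ea96c0315d65ca0546e1eccd1559fa7d515676130b93347062390777e93cb5d10de369f32657e8b4f55528152c08bb40b1dc4d986272c1575aa8f4b8a14ce6a61727c8f6c57a19f0407d8bc89d26e046bab3998aebc859caaa943698c47ea1b8fbe75036098c8b4759fa7d515676130b93347062390777e93cb5d10de369f32657e8b4f55528152c08bb40b1dc4d986272c1575ab3f568a98d3ea98748ca2ad07a7cf3b09bccd0a6172d494ec99a45f1f88e0c62a2a711c872c2ba0ef040804bf49f36f64796bbd9d7ee88728b869bc6dac6bab4f9a0ecd064cb189856bf45deae1969eb18570aaa94e6a3c502a73932e960494a3c9176884426a058fbe7a83b89ce8e066cc34a9978c4e5f02dc960ab3f53ca6cd1da8273b09a6cbaa50f2248e0c57a1f709881abf49edef0c75)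 (Nat.shiftLeft 
    (nat_lit 0x15e1aeb572eb815b5ad5567eb29589abf55cead155daa9551ea79531a93546ea21505a7d53be9c94d9a67530e9714ada51525e919481a3b51ae8c1455a2550fe869429a0f504e8113fd9f94f9e7b93d19e34eee7613a59cd4e3e7093799b74d8e6b134d9a14cde65932198b4c2e6012f59754b7e5a92c995f4ace55129d9494a1e4f9271933496e4a124591d48be449219907480e3f11ed8f1475e3991c18db46ae3411958c545fe2e91698af454e29113d899449e23911188343ee1e10e586d433e1890b9857428e13108d84141de0d906182b412e081035815407e0290097ff3fcdfd0fdd7e93f1df78fb17d33e6df20f857bd3) (nat_lit 8000))) (nat_lit 8000))) i1)) (g0 i0) (g0 (Nat.succ i0)) List.nil) fun j => (pk61d (nat_lit 11) 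
    (nat_lit 0x1595f3bdd7a8dd5b3b27632bfd70ae158e9e9282262ce564a9939224410818c31060900d000) j)))) (nat_lit 0) (nat_lit 26) tl)
    = ?xq9005 → (List (ℕ × List ℕ))) ?hq9005; (case hq9005 => (set_option maxRecDepth 1000000 in set_option simprocs false in conv => lhs; reduce; dsimp only)); intro _; exact ?xq9005 y2 : List (ℕ × List ℕ))
  (by
  refine (?fq9006 : (fun tl : List (ℕ × List ℕ) => pk61l (fun i0 => (_root_.Prod.mk (pk61d (nat_lit 14) 
    (nat_lit 0xe3d3552c302d80af82a00a282880999250593aa4907ff9e78732daa968019505b015f04fbd275492120044410743cf0f3038e0db63480d002db49c025f888820e8834208071c1b6c6c0199864015544ec13804bf10403a80e003600ccc30c0a2823008701d4061818005b015f051411803400b602bc068013804100b4027008001b0030006) i0) ((fun g0 : Nat → Nat => pk61l (fun i1 => (pk61d (nat_lit 13) 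
    (nat_lit 0x2bad5c0acfd5faad155daa3d4f2a374faa6cd2e292f48ca3b5156869429a0f504e7e53d19d84e6a71f36e9a6cd0a65930b9754b525932a8943c9f24cd245912480e3f11ed8f1470634118a8bfc57a27b11c87dc36a19f0b985742620ef05682040d6028ff37e93ec5f20f6f7b23d39e5af227863bd9dd6eca754ba4dd10e677233895c34e046f1b709b58da16c035d5abed3e68eb3f19cccdb66832e9932c78631315d86cc155fa2f4d790bb25c8ae196e0b4f59cacb9630b0d5762b2d554a89534291d478a2650da8153c89ce4e1a6893189814b024fd23c8fd479237117689a44221e50dc85841ba058fea7df3ea1eccf507923b89d40e7472f3871bb4d986c13559a28cd265e32418c8c4e6062f81794b88582) (pk61d (nat_lit 8) (Nat.add 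
    (nat_lit 0x27211a130d0500a79b8f83776b5f53463a2e22160aa98c6f523518a09385786b5d504335271a0d00a59c938a81786f675d554b433931271f150d039e7a583512a8a7a6a4a2a1a09f9e9d9b9a999695949391908f8d8c8b898887858483827f7e7d7b7a79787776747271706e6d6c6b6a696866656361605f5d5c5b5a585756545351504f4e4c4a49484645444342403f3d3c3a38373635343332302e2d2b2a28272625242221201e1c1b1a191716141312100f0e0d0b0a09070504020100a8a6a2a09e9b999593908d8b8885837f7d7a787672706d6b696663605d5b585653504e4a484543403d3a373533302d2a272522201c1a1714120f0d0a07040100a7a29f9b96938f8b87837e7a77726e6b68635f5b57534f4a46433f3a36332e2a26221e1a16120e0a0501a59c938a81786f675d554b433931271f150d03a293837263534333221201a76b2ea9a39e98928c86807a756f6a645e58524d46413b352f29241d18120c06a76b2ea7a09a938c857e78716b655d575049433c352e27211a130d05006f9e5812a8a7a6a4a2a1a09f9e9d9b9a999695949391908f8d8c8b898887858483827f7e7d7b7a79787776747271706e6d6c6b6a696866656361605f5d5c5b5a585756545351504f4e4c4a49484645444342403f3d3c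3a38373635343332302e2d2b2a28272625242221201e1c1b1a191716141312100f0e0d0b0a0907050402008c35a7937e6b57432e1a05a5a09c97938e8a85817c78736f6b67625d5955504b47433e3935312c27231f1a15110d080300a29b938b837a726b635b534a433a332a221a120a018c6f5235189b8f83776b5f53463a2e22160aa8a6a2a09e9b999593908d8b8885837f7d7a787672706d6b696663605d5b585653504e4a484543403d3a373533302d2a272522201c1a1714120f0d0a070401007a4612a76b2ea29e99938d88837d78726d69635d58534e48433d37332d27221c17120d0701937e6b57432e1a059e92867a6f64584d4135291d1206a7937e6b57432e1a05a5a09c97938e8a85817c78736f6b67625d5955504b47433e3935312c27231f1a15110d0803007a129b8f83776b5f53463a2e22160a9b836b533a220aa8a29e99938d88837d78726d69635d58534e48433d37332d27221c17120d078c35a09385786b5d504335271a0d00469383726353433322129e7a583512937e6b57432e1a059e866f584129129b8f83776b5f53463a2e22160aa09a938c857e78716b655d575049433c352e27211a130d05008c3593785d43270da29b938b837a726b635b534a433a332a221a120a9b836b533a22469e7a583512a09385786b5d504335271a00a2938b837a726b635b534a433a332a221a6b785d4327835322466b2e6b6b936b435322581243)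 (Nat.shiftLeft 
    (nat_lit 0x9e92867a6f64584d4135291d1206a29b938b837a726b635b534a433a332a221a120a01a7a29f9b96938f8b87837e7a77726e6b68635f5b57534f4a46433f3a36332e2a26221e1a16120e0a0501a76b2ea7a09a938c857e78716b655d575049433c352e) (nat_lit 8000))) i1))) (g0 i0) (g0 (Nat.succ i0)) List.nil) fun j => (pk61d (nat_lit 11) 
    (nat_lit 0x44b87b0a1ff3fb7c2f85e9bcd780eb5d432a5d4b0156aa253ea093fa654c8984f21e23b26cccf199318530a494624e47c889081c4380698cc15a2ac4f09d12823c438800e61682d0580a40f81c0370640980a8150280400680c0140240480800a00c0080000000000000) j)))) (nat_lit 0) (nat_lit 76) tl)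
    = ?xq9006 → (List (ℕ × List ℕ))) ?hq9006; (case hq9006 => (set_option maxRecDepth 1000000 in set_option simprocs false in conv => lhs; reduce; dsimp only)); intro _; exact ?xq9006 y3 : List (ℕ × List ℕ))

def rs : ℕ → ℕ → Bool := fun _ w => Nat.beq (Nat.mod w 11) 2

def T : Tst := ⟨101791153, 101360800, 1, 3588⟩

def KN : List KD := [⟨1087147427220, 10872, 6411627911890800, 64118304⟩, ⟨1245525805620, 12456, 7882646290470000, 78830496⟩]

theorem hD : D.Pairwise fun x y => ab x < ab y := F81.pw_of (by decide +kernel)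

theorem hDD : chkD 11 13 4291 D = true := by decide +kernel

theorem ht : allL (fun x : ℕ × List ℕ => chkRow rs x.1 x.2) tab = true :=
  F81.tab_of (fun d w k => by
    have h : Nat.mod (k * 11 + w) 11 = Nat.mod w 11 := Nat.mul_add_mod_self_right k 11 w
    unfold rs
    rw [h]) (by decide +kernel)

theorem main : tri D 400013649 (gg 13 4291 T KN tab) = true :=
  F81.tri_of_chk (q := 13) (m := 4291) (p := 11) (ρ := 2) (ρ' := 7) (M := 131217) (by decide) (by intros; (solve | lia | omega))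
    F81.gg_of (by decide +kernel)

end Cfsg.Agent.H618.LD.S11
end

-- part: H618/LD/S13
section
/-!
# S4910, row Fi22 (helper618): the principal 13-block, data and kernel check
-/

set_option autoImplicit false
set_option maxRecDepth 100000
set_option maxHeartbeats 4000000

namespace Cfsg.Agent.H618.LD.S13

open Cfsg.Agent.H618.LD.Num

/-- the signed degrees of the nonexceptional characters -/
noncomputable def D : List ℕ :=
  (by
  refine (?fq9007 : ((pk61l (fun i1 => (pk61d (nat_lit 27) 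
    (nat_lit 0xcdc62019a053c332a08065f9920b1d820163d7402c9fed06471700c85ee856c11402d9e6f6635f380c5f42018b2c902e18fa05c46100b8dc90189264a311b8806216280b9762017472402e9cf1c6171a00c29a20175f8403099f685dd8400c1b020177b02e706380060be100c16957b82b0c02f08eb05e28b00c11420178e197b028d905e71d00bd042017a34f0300f23c600b500bd6c201800a0f2f62e565ec9900bda23517f9e402ff36005fe0948bdcbdab7bc7202fdd7005fb6297be114417c44402f8a7c85fa1bd0bf42ad57e80402fce5b05f1fc52be42a017c90382fcb2805f8e300bf177cd7cc7102f9a6805f86100be6dd097dfa302f9f4805f3ffc0be847017de6fe2fbbec05f45100be938517dc7002fb7bb85f4e0b6be9f4017db0402fa82dddf6ac07bed4e017da73cafa95605f532fabece2c17d59502fb29745f64274beb0d897d62402fac6bc5f63200bec5cb17d65802fb0e085f61800bec2a6b7d6d6c2fb05805f60620beb782d7d6fa82fafe095f5c6c0beb93997d7d102fae8405f5f030beba9f17d7ad42faebc15f5d8e1bebd10b7d79fdafaed205f5da8ebebce817d77052faf24e5f5dd80bebbbd17d78cc2faf177df5e260bebbf797d78092faf0c85f5e169bebc1677d7850afaf08ddf5e0f4)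 i1)) (nat_lit 0) (nat_lit 140) List.nil) : List ℕ)
    = ?xq9007 → (List ℕ)) ?hq9007; (case hq9007 => (set_option maxRecDepth 1000000 in set_option simprocs false in conv => lhs; reduce; dsimp only)); intro _; exact ?xq9007 : List ℕ)

/-- the eigenvalues -/
noncomputable def tab : List (ℕ × List ℕ) :=
  let y0 : List (ℕ × List ℕ) := (by
  refine (?fq9008 : (pk61l (fun i0 => (_root_.Prod.mk (pk61d (nat_lit 23) 
    (nat_lit 0xf0a001bd80030f1b05b5cc07e0000f0a001ce00036d1405b2000ae06015180022ce003de000757740e70001b68a03180005e8000bbf2016c8002d1e00580000ae0601569bd29c4004b00007bc000f3a20185d00300de05a3c00b0000144000252000496a888cf5811300020a1203ce8807822b0d89001a1a802c0cb84d000) i0) ((fun g0 : Nat → Nat => pk61l (fun i1 => (pk61d (nat_lit 13) (Nat.add 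
    (nat_lit 0x638e1c08dd06ce35a1a68d0066632618c8c305fe2f21728b605962be15890c2840c101ffefbe7bebcf1df6eba73cb8e1beedb66bab4d19e6cb2638b0c17debae5b6acb15d6aaa83a3c55b6cc5757c44aa23b110881c3da1d30dc867c30a16b0a884dc23a103074833c16a09b040819c09a03300c7ffbfc9fcafd87e5bef9f62fa47cbbe29efaf707b1bd59e92f3c797bc89e2af0877dbbb9dc2ed4763bae9d5aea0749ba19cf2e6c72fb949c8ae38715b879c22e046fbb7a9bbadd06e1b6d9b52d9c6c7b609aead686adb539a82d34693b469a1ad00679b3999b2ccc65fb2c994ac98645b1f98e2c6462bb12987ac30611b059812bfc5f7af897aabc85ddaeb9742b945c3ade96dab605a9ad19672b2c58fac4960aaf8575ab795a2ac455baaa953aa90541a9d94d2a5c527a90a2d715e8a8c51226f12a88ec4422070f6874c37219f0c285ac2a213708e840c1d20cf05a826c10206702680cc031ffeff27f2bf61f96fbe7d8be91f2ef8a7bebdc1ec6f567a4bcf1e5ef2278abc21df6eee770bb51d8eeba756ba81d26e8673cb9b1cbee52722b8e1c56e1e708b811beedea6eeb741b86db66d4b671b1ed826bab5a1ab6d4e6a0b4d1a4ed1a686b4019e6ce666cb33197ecb2652b261916c7e638b1918aec4a61eb0c1846c1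6604aff17debe25eaaf21776bae5d0ae5170eb7a5b6ad816a6b4659cacb163eb12582abe15d6ade568ab1156eaaa54eaa41506a76534a97149ea4251aa8a1436a0e500c101f48e046b42f216591d38d646162bd13788843a618509b83a413604cfff7ec3ec5f14f6379e3c55ddcec775039e5ca4e2b7023775b6cd8f6b43505a34cf366632958fcc5761830257c4bbb5ca2db568cb1f57c2b45554a8352e28d541c9e74e0266640f1fa8f6c7823a71c68dcc6b233f1928c2c5e22d715e8a8c51226f12a88ec4422070f6874c37219f0c285ac2a213708e840c1d20cf05a826c10206702680cc031ffeff27f2bf61f96fbe7d8be91f2ef8a7bebdc1ec6f567a4bcf1e5ef2278abc21df6eee770bb51d8eeba756ba81d26e8673cb9b1cbee52722b8e1c56e1e708b811beedea6eeb741b86db66d4b671b1ed826bab5a1ab6d4e6a0b4d1a4ed1a686b4019e6ce666cb33197ecb2652b261916c7e638b1918aec4a61eb0c1846c16604aff17debe25eaaf21776bae5d0ae5170eb7a5b6ad816a6b4659cacb163eb12582abe15d6ade568ab1156eaaa54eaa41506a76534a97149ea4251aa8a1436a0e500a7d13ce9da4e6a7013669a64cca6312fe9724b2cac24f924890a47823591788a244421b90a883a4102018fd87d23dc1e78f0876a3a81cd8e387023741b38d6869a3401998c9863230c17f8bc85ca2d81658af85622a414b8a284fa270131895849223c1178db6)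 (Nat.shiftLeft 
    (nat_lit 0x1b6cdf76db35d5beedea6eeb741b86db66d4b671b1ed826bab811beedea6eeb741b86db66d4b671b1ed826bab5a1b6cdb671c37ddb6cd7569a37ddaeae52722b8e1c56e1e708b811beedea6eeb741b86db66d4b671b1ed826bab5a1ab6d4e6a0b4d1a4ed1a70235a1d0ce79736397dca4e4571c38adc3ce1170237ddbd4ddd6e8370db6cda96ce363db04d756b4356da9cd4169a349da34d0d68033cd9ccea073cb949c56e046eeb6d9b1ed686a0b4699e6ccc756ba81d26e8673cb9b1cbee52722b8e1c56e1e708b811beedea6eeb741b86db66d4b671b1ed826bab5a1ab6d4e6a0b4d1a4ed1a686b4019e6ce666cb33197edb675d39e5c70df76db35d5a68cf365939e5b6ccf375d39e5c70df76db35d5a68cf365937ddaeaea0715b6d9a82ccc6db3bedddcee176a3b1dd74ead7503a4dd0ce79736397dca4e4571c38adc3ce1170237ddbd4ddd6e8370db6cda96ce363db04d756b4356da9cd4169a349da34d0d68033cd9cccd966632fd964ca564c322d8fcc717843b51d40e6c71c3811ba0d9c6b434d1a00ccc64c3191df6eba73cb8e1beedb66bab4d19e6cb2638bc558aef8a7b1bcf1e2aeee763ba81cf2e52715b811bbadb66c7b5a1a82d1a679b33194ac7e62bb0c1812be27c53df5ee0f637ab3d25e78f2f7913c55e10efb7773b85da8ec775d3ab5d40e9374339e5cd8e5f7293915c70e2b70f3845c08df76f53775ba0dc36db36a5b38d8f6c135d5ad0d5b6a73505a68d2768d3435a00cf36733365998cbf6593295930c8b63f31c58c8c5762530f5860c2360b30257f8bef5f13ffdf7cf7d79e3bedd74e7971c37ddb6cd7569a33cd964c716182fbd75cb6d7d8be91e44f15749ba19c08df76bab5a19cccd962bb129790bbb7ffbe29e2aea0715b6d9a82ccc62baf896dadb682037ddaeab2c8613ffde78e796db33cd860b6d55542a20e90408063f61f48f7079e3c21da8ea073)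 (nat_lit 8000))) i1)) (g0 i0) (g0 (Nat.succ i0)) List.nil) fun j => (pk61d (nat_lit 11) 
    (nat_lit 0x41282303a01bf67ecfd5fa3ef7daf51e93b1748df5be3736e0dc1b3b656c0d7d9631e626c457c2af538a3140a804f89cd2aa3c46e6b88d9151bc0cc00800) j)))) (nat_lit 0) (nat_lit 44) List.nil : List (ℕ × List ℕ))
    = ?xq9008 → (List (ℕ × List ℕ))) ?hq9008; (case hq9008 => (set_option maxRecDepth 1000000 in set_option simprocs false in conv => lhs; reduce; dsimp only)); intro _; exact ?xq9008 : List (ℕ × List ℕ))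
  let y1 : List (ℕ × List ℕ) := (by
  refine (?fq9009 : (fun tl : List (ℕ × List ℕ) => pk61l (fun i0 => (_root_.Prod.mk (pk61d (nat_lit 19) 
    (nat_lit 0x248b843ad0868d4b13014a002727c4d000922e10eb42100040f807e000fa981e1403a0206f600dd7c16d7329400513609d801393e) i0) ((fun g0 : Nat → Nat => pk61l (fun i1 => (pk61d (nat_lit 13) (Nat.add 
    (nat_lit 0x24af652d26f92448863f51d38d646162bd13788843a618509b83a413604cfff7ec3ec5f14f6379e3c55ddcec775039e5ca4e2b7023775b6cd8f6b43505a34cf366632958fcc5761830257c4bbb5ca2db568cb1f57c2b45554a8352e28d541c9e74e026652e494b49223f51ac8af44421850748133f61f14f3c7773a81ca4e046db35a1a34ccc63f30c17c4b945a3aeb5656aa9513a6952468a140f9e74e3669930b9654a264912078e346162891038614206080fff7df3df5e78efb75d39e5c70df76db35d5a68cf365931c5860bef5d72db5658aeb55529a54509e74d325952488e345121850407df3cf1d74e386db34d1964c305d72cb575ab93547a9d52e2957429a0e4e6a71b30b97f49f24df1ed8f0457a2a30cf8614102066fb17d23c89e2ae937433811beed756b433999b2c5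76252f21776b395962aa953aa1b50726312fe8fd47821b90c27df3e91d40e866c135a18c8c4a5a32cb56f2b11554a9053b2971484a2850727d13b49c04d326312e495849f24912148f046b22f114488843721510748204031fb0fa47b83cf1e10ed475039b1c70e046e83671ad0d346803331930c646182ff1790b945b02cb15f0ac454829714509f44e026312b092447822f11108544101fb0f707843a81c70dd06b43401930c305e42d855eea0d491a0e4e9e6652bd924474e2bd0e983a3ffdf14f1575038adb6cd41666315d7c4b6d57c2a0d41c99949222bd0747c53a81b6cccc5f1ae4d68aaf7554a96d41a9bf4b8a48d1aa88741c9facf3a74f3809acccca6172e495eca5a4df248910c7ea3a71ac8c2c57a26f110874c30a137074826c099ffefd87d8be29ec6f3c78abbb9d8eea073cb949c56e046eeb6d9b1ed686a0b4699e6ccc652b1f98aec30604af89776b945b6ad1963eaf8568aaa9506a5c51aa8393ce9c04cca5c929692447ea35915e888430a0e90267ec3e29e78eee7503949c08db66b43469998c7e6182f89728b475c9a5c507261726f8af4309f62f1570235a18aebbb55528391fa8613a81ad0b475d6ade568ab1156eaaa54eaa41506a76534a97149ea4251aa8a1436a0e500a7d13ce9da4e6a7013669a64cca6312fe9724b2a56129693e498a49122e90a47ea3c11c68d6464a2f115e8a244aa2210f686e430a15108e83a416a0810268063fc9fb0fbe7d23e29ee0f5679e3c89e10eee76a3ae9d40e867363949c70e1e70237a9ba0db66ce3609ad0d4e69a3469a00ce666632c9930c7e6323129860c165fe2f89790bae5ca2de96c0b465962c495f0ade5622aa9520a7652e2909450a0e4fa27693809a64c625c92b093e49224291e08d645e228911086e42a20e90408063f61f48f7079e3c21da8ea073638e1c08dd06ce35a1a68d0066632618c8c305fe2f21728b60596)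 (Nat.shiftLeft (Nat.add 
    (nat_lit 0xbb9d8eea073cb949c56e046eeb6d9b1ed686a0b4699e6ccc652b1f98aec30604af89776b945b6ad1963eaf8568aaa9506a5c51aa8393ce9c04cca5c929692447ea35915e888430a0e90267ec3e29e78eee7503949c0a1850405962aaabad5c9aa3d4ea9714aba14d07273538d985cbfa4f926f8f6c7822bd151867c30a0810337d8be91e44f15749ba19c08df76bab5a19cccd962bb129790bbb59cacb1554a9d50da83931897f47ea3c10dc8613ef9f48ea07433609ad0c646252d1965aaf7506a48d07274f33295ec9223a715e874c1d1ffef8a78aba81c56db66a0b3318aebe25b6abe1506a0e4cca49115e83a3e29d40db66662f8d75ab795a2ac455baaa953aa90541a9d94d2a5c527a90946aa2850da8394029f44f3a76939a9c04d9a69933298c4bfa5c92ca9584a5a4f926292448ba4291fa8f0471a3591928bc457a28912a88843da1b90c2854423a0e905a820409a018ff27ec3ef9f48f8a7b83d59e78f227843bb9da8eba7503a19cd8e5271c3879c08dea6e836d9b38d826b43539a68d1a6803399998cb264c31f98c8c4a61830597f8be25e42eb9728b7a5b02d19658b1257c2b79588aaa54829d94b8a4251428393e89da4e026993189724ac24f924890a47823591788a244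421b90a883a4102018fd87d23dc1e78f0876a3a81cd8e387023741b38d6869a3401998c9863230c17f8bc85ca2d8165a922db636dd75ab2b554a89d34a923450a07cf3a71b34c985cb2a513248903c71a30b144881c30a1030407ffbef9efaf3c77dbae9cf2e386fbb6d9aead34679b2c98e2c305f7aeb96dab2c575aaa94d2a284f3a6992ca924471a2890c28203ef9e78eba71c36d9a68cb26182eb965ab935a2abdd552a5b506a6fd2e292346aa21d0727eb3ce9d3ce026b3332985cb9257b296937c9224431fa8e9c6b230b15e89bc4421d30c284dc1d209b0267ffbf61f62f8a7b1bcf1e2aeee763ba81cf2e52715b811bbadb66c7b5a1a82d1a679b33194ac7e62bb0c1812be25ddae516dab4658fabe15a2aaa541a97146aa0e4f3a7013329724a5a4911fa8d6457a2210c283a4099fb0f8a79e3bb9d40e5270236d9ad0d1a66631f9860be25ca2d1d246490fff6db2db52486dbaaa524679d30b9244616184fff79e39e5b6ccf36182db55549e74922184f3c6db30c4c2e184aaa430d75ab2b554a89d34a923450a07cf3a71b34c985cb2a513248903c71a30b144881c30a1030407ffbef9efaf3c77dbae9cf2e386fbb6d9aead34679b2c98e2c305f7aeb96dab2c575aaa94d2a284f3a6992ca924471a2890c28203ef9e78eba71c36d9a68cb26182eb965a9233328e9c1d1e2adb662babe133283a36dd726b4557baaa54b6a0d4dfa5c52468d5443a0e4fd679d3a79c04d6666530b97)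 (Nat.shiftLeft 
    (nat_lit 0x9e74e3669930b9654a264912078e346162891038614206080fff7df3df5e78efb75d39e5c70df76db35d5a68cf365931c5860bef5d72db5658aeb55529a54509e74d325952488e345121850407df3cf51aa88741c9facf3a74f3809acccca6172e495eca5a4df248910c7ea3a71ac8c2c57a26f110874c30a137074826c099ffefd87d8be29ec6f3c78ab) (nat_lit 8000))) (nat_lit 8000))) i1)) (g0 i0) (g0 (Nat.succ i0)) List.nil) fun j => (pk61d (nat_lit 11) 
    (nat_lit 0x149279c9a92d16a1bb96726d4973ae0596b1d4327b42073cc99432402d450800) j)))) (nat_lit 0) (nat_lit 22) tl)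
    = ?xq9009 → (List (ℕ × List ℕ))) ?hq9009; (case hq9009 => (set_option maxRecDepth 1000000 in set_option simprocs false in conv => lhs; reduce; dsimp only)); intro _; exact ?xq9009 y0 : List (ℕ × List ℕ))
  let y2 : List (ℕ × List ℕ) := (by
  refine (?fq9010 : (fun tl : List (ℕ × List ℕ) => pk61l (fun i0 => (_root_.Prod.mk (pk61d (nat_lit 17) 
    (nat_lit 0x8b3840f820094f0a0779a39c01bd80db456583aefc96c80ae0651362418116707bc039c0185d0b4785703) i0) ((fun g0 : Nat → Nat => pk61l (fun i1 => (pk61d (nat_lit 13) (Nat.add 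
    (nat_lit 0x25c92488d644420e8fd879e3a81c08d6866630c172aaf7506a48d07274f33295ec9223a715e874c1d1ffef8a78aba81c56db66a0b3318aebe25b6abe1506a0e4cca49115e83a3e29d40db66662f8d78ebad5c9ade56beb45595ac455eeadd561aaa551ea7552da90544ea0d4f9a76537e9a54c5a5c52ae93d491a4251de8d545da28510e86d429a0e503e8053f59f44f6e79d3c19da4e9e73538d9c04dce6cd3599a64cfe66532598c4c2e5fd2f19724b5e5952bd9584a8e52d28993e49be4c525592448ee45d22190a481e3f51ed8f0474e38d1b98d6467e3251858bc45ae2bd1518a244de25511d888440e1ed0e986e433e1850b5854426e11d08183a419e0b504d82040ce04d0198063ffdfe4fe57ec3f2df7cfb17d23e5df14f7d7b83d8deacf4979e3cbde44f157843bedddcee176a3b1dd74ead7503a4dd0ce79736397dca4e4571c38adc3ce1170237ddbd4ddd6e8370db6cda96ce363db04d756b4356da9cd4169a349da34d0d68033cd9cccd966632fd964ca564c322d8fcc71632315d894c3d618308d82cc095fe2fbd7c4bd55e42eed75cba15ca2e1d6f4b6d5b02d4d68cb395962c7d624b0557c2bad5bcad15622add554a9d5482a0d4eca6952e293d484a35514286d41ca014fa279d3b49cd4e026cd34c999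4c625fd2e49654ac252d27c931492245d2148fd478238d1ac8c945e22bd14489544421ed0dc86142a211d07482d410204d00c7f93f61f7cfa47c53dc1eacf3c7913c21ddced475d3a81d0ce6c72938e1c3ce046f53741b6cd9c6c135a1a9cd3468d34019ccccc65932618fcc6462530c182cbfc5f12f2175cb945bd2d8168cb2c589ae4d68aaf7554a96d41a9bf4b8a48d1aa88741c9facf3a74f3809acccca6172e495eca5a4df248910c7ea3a71ac8c2c57a26f110874c30a137074826c099ffefd87d8be29ec6f3c78abbb9d8eea073cb949c56e046eeb6d9b1ed686a0b4699e6ccc652b1f98aec30604af89776b945b6ad1963eaf8568aaa9506a5c51aa8393ce9c04cca5c929692447ea35915e888430a0e90267ec3e29e78eee7503949c08db66b43469998c7e6182f89728b474919243ffdb6cb6d4921b6ebad554a69514279d34c965492238d1448614101f7cf3c75d38e1b6cd3465930c175cb2c55528a134c9244512080f3c71c34d1860b2d506a0e4cca49115e83a3e29d40db66662f895f0a0e49220e8ea0666ade5622aa9520a7652e2909450a0e4fa27693809a64c625c92b093e49224291e08d645e228911086e42a20e90408063f61f48f7079e3c21da8ea073638e1c08dd06ce35a1a68d0066632618c8c305fe2f21728b605962be1588a9052e28a13e89c04c625612488f045e22210a88203f61ee0f0875038e1ba0d686803261860bc85b0)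 (Nat.shiftLeft (Nat.add 
    (nat_lit 0xc21df6eee770bb51d8eeba756ba81d26e8673cb9b1cbee52722b8e1c56e1e708b811beedea6eeb741b86db66d4b671b1ed826bab5a1ab6d4e6a0b4d1a4ed1a686b4019e6ce666cb33197ecb2652b261916c7e638b1918aec4a61eb0c1846c16604aff17debe25eaaf21776bae5d0ae5170eb7a5b6ad816a6b4659cacb163eb12582abe15d6ade568ab1156eaaa54eaa41506a76534a97149ea4251aa8a1436a0e500a7d13ce9da4e6a7013669a64cca6312fe9724b2a56129693e498a49122e90a47ea3c11c68d6464a2f115e8a244aa2210f686e430a15108e83a416a0810268063fc9fb0fbe7d23e29ee0f5679e3c89e10eee76a3ae9d40e867363949c70e1e70237a9ba0db66ce3609ad0d4e69a3469a00ce666632c9930c7e6323129860c165fe2f89790bae5ca2de96c0b465962c4d5529233ce985c92230b0c27ffbcf1cf2db6679b0c16daaaa4f3a4910c279e36d9862bad53aa5c50727352fe93e47822bd0c28203e91e44e8670235a19ccc4a5e42cb1554a0e4c623c10dc7d23a81ad0c64596a48ccca3a707478ab6d98aeaf84cca0e8db75d68614101658aaa2cb5246490fff6db2db52486dbaeb5656aa9513a6952468a140f9e74e3669930b9654a264912078e3461628910386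14206080fff7df3df5e78efb75d39e5c70df76db35d5a68cf365931c5860bef5d72db5658aeb55529a54509e74d325952488e345121850407df3cf1d74e386db34d1964c305d72cb55528a134c9244512080f3c71c34d1860b2c514249104071c30c555297141c9c04b924911ac88841d1fb0f3c7503811ad0ccc6182e515f0a5c4e024911107ec3a81ad0c315d6aaa534a8a13ce9a64b2a4911c68a2430a080fbe79e3ae9c70db669a32c9860bae5962aa94509a6492228904079e38e1a68c30596aeb4e366170c282037ddaeab2c5552184fbe596aeb56f2b45588ab75552a75520a8353b29a54b8a4f52128d5450a1b50728053e89e74ed27353809b34d3266531897f4b925952b094b49f24c524891748523f51e08e346b23251788af451225511087b43721850a884741d20b50408134031fe4fd87df3e91f14f707ab3cf1e44f087773b51d74ea074339b1ca4e3870f3811bd4dd06db3671b04d686a734d1a34d006733331964c9863f3191894c3060b2ff17c4bc85d72e516f4b605a32cb1624af856f2b11554a9053b2971484a2850727d13b49c04d326312e495849f24912148f046b22f114488843721510748204031fb0fa47b83cf1e10ed475039b1c70e046e83671ad0d346803331930c646182ff1790b945b02cb568aaa9506a5c51aa8393ce9c04cca5c929692447ea35915e888430a0e90267ec3e29e78eee7503949c08db66b43469998c7e6182f89728b4657c2aa94b8a0e4e)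 (Nat.shiftLeft 
    (nat_lit 0x2bc75d6ae4d6f2b5f5a2acad622af756eab0d552a8f53aa96d482a27506a7cd3b29bf4d2a62d2e295749ea48d2128ef46aa2ed142887436a14d07281f4029facfa27b73ce9e0ced274f39a9c6ce026e73669accd3267f332992cc626172fe978cb925af2ca95ecac2547296944c9f24df26292ac92247722e910c85240f1fa8f6c7823a71c68dcc6b233f1928c2c5e22d715e8a8c51226f12a88ec4422070f6874c37219f0c285ac2a213708e840c1d20cf05a826c10206702680cc031ffeff27f2bf61f96fbe7d8be91f2ef8a7bebdc1ec6f567a4bcf1e5ef2278ab) (nat_lit 8000))) (nat_lit 8000))) i1)) (g0 i0) (g0 (Nat.succ i0)) List.nil) fun j => (pk61d (nat_lit 11) 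
    (nat_lit 0x556826ff9f03d579ef21c3b776bacf19828f4b48dc7a08910418428000) j)))) (nat_lit 0) (nat_lit 20) tl)
    = ?xq9010 → (List (ℕ × List ℕ))) ?hq9010; (case hq9010 => (set_option maxRecDepth 1000000 in set_option simprocs false in conv => lhs; reduce; dsimp only)); intro _; exact ?xq9010 y1 : List (ℕ × List ℕ))
  (by
  refine (?fq9011 : (fun tl : List (ℕ × List ℕ) => pk61l (fun i0 => (_root_.Prod.mk (pk61d (nat_lit 15) 
    (nat_lit 0x29c44d58960120c1ef038f4686ac2e968f2b5053889ab129024ea44c06c48d2017342b504fbc9a0129024ea480089810801b1234806040b9a14a026804200834103e1e1437b06720c0814a027604bf07380e001bd836006720c600f781ce031806000b001440230037005800af012001b8034804d0042006c0060006) i0) ((fun g0 : Nat → Nat => pk61l (fun i1 => (pk61d (nat_lit 13) (Nat.add 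
    (nat_lit 0x236d9ad0d1a66631f9860be25ca2d195f0aaa52e2839380972492235911083a3f61e78ea070235a1998c305caaaa524679d30b9244616184fff79e39e5b6ccf36182db55549e74922184f3c6db30c52e283915e8613811ad0aaa5071d40d69491999474e0e8f156db315d5f099941d1b6eb45554a8352e28d541c9e74e026652e494b49223f51ac8af44421850748133f61f14f3c7773a81ca4e046db35a1a34ccc63f30c17c4b945a32be1554a5c50727012e492446b22210747ec3cf1d40e046b43331860b9541c8af3c558aea0e3a8568aaa9506a5c51aa8393ce9c04cca5c929692447ea35915e888430a0e90267ec3e29e78eee7503949c08db66b43469998c7e6182f89728b4657c2aa94b8a0e4e025c92488d644420e8fd879e3a81c08d6866630c172aaa94919e74c2e4911858613ffde78e796db33cd860b6d555279d2488613cf1b6cc310405965245b6c6dbaaa524679d30b9244616184fff79e39e5b6ccf36182db55549e74922184f3c6db30c52e2838e046b41d40d6930b8612aa90c3491999474e0e8f156db315d5f099941d1b6e9232487ffb6d96da92436dd55297141c9c04b924911ac88841d1fb0f3c7503811ad0ccc6182e515f0a5c4e024911107ec3a81ad0c3141c8af3c558aea0e3a852466651d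383a3c55b6cc5757c26650746dbaaa541a97146aa0e4f3a7013329724a5a4911fa8d6457a2210c283a4099fb0f8a79e3bb9d40e5270236d9ad0d1a66631f9860be25ca2d195f0aaa52e2839380972492235911083a3f61e78ea070235a1998c31506a48d07274f33295ec9223a715e874c1d1ffef8a78aba81c56db66a0b3318aebe25b6abe1506a0e4cca49115e83a3e29d40db6666a48b6d8db74919243ffdb6cb6d4921b6e83915e5071d42aa924879e30c124861883a2be29a54509e74d325952488e345121850407df3cf1d74e386db34d1964c305d72cb1554a284d324911448203cf1c70d35506a0e4cca49115e83a3e29d40db66662f895f0a0e49220e8ea066699941d1b6caf841d541a92341c9d3ccca57b2488e9c57a1d30747ffbe29e2aea0715b6d9a82ccc62baf896daaf8541a839332924457a0e8f8a75036d999a97141c8af4309c08d685552838ea06b4a5c50724f91e08203e91c08d685e42cb13188f03a81ad2490db649251426992488a24101e78e3869a30c1658a284922080e3930b8612aa90c341c92441d1d40ccc57c2490ea1554a48cf3a6172488c2c309ffef3c73cb6d99e6c305b6aaa93ce9244309e78db6618a0e4e025c92488d644420e8fd879e3a81c08d6866630c1728af852e27012488883f61d42490db64924922184f3c6db30c15549246db430a080b2c5553c558af33283a36d95f083a6db4c2e184aaa430c1d1b6caf8)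 (Nat.shiftLeft 
    (nat_lit 0x575ab2b554a89d34a923450a07cf3a71b34c985cb2a513248903c71a30b144881c30a1030407ffbef9efaf3c77dbae9cf2e386fbb6d9aead34679b2c98e2c305f7aeb96dab2c575aaa94d2a284f3a6992ca924471a2890c28203ef9e78eba71c36d9a68cb26182eb965ab935a2abdd552a5b506a6fd2e292346aa21d0727eb3ce9d3ce026b3332985cb9257b296937c9224431fa8e9c6b230b15e89bc4421d30c284dc1d209b0267ffbf61f62f8a7b1bcf1e2aeee763ba81cf2e52715b811bbadb66c7b5a1a82d1a679b33194ac7e62bb0c1812be25ddae516dab4658fabe15a2aaa541a97146aa0e4f3a7013329724a5a4911fa8d6457a2210c283a4099fb0f8a79e3bb9d40e5270236d9ad0d1a66631f9860be25ca2d1d0722bcf1562ba838ea157ba8352468393a79994af64911d38af43a60e8fff7c53c55d40e2b6db3505998c575f12db55f0a8350726652488af41d1f14ea06db33317c6b935a2abdd552a5b506a6fd2e292346aa21d0727eb3ce9d3ce026b3332985cb9257b296937c9224431fa8e9c6b230b15e89bc4421d30c284dc1d209b0267ffbf61f62f8a7b1bcf1e2aeee763ba81cf2e52715b811bbadb66c7b5a1a82d1a679b33194ac7e62bb0c1812be25ddae516dab4658fabe15a2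aaa541a97146aa0e4f3a7013329724a5a4911fa8d6457a2210c283a4099fb0f8a79e3bb9d40e5270236d9ad0d1a66631f9860be25ca2d1d4ea97141c9cd4bfa4f91e08af430a080fa47913a19c08d686733129790b2c55528393188f04371f48ea06b431956f2b11554a9053b2971484a2850727d13b49c04d326312e495849f24912148f046b22f114488843721510748204031fb0fa47b83cf1e10ed475039b1c70e046e83671ad0d346803331930c646182ff1790b945b02cb15f0ac454829714509f44e026312b092447822f11108544101fb0f707843a81c70dd06b43401930c305e42d855529a54509e74d325952488e345121850407df3cf1d74e386db34d1964c305d72cb1554a284d324911448203cf1c70d34618a8350726652488af41d1f14ea06db33317c4af8507249107475033355529233ce985c92230b0c27ffbcf1cf2db6679b0c16daaaa4f3a4910c279e36d9862bad554a69514279d34c965492238d1448614101f7cf3c75d38e1b6cd3465930c175cb2c55528a134c9244512080f3c71c34d1860b2d5a2aaa541a97146aa0e4f3a7013329724a5a4911fa8d6457a2210c283a4099fb0f8a79e3bb9d40e5270) (nat_lit 8000))) i1)) (g0 i0) (g0 (Nat.succ i0)) List.nil) fun j => (pk61d (nat_lit 11)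 
    (nat_lit 0x124e293e77c2ef9a9b375ceb215baa25029311ba2d4447b4f39b233a66ccc1832fa5e4b716729a51c9e1091d03946f0da1a83485a8a413e1f83a0660c618c2a8510920d00f01b0280500980f01a020038070060000000000000000000) j)))) (nat_lit 0) (nat_lit 66) tl)
    = ?xq9011 → (List (ℕ × List ℕ))) ?hq9011; (case hq9011 => (set_option maxRecDepth 1000000 in set_option simprocs false in conv => lhs; reduce; dsimp only)); intro _; exact ?xq9011 y2 : List (ℕ × List ℕ))

def rs : ℕ → ℕ → Bool := fun d w => cond (Nat.beq (Nat.mod d 11) 0) true (cond (Nat.beq (Nat.mod w 11) 2) true (Nat.beq (Nat.mod w 11) 0))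

def T : Tst := ⟨101441792, 0, 0, 0⟩

def KN : List KD := [⟨1477104483660, 14820, 7971935616337680, 79895088⟩]

theorem hD : D.Pairwise fun x y => ab x < ab y := F81.pw_of (by decide +kernel)

theorem hDD : chkD 13 11 1123 D = true := by decide +kernel

theorem ht : allL (fun x : ℕ × List ℕ => chkRow rs x.1 x.2) tab = true :=
  F81.tab_of (fun d w k => by
    have h : Nat.mod (k * 11 + w) 11 = Nat.mod w 11 := Nat.mul_add_mod_self_right k 11 w
    unfold rs
    rw [h]) (by decide +kernel)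

theorem main : tri D 401363879 (gg 11 1123 T KN tab) = true :=
  F81.tri_of_chk (q := 11) (m := 1123) (p := 13) (ρ := 10) (ρ' := 3) (M := 131025) (by decide) (by intros; omega)
    F81.gg_of (by decide +kernel)

theorem p0 : part (fa 401363879 (gg 11 1123 T KN tab)) 7 (D.drop 0) = true :=
  F81.part_of (by rw [← tri_eq]; exact main) _ _

theorem p1 : part (fa 401363879 (gg 11 1123 T KN tab)) 6 (D.drop 7) = true :=
  F81.part_of (by rw [← tri_eq]; exact main) _ _

theorem p2 : part (fa 401363879 (gg 11 1123 T KN tab)) 8 (D.drop 13) = true :=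
  F81.part_of (by rw [← tri_eq]; exact main) _ _

theorem p3 : part (fa 401363879 (gg 11 1123 T KN tab)) 9 (D.drop 21) = true :=
  F81.part_of (by rw [← tri_eq]; exact main) _ _

end Cfsg.Agent.H618.LD.S13
end

-- part: H618/LD/Find
section
/-!
# S4910, row Fi22 (helper618): the principal blocks, use of the search
-/

set_option autoImplicit false
set_option linter.unusedSectionVars false

open Cfsg

namespace Cfsg.Agent.H618.LD.Find

open Cfsg.Agent.LThreeFi22 Cfsg.Agent.H618.LD.Tw Cfsg.Agent.H618.LD.Ev Cfsg.Agent.H618.LD.Blk Cfsg.Agent.H618.LD.Num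
  Cfsg.Agent.H618.LD.Mom Cfsg.Agent.H618.LD.Prin Cfsg.Agent.H618.LD.Use
open Cfsg.Agent.KFacts.FiTT (TK)

universe u

variable {G : Type u} [Group G] [Finite G] {T : Set G}

open scoped Classical in
/-- the coefficient -/
noncomputable def co (X : Finset (IrrCharacter G)) (ε : IrrCharacter G → ℤ) (d : ℤ) (χ : IrrCharacter G) : ℤ :=
  if χ ∈ X then -d * dg χ else ε χ * dg χ

section p

variable {p : ℕ} [hp : Fact p.Prime] {P : Sylow p G} {K : Subgroup G} {e t : ℕ} {NE X : Finset (IrrCharacter G)}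
  {ε : IrrCharacter G → ℤ} {d : ℤ}

theorem co_X {χ : IrrCharacter G} (h : χ ∈ X) : co X ε d χ = -d * dg χ := if_pos h

theorem co_NE (B : PB P K e t NE X ε d) {χ : IrrCharacter G} (h : χ ∈ NE) : co X ε d χ = ε χ * dg χ :=
  if_neg fun h' => Finset.disjoint_left.1 B.disj h h'

theorem natAbs_co (B : PB P K e t NE X ε d) {χ : IrrCharacter G} (h : χ ∈ NE ∨ χ ∈ X) :
    (co X ε d χ).natAbs = charDegree (χ : G → ℂ) := by
  rcases h with h | h
  · rw [co_NE B h]
    unfold dg
    rcases B.sg χ h with h1 | h1 <;> rw [h1] <;> omega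
  · rw [co_X h]
    unfold dg
    rcases B.sd with h1 | h1 <;> rw [h1] <;> (clear * -; omega)

theorem mom (C : Ctx G T) (h5 : 5 ≤ p) (B : PB P K e t NE X ε d) {Θ : IrrCharacter G} (hΘ : Θ ∈ X) :
    (∑ χ ∈ NE, co X ε d χ + co X ε d Θ = 0) ∧
    (∑ χ ∈ NE, co X ε d χ * (ww T (χ : G → ℂ) + 3510) + co X ε d Θ * (ww T (Θ : G → ℂ) + 3510) = 0) ∧
    (∑ χ ∈ NE, co X ε d χ * (ww T (χ : G → ℂ) + 3510) ^ 2 + co X ε d Θ * (ww T (Θ : G → ℂ) + 3510) ^ 2 = 0) := by
  have h0 := moment0 B hΘ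
  have h1 := moment1 C h5 B hΘ
  have h2 := moment2 C h5 B hΘ
  have s0 : ∑ χ ∈ NE, co X ε d χ = ∑ χ ∈ NE, ε χ * dg χ := Finset.sum_congr rfl fun χ hχ => co_NE B hχ
  have s1 : ∑ χ ∈ NE, co X ε d χ * (ww T (χ : G → ℂ) + 3510) =
      ∑ χ ∈ NE, ε χ * dg χ * ww T (χ : G → ℂ) + 3510 * ∑ χ ∈ NE, ε χ * dg χ := by
    rw [Finset.mul_sum, ← Finset.sum_add_distrib]
    exact Finset.sum_congr rfl fun χ hχ => by rw [co_NE B hχ]; ring
  have s2 : ∑ χ ∈ NE, co X ε d χ * (ww T (χ : G → ℂ) + 3510) ^ 2 = ∑ χ ∈ NE, ε χ * dg χ * ww T (χ : G → ℂ) ^ 2 +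
      7020 * ∑ χ ∈ NE, ε χ * dg χ * ww T (χ : G → ℂ) + 3510 ^ 2 * ∑ χ ∈ NE, ε χ * dg χ := by
    rw [Finset.mul_sum, Finset.mul_sum, ← Finset.sum_add_distrib, ← Finset.sum_add_distrib]
    exact Finset.sum_congr rfl fun χ hχ => by rw [co_NE B hχ]; ring
  rw [s0, s1, s2, co_X hΘ]
  refine ⟨h0, ?_, ?_⟩
  · linear_combination h1 + 3510 * h0
  · linear_combination h2 + 7020 * h1 + 3510 ^ 2 * h0

end p

theorem of_cd {c : ℤ} (h : c.natAbs < 100000000) {n : ℕ} (hc : cd c = n) : c = (n : ℤ) - 100000000 := by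
  have h1 := cd_cast h
  rw [hc] at h1
  omega

theorem dg_eq {χ : IrrCharacter G} {n : ℕ} (h : charDegree (χ : G → ℂ) = n) : dg χ = n := by
  unfold dg; rw [h]

theorem ne_of_deg {χ ψ : IrrCharacter G} {m n : ℕ} (h : charDegree (χ : G → ℂ) = m) (h' : charDegree (ψ : G → ℂ) = n)
    (hne : m ≠ n) : χ ≠ ψ := by
  rintro rfl
  exact hne (h.symm.trans h')

theorem deg_one : charDegree (Blk.one G : G → ℂ) = 1 := by
  have h := dg_one (G := G)
  unfold dg at h
  exact_mod_cast h

variable [IsSimpleGroup G]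

theorem rs11_of {w : ℤ} {n : ℕ} (hw : w.natAbs < 3510) (h : (11 : ℤ) ∣ w - 1) : S11.rs n (w + 3510).toNat = true := by
  unfold S11.rs
  refine _root_.Cfsg.Agent.H618.LD.Num.beq_of_eq ?_
  show (w + 3510).toNat % 11 = 2
  omega

theorem rs13_of {w : ℤ} {n : ℕ} (hw : w.natAbs < 3510) (h : (11 : ℤ) ∣ (n : ℤ) ∨ (11 : ℤ) ∣ w + 1 ∨ (11 : ℤ) ∣ w - 1) :
    S13.rs n (w + 3510).toNat = true := by
  unfold S13.rs
  have hb : ∀ {a b : ℕ}, a = b → Nat.beq a b = true := fun h => _root_.Cfsg.Agent.H618.LD.Num.beq_of_eq h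
  rcases h with h | h | h
  · have h1 : Nat.beq (Nat.mod n 11) 0 = true := hb (by show n % 11 = 0; omega)
    rw [h1]; rfl
  · have h1 : Nat.beq (Nat.mod (w + 3510).toNat 11) 0 = true := hb (by show (w + 3510).toNat % 11 = 0; omega)
    rw [h1]
    cases Nat.beq (Nat.mod n 11) 0 <;> cases Nat.beq (Nat.mod (w + 3510).toNat 11) 2 <;> rfl
  · have h1 : Nat.beq (Nat.mod (w + 3510).toNat 11) 2 = true := hb (by show (w + 3510).toNat % 11 = 2; omega)
    rw [h1]
    cases Nat.beq (Nat.mod n 11) 0 <;> rfl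

/-- **The principal 11-block.** -/
theorem find11 (hna : ¬ IsMulCommutative G) (e : G ≃* Spor.Fi22) [Fact (Nat.Prime 11)] {P : Sylow 11 G}
    {K : Subgroup G} {NE X : Finset (IrrCharacter G)} {ε : IrrCharacter G → ℤ} {d : ℤ} {k : G}
    (D : D11 (TK e) P K NE X ε d k) {κ : IrrCharacter G} (hκ : charDegree (κ : G → ℂ) = 13650)
    (hw : ww (TK e) (κ : G → ℂ) = 342 ∨ ww (TK e) (κ : G → ℂ) = 1926) :
    (∃ β : IrrCharacter G, charDegree (β : G → ℂ) = 1791153 ∧ (11 : ℤ) ∣ ww (TK e) (β : G → ℂ) - 1 ∧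
      ∀ β' : IrrCharacter G, charDegree (β' : G → ℂ) = 1791153 → (11 : ℤ) ∣ ww (TK e) (β' : G → ℂ) - 1 → β' = β) ∧
    ∃ κ' : IrrCharacter G, charDegree (κ' : G → ℂ) = 1360800 ∧ ww (TK e) (κ' : G → ℂ) = 78 := by
  classical
  have C := Inst.ctx e
  have B := D.B
  have hdκ := dg_eq hκ
  push_cast at hdκ
  -- nonexceptional members of degree 13650
  have hκNE : κ ∈ NE := by
    rcases D.tri C κ with h | h | h | h
    · rw [hdκ] at h; revert h; norm_num
    · rcases hw with hw | hw <;> rw [hw] at h <;> revert h <;> norm_num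
    · exact h
    · exfalso
      have h1 := B.congX κ h
      rw [hdκ] at h1
      rcases B.sd with h2 | h2 <;> rw [h2] at h1 <;> revert h1 <;> norm_num
  have hεκ : ε κ = -1 := by
    have h1 := B.cong κ hκNE
    rw [hdκ] at h1
    rcases B.sg κ hκNE with h2 | h2
    · exfalso; rw [h2] at h1; revert h1; norm_num
    · exact h2
  have hκ1 : κ ≠ Blk.one G := ne_of_deg hκ deg_one (by norm_num)
  obtain ⟨Θ, hΘ⟩ : X.Nonempty := by rw [← Finset.card_pos, B.cX]; norm_num
  have hΘ1 : Θ ≠ Blk.one G := by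
    rintro rfl
    exact Finset.disjoint_left.1 B.disj B.one hΘ
  obtain ⟨m0, m1, m2⟩ := mom C (by norm_num) B hΘ
  set! F := (NE.erase (Blk.one G)).erase κ with hF
  have mF : ∀ {χ}, χ ∈ F ↔ χ ≠ κ ∧ χ ≠ Blk.one G ∧ χ ∈ NE := by
    intro χ; rw [hF, Finset.mem_erase, Finset.mem_erase]
  have hsplit : ∀ g : IrrCharacter G → ℤ, ∑ χ ∈ NE, g χ = g (Blk.one G) + g κ + ∑ χ ∈ F, g χ := by
    intro g
    rw [← Finset.add_sum_erase NE g B.one, ← Finset.add_sum_erase (NE.erase (Blk.one G)) g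
      (Finset.mem_erase.2 ⟨hκ1, hκNE⟩)]
    ring
  have hFc : F.card = 3 := by
    rw [hF, Finset.card_erase_of_mem (Finset.mem_erase.2 ⟨hκ1, hκNE⟩), Finset.card_erase_of_mem B.one, B.cNE]
  rw [hsplit] at m0 m1 m2
  have c1 : co X ε d (Blk.one G) = 1 := by rw [co_NE B B.one, B.eone, dg_one]; norm_num
  have cκ : co X ε d κ = -13650 := by rw [co_NE B hκNE, hεκ, hdκ]; norm_num
  rw [c1, cκ] at m0 m1 m2
  rw [ww_one C] at m1 m2
  have hmem : ∀ χ, χ ∈ F ∨ χ = Θ → (χ ∈ NE ∨ χ ∈ X) ∧ χ ≠ Blk.one G := by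
    intro χ h
    rcases h with h | rfl
    · exact ⟨Or.inl (mF.1 h).2.2, (mF.1 h).2.1⟩
    · exact ⟨Or.inr hΘ, hΘ1⟩
  have hadm : ∀ χ, χ ∈ F ∨ χ = Θ → Adm (co X ε d χ).natAbs (ww (TK e) (χ : G → ℂ)) := by
    intro χ h
    obtain ⟨h1, h2⟩ := hmem χ h
    rw [natAbs_co B h1]
    exact adm C χ (ne_one_deg hna h2)
  have hlt : ∀ χ, χ ∈ F ∨ χ = Θ → (co X ε d χ).natAbs < 100000000 := fun χ h => adm_lt (hadm χ h)
  have hex : ∀ n : ℕ, ¬ (11 : ℤ) ∣ (100000000 - n) - 5 → cd (co X ε d Θ) ≠ n := by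
    intro n hn h
    have h1 := of_cd (hlt Θ (Or.inr rfl)) h
    rw [co_X hΘ] at h1
    have h2 := B.congX Θ hΘ
    have h3 : d * dg Θ - (5 : ℕ) = (100000000 - n) - 5 := by push_cast; linear_combination -h1
    rw [h3] at h2
    exact hn h2
  obtain ⟨kn, hkn, k1, k2⟩ : ∃ kn ∈ S11.KN, ((kn.C : ℤ) - 100000000 * kn.W =
      1 * (3510 + 3510) + -13650 * (ww (TK e) (κ : G → ℂ) + 3510)) ∧ ((kn.C2 : ℤ) - 100000000 * kn.W2 =
      1 * (3510 + 3510) ^ 2 + -13650 * (ww (TK e) (κ : G → ℂ) + 3510) ^ 2) := by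
    rcases hw with hw | hw
    · refine ⟨_, List.mem_cons_self, ?_, ?_⟩ <;> rw [hw] <;> norm_num
    · refine ⟨_, List.mem_cons_of_mem _ List.mem_cons_self, ?_, ?_⟩ <;> rw [hw] <;> norm_num
  have hU := use (p := 11) (q := 13) (m := 4291) (by norm_num) (T := S11.T) (S := -13649) S11.hD S11.hDD S11.ht S11.main
    (by norm_num) hFc (c := co X ε d) (w := fun χ => ww (TK e) (χ : G → ℂ)) (Θ := Θ) hadm
    (fun χ h => rs11_of (hadm χ h).bd (D.w1 C (hmem χ h).1))
    (fun χ h => by rw [natAbs_co B (hmem χ h).1]; exact res13 hna e χ)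
    (fun χ h => by
      have h1 := (mF.1 h).2.2
      rw [co_NE B h1]
      exact B.cong χ h1) hkn (by linear_combination m0)
    (by rw [k1]; linear_combination m1) (by rw [k2]; linear_combination m2)
    (hex _ (by norm_num [S11.T])) (hex _ (by norm_num [S11.T]))
  obtain ⟨⟨β, hβF, hβ, hβu⟩, hκ'⟩ := hU
  obtain ⟨κ', hκF, hκc, hκw⟩ := hκ' rfl
  -- the degree from the code
  have hdeg : ∀ χ ∈ F, ∀ n : ℕ, cd (co X ε d χ) = 100000000 + n → charDegree (χ : G → ℂ) = n := by
    intro χ h n hn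
    have h1 := of_cd (hlt χ (Or.inl h)) hn
    rw [← natAbs_co B (Or.inl (mF.1 h).2.2), h1]
    push_cast
    have h2 : (100000000 + (n : ℤ) - 100000000) = n := by ring
    rw [h2, Int.natAbs_natCast]
  have hβd : charDegree (β : G → ℂ) = 1791153 := hdeg β hβF 1791153 hβ
  have hκd : charDegree (κ' : G → ℂ) = 1360800 := hdeg κ' hκF 1360800 hκc
  refine ⟨⟨β, hβd, D.w1 C (Or.inl (mF.1 hβF).2.2), ?_⟩, κ', hκd, ?_⟩
  · intro β' hβ' hw'
    have hd' := dg_eq hβ'
    push_cast at hd'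
    have hNE : β' ∈ NE := by
      rcases D.tri C β' with h | h | h | h
      · rw [hd'] at h; revert h; norm_num
      · exfalso
        have h1 := dvd_sub h hw'
        have h2 : ww (TK e) (β' : G → ℂ) + 1 - (ww (TK e) (β' : G → ℂ) - 1) = 2 := by ring
        rw [h2] at h1
        revert h1; norm_num
      · exact h
      · exfalso
        have h1 := B.congX β' h
        rw [hd'] at h1
        rcases B.sd with h2 | h2 <;> rw [h2] at h1 <;> revert h1 <;> norm_num
    have hε : ε β' = 1 := by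
      have h1 := B.cong β' hNE
      rw [hd'] at h1
      rcases B.sg β' hNE with h2 | h2
      · exact h2
      · exfalso; rw [h2] at h1; revert h1; norm_num
    refine hβu β' (mF.2 ⟨ne_of_deg hβ' hκ (by norm_num), ne_of_deg hβ' deg_one (by norm_num), hNE⟩) ?_
    rw [co_NE B hNE, hε, hd']
    rfl
  · have h1 := (hadm κ' (Or.inl hκF)).bd
    have h2 : (ww (TK e) (κ' : G → ℂ) + 3510).toNat = 3588 := hκw
    omega

/-- **The principal 13-block.** -/
theorem find13 (hna : ¬ IsMulCommutative G) (e : G ≃* Spor.Fi22) [Fact (Nat.Prime 11)] {P' : Sylow 11 G}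
    {K' : Subgroup G} {NE' X' : Finset (IrrCharacter G)} {ε' : IrrCharacter G → ℤ} {d' : ℤ} {k : G}
    (D' : D11 (TK e) P' K' NE' X' ε' d' k) [Fact (Nat.Prime 13)] {P : Sylow 13 G}
    {K : Subgroup G} {NE X : Finset (IrrCharacter G)} {ε : IrrCharacter G → ℤ} {d : ℤ}
    (D : D13 P K NE X ε d) {κ : IrrCharacter G} (hκ : charDegree (κ : G → ℂ) = 3080)
    (hw : ww (TK e) (κ : G → ℂ) = 702) {κ' : IrrCharacter G} (hκ' : charDegree (κ' : G → ℂ) = 1360800)
    (hw' : ww (TK e) (κ' : G → ℂ) = 78) :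
    ∃ α : IrrCharacter G, charDegree (α : G → ℂ) = 1441792 ∧
      ∀ α' : IrrCharacter G, charDegree (α' : G → ℂ) = 1441792 → α' = α := by
  classical
  have C := Inst.ctx e
  have B := D.B
  have key : ∀ {χ : IrrCharacter G} {n : ℕ}, charDegree (χ : G → ℂ) = n → ¬ (13 : ℤ) ∣ n → ¬ (13 : ℤ) ∣ n - 6 →
      ¬ (13 : ℤ) ∣ n + 6 → χ ∈ NE := by
    intro χ n hn h1 h2 h3
    have hd := dg_eq hn
    rcases D.mem (χ := χ) (by rw [hd]; exact h1) with h | h
    · exact h
    · exfalso
      have h4 := B.congX χ h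
      rw [hd] at h4
      rcases B.sd with h5 | h5 <;> rw [h5] at h4
      · push_cast at h4
        rw [one_mul] at h4
        exact h2 h4
      · push_cast at h4
        have h6 : -1 * (n : ℤ) - 6 = -(n + 6) := by ring
        rw [h6, dvd_neg] at h4
        exact h3 h4
  have hdκ := dg_eq hκ
  have hdκ' := dg_eq hκ'
  push_cast at hdκ hdκ'
  have hκNE : κ ∈ NE := key hκ (by norm_num) (by norm_num) (by norm_num)
  have hκNE' : κ' ∈ NE := key hκ' (by norm_num) (by norm_num) (by norm_num)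
  have hεκ : ε κ = -1 := by
    have h1 := B.cong κ hκNE
    rw [hdκ] at h1
    rcases B.sg κ hκNE with h2 | h2
    · exfalso; rw [h2] at h1; revert h1; norm_num
    · exact h2
  have hεκ' : ε κ' = -1 := by
    have h1 := B.cong κ' hκNE'
    rw [hdκ'] at h1
    rcases B.sg κ' hκNE' with h2 | h2
    · exfalso; rw [h2] at h1; revert h1; norm_num
    · exact h2
  have hκ1 : κ ≠ Blk.one G := ne_of_deg hκ deg_one (by norm_num)
  have hκ1' : κ' ≠ Blk.one G := ne_of_deg hκ' deg_one (by norm_num)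
  have hκκ' : κ' ≠ κ := ne_of_deg hκ' hκ (by norm_num)
  obtain ⟨Θ, hΘ⟩ : X.Nonempty := by rw [← Finset.card_pos, B.cX]; norm_num
  have hΘ1 : Θ ≠ Blk.one G := by
    rintro rfl
    exact Finset.disjoint_left.1 B.disj B.one hΘ
  obtain ⟨m0, m1, m2⟩ := mom C (by norm_num) B hΘ
  set! F := ((NE.erase (Blk.one G)).erase κ).erase κ' with hF
  have mF : ∀ {χ}, χ ∈ F ↔ χ ≠ κ' ∧ χ ≠ κ ∧ χ ≠ Blk.one G ∧ χ ∈ NE := by
    intro χ; rw [hF, Finset.mem_erase, Finset.mem_erase, Finset.mem_erase]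
  have hsplit : ∀ g : IrrCharacter G → ℤ, ∑ χ ∈ NE, g χ = g (Blk.one G) + g κ + g κ' + ∑ χ ∈ F, g χ := by
    intro g
    rw [← Finset.add_sum_erase NE g B.one, ← Finset.add_sum_erase (NE.erase (Blk.one G)) g
      (Finset.mem_erase.2 ⟨hκ1, hκNE⟩), ← Finset.add_sum_erase ((NE.erase (Blk.one G)).erase κ) g
      (Finset.mem_erase.2 ⟨hκκ', Finset.mem_erase.2 ⟨hκ1', hκNE'⟩⟩)]
    ring
  have hFc : F.card = 3 := by
    rw [hF, Finset.card_erase_of_mem (Finset.mem_erase.2 ⟨hκκ', Finset.mem_erase.2 ⟨hκ1', hκNE'⟩⟩),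
      Finset.card_erase_of_mem (Finset.mem_erase.2 ⟨hκ1, hκNE⟩), Finset.card_erase_of_mem B.one, B.cNE]
  rw [hsplit] at m0 m1 m2
  have c1 : co X ε d (Blk.one G) = 1 := by rw [co_NE B B.one, B.eone, dg_one]; norm_num
  have cκ : co X ε d κ = -3080 := by rw [co_NE B hκNE, hεκ, hdκ]; norm_num
  have cκ' : co X ε d κ' = -1360800 := by rw [co_NE B hκNE', hεκ', hdκ']; norm_num
  rw [c1, cκ, cκ'] at m0 m1 m2
  rw [ww_one C, hw, hw'] at m1 m2
  have hmem : ∀ χ, χ ∈ F ∨ χ = Θ → (χ ∈ NE ∨ χ ∈ X) ∧ χ ≠ Blk.one G := by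
    intro χ h
    rcases h with h | rfl
    · exact ⟨Or.inl (mF.1 h).2.2.2, (mF.1 h).2.2.1⟩
    · exact ⟨Or.inr hΘ, hΘ1⟩
  have hadm : ∀ χ, χ ∈ F ∨ χ = Θ → Adm (co X ε d χ).natAbs (ww (TK e) (χ : G → ℂ)) := by
    intro χ h
    obtain ⟨h1, h2⟩ := hmem χ h
    rw [natAbs_co B h1]
    exact adm C χ (ne_one_deg hna h2)
  have hlt : ∀ χ, χ ∈ F ∨ χ = Θ → (co X ε d χ).natAbs < 100000000 := fun χ h => adm_lt (hadm χ h)
  have hex : ∀ n : ℕ, ¬ (13 : ℤ) ∣ (100000000 - n) - 6 → cd (co X ε d Θ) ≠ n := by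
    intro n hn h
    have h1 := of_cd (hlt Θ (Or.inr rfl)) h
    rw [co_X hΘ] at h1
    have h2 := B.congX Θ hΘ
    have h3 : d * dg Θ - (6 : ℕ) = (100000000 - n) - 6 := by push_cast; linear_combination -h1
    rw [h3] at h2
    exact hn h2
  have hU := use (p := 13) (q := 11) (m := 1123) (by norm_num) (T := S13.T) (S := -1363879) (rs := S13.rs) S13.hD S13.hDD
    S13.ht S13.main
    (by norm_num) hFc (c := co X ε d) (w := fun χ => ww (TK e) (χ : G → ℂ)) (Θ := Θ) hadm
    (fun χ h => rs13_of (hadm χ h).bd (by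
      rw [natAbs_co B (hmem χ h).1]
      rcases D'.tri C χ with h1 | h1 | h1
      · exact Or.inl h1
      · exact Or.inr (Or.inl h1)
      · exact Or.inr (Or.inr (D'.w1 C h1))))
    (fun χ h => by rw [natAbs_co B (hmem χ h).1]; exact res11 hna e χ)
    (fun χ h => by
      have h1 := (mF.1 h).2.2.2
      rw [co_NE B h1]
      exact B.cong χ h1) (kn := ⟨1477104483660, 14820, 7971935616337680, 79895088⟩) List.mem_cons_self
    (by linear_combination m0)
    (by push_cast; linear_combination m1) (by push_cast; linear_combination m2)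
    (hex _ (by norm_num [S13.T])) (by
      show cd (co X ε d Θ) ≠ 0
      intro h
      have h1 := of_cd (hlt Θ (Or.inr rfl)) h
      have h2 := hlt Θ (Or.inr rfl)
      rw [h1] at h2
      norm_num at h2)
  obtain ⟨⟨α, hαF, hα, hαu⟩, -⟩ := hU
  have hdeg : ∀ χ ∈ F, ∀ n : ℕ, cd (co X ε d χ) = 100000000 + n → charDegree (χ : G → ℂ) = n := by
    intro χ h n hn
    have h1 := of_cd (hlt χ (Or.inl h)) hn
    rw [← natAbs_co B (Or.inl (mF.1 h).2.2.2), h1]
    push_cast
    have h2 : (100000000 + (n : ℤ) - 100000000) = n := by ring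
    rw [h2, Int.natAbs_natCast]
  have hαd : charDegree (α : G → ℂ) = 1441792 := hdeg α hαF 1441792 hα
  refine ⟨α, hαd, ?_⟩
  intro α' hα'
  have hd' := dg_eq hα'
  push_cast at hd'
  have hNE : α' ∈ NE := key hα' (by norm_num) (by norm_num) (by norm_num)
  have hε : ε α' = 1 := by
    have h1 := B.cong α' hNE
    rw [hd'] at h1
    rcases B.sg α' hNE with h2 | h2
    · exact h2
    · exfalso; rw [h2] at h1; revert h1; norm_num
  refine hαu α' (mF.2 ⟨ne_of_deg hα' hκ' (by norm_num), ne_of_deg hα' hκ (by norm_num),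
    ne_of_deg hα' deg_one (by norm_num), hNE⟩) ?_
  rw [co_NE B hNE, hε, hd']
  rfl

end Cfsg.Agent.H618.LD.Find
end

-- part: H456/LD/OmC
section
/-!
# Eigenvalues of class sums on spherical characters (helper456)

The chain `H678.DG.Sph.exists_of_kernel → … → H678.DG.Pts.deg_of_pts` with the additional conclusion `Ev`: the
eigenvalue of a conjugation-closed set `T` on the character is `∑ k_j c_j a_j` with `∑ k_j c_j = |T|`.
-/

set_option autoImplicit false

namespace Cfsg.Agent.H456.LD.OmC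

open Cfsg Representation Cfsg.Agent.H618.LD.Tw Cfsg.Agent.H678.DG
open scoped ComplexConjugate

universe u v

section ev

variable {G : Type u} [Group G] [Finite G]

/-- The eigenvalues of the conjugation-closed sets on `χ`. -/
def Ev {n : ℕ} (χ : G → ℂ) (k : Fin n → ℕ) (a : Fin n → ℂ) : Prop :=
  ∀ T : Finset G, Cl T → ∃ c : Fin n → ℕ, ∑ j, k j * c j = T.card ∧
    om T χ = ∑ j, (k j : ℂ) * ((c j : ℂ) * a j)

theorem ev_of_rep {X : Type v} [Fintype X] [MulAction G X] {V : Submodule ℂ (X → ℂ)}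
    (hV : ∀ (g : G), ∀ φ ∈ V, (fun x => φ (g⁻¹ • x)) ∈ V) (χ : IrrCharacter G)
    (hχ : (χ : G → ℂ) = (Sph.rep V hV).character) {n : ℕ} (x₀ : X) (K : Subgroup G) (hK : ∀ g ∈ K, g • x₀ = x₀)
    (cls : X → Fin n) (r : Fin n → X)
    (htr : ∀ x, ∃ g ∈ K, g • r (cls x) = x) (k : Fin n → ℕ)
    (hk : ∀ j, (Finset.univ.filter fun y => cls y = j).card = k j)
    (a : Fin n → ℂ) (ha : a (cls x₀) = 1) (hv : (fun x => a (cls x)) ∈ V) : Ev (χ : G → ℂ) k a := by
  classical
  intro T hT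
  have hirr : (Sph.rep V hV).IsIrreducible :=
    Cfsg.Agent.Characters.Core.isIrreducible_of_isIrrCharacter _ (hχ ▸ χ.2)
  have h1 := rep_sum (Sph.rep V hV) hirr hT
  rw [← hχ] at h1
  have h2 : ∑ s ∈ T, a (cls (s⁻¹ • x₀)) = om T χ := by
    have h3 := congrArg (fun f : Module.End ℂ V => ((f ⟨_, hv⟩ : V) : X → ℂ) x₀) h1
    simp only [LinearMap.sum_apply, LinearMap.smul_apply, Module.End.one_apply, Submodule.coe_sum, Submodule.coe_smul,
      Finset.sum_apply, Pi.smul_apply, smul_eq_mul, ha, mul_one] at h3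
    exact h3
  let N : X → ℕ := fun x => (T.filter fun s => s⁻¹ • x₀ = x).card
  have hN : ∀ g ∈ K, ∀ x, N (g • x) = N x := by
    intro g hg x
    symm
    refine Finset.card_bij (fun s _ => g * s * g⁻¹) ?_ ?_ ?_
    · intro s hs
      rw [Finset.mem_filter] at hs ⊢
      refine ⟨hT s hs.1 g, ?_⟩
      have h4 : g⁻¹ • x₀ = x₀ := hK g⁻¹ (K.inv_mem hg)
      rw [show (g * s * g⁻¹)⁻¹ = g * s⁻¹ * g⁻¹ by group, mul_smul, mul_smul, h4, hs.2]
    · intro s _ s' _ h
      exact mul_left_cancel (mul_right_cancel h)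
    · intro s hs
      rw [Finset.mem_filter] at hs
      refine ⟨g⁻¹ * s * g, ?_, by group⟩
      rw [Finset.mem_filter]
      have h5 := hT s hs.1 g⁻¹
      rw [inv_inv] at h5
      refine ⟨h5, ?_⟩
      rw [show (g⁻¹ * s * g)⁻¹ = g⁻¹ * s⁻¹ * g by group, mul_smul, mul_smul, hK g hg, hs.2, inv_smul_smul]
  have hN2 : ∀ x, N x = N (r (cls x)) := by
    intro x
    obtain ⟨g, hg, hx⟩ := htr x
    rw [← hN g hg (r (cls x)), hx]
  have hsum : ∀ f : X → ℂ, ∑ s ∈ T, f (s⁻¹ • x₀) = ∑ x, (N x : ℂ) * f x := by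
    intro f
    rw [← Finset.sum_fiberwise_of_maps_to (t := Finset.univ) (g := fun s : G => s⁻¹ • x₀) (fun _ _ => Finset.mem_univ _)]
    refine Finset.sum_congr rfl fun x _ => ?_
    rw [Finset.sum_congr rfl (g := fun _ => f x) (fun s hs => by rw [(Finset.mem_filter.1 hs).2]), Finset.sum_const,
      nsmul_eq_mul]
  have hcl : ∀ f : Fin n → ℂ, ∑ x, (N x : ℂ) * f (cls x) = ∑ j, (k j : ℂ) * ((N (r j) : ℂ) * f j) := by
    intro f
    rw [← Finset.sum_fiberwise_of_maps_to (t := Finset.univ) (g := cls) (fun _ _ => Finset.mem_univ _)]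
    refine Finset.sum_congr rfl fun j _ => ?_
    rw [Finset.sum_congr rfl (g := fun _ => (N (r j) : ℂ) * f j) (fun x hx => by
      rw [hN2 x, (Finset.mem_filter.1 hx).2]), Finset.sum_const, nsmul_eq_mul, hk]
  refine ⟨fun j => N (r j), ?_, ?_⟩
  · have h3 := hsum (fun _ => 1)
    rw [hcl (fun _ => 1)] at h3
    simp only [mul_one, Finset.sum_const, nsmul_eq_mul] at h3
    exact_mod_cast h3.symm
  · rw [← h2, hsum (fun x => a (cls x)), hcl a]

end ev

section graph

variable {G : Type u} [Group G] [Finite G] {X : Type v} [Fintype X] [MulAction G X] {n : ℕ}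

/-- **Degrees from the collapsed matrix of an invariant kernel.** -/
theorem exists_of_kernel [MulAction.IsPretransitive G X] (E : X → X → ℂ)
    (hE : ∀ (g : G) x y, E (g • x) (g • y) = E x y) (x₀ : X) (K : Subgroup G) (hK : ∀ g ∈ K, g • x₀ = x₀)
    (cls : X → Fin n) (r : Fin n → X) (hcls : ∀ g ∈ K, ∀ x, cls (g • x) = cls x)
    (htr : ∀ x, ∃ g ∈ K, g • r (cls x) = x) (B : Fin n → Fin n → ℂ)
    (hB : ∀ i j, ∑ y ∈ Finset.univ.filter (fun y => cls y = j), E (r i) y = B i j)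
    (k : Fin n → ℕ) (hk : ∀ j, (Finset.univ.filter fun y => cls y = j).card = k j)
    (a : Fin n → ℂ) (t : ℂ) (hBa : ∀ i, ∑ j, B i j * a j = t * a i)
    (huniq : ∀ a' : Fin n → ℂ, (∀ i, ∑ j, B i j * a' j = t * a' i) → ∀ i, a' i = a' (cls x₀) * a i)
    (ha : a (cls x₀) = 1) :
    ∃ χ : IrrCharacter G, (charDegree (χ : G → ℂ) : ℂ) * ∑ j, (k j : ℂ) * (a j * conj (a j)) =
      (Fintype.card X : ℂ) ∧ Ev (χ : G → ℂ) k a := by
  classical
  have hsum := Sph.sum_kernel E cls r B hB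
  let V : Submodule ℂ (X → ℂ) :=
    { carrier := {φ | ∀ x, ∑ y, E x y * φ y = t * φ x}
      add_mem' := by
        intro φ ψ h1 h2 x
        have h3 : ∀ y, E x y * (φ + ψ) y = E x y * φ y + E x y * ψ y := fun y => by
          rw [Pi.add_apply, mul_add]
        rw [Finset.sum_congr rfl fun y _ => h3 y, Finset.sum_add_distrib, h1 x, h2 x, Pi.add_apply]
        ring
      zero_mem' := by
        intro x
        simp only [_root_.Pi.zero_apply, _root_.MulZeroClass.mul_zero, _root_.Finset.sum_const_zero]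
      smul_mem' := by
        intro c φ h1 x
        have h3 : ∀ y, E x y * (c • φ) y = c * (E x y * φ y) := fun y => by
          rw [Pi.smul_apply, smul_eq_mul]; ring
        rw [Finset.sum_congr rfl fun y _ => h3 y, ← Finset.mul_sum, h1 x, Pi.smul_apply, smul_eq_mul]
        ring }
  have hVm : ∀ φ : X → ℂ, φ ∈ V ↔ ∀ x, ∑ y, E x y * φ y = t * φ x := fun _ => Iff.rfl
  have htrans : ∀ (g : G) (φ : X → ℂ) x, ∑ y, E x y * φ (g⁻¹ • y) = ∑ y, E (g⁻¹ • x) y * φ y := by
    intro g φ x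
    rw [← Equiv.sum_comp (MulAction.toPerm g) fun y => E x y * φ (g⁻¹ • y)]
    refine Finset.sum_congr rfl fun y _ => ?_
    rw [MulAction.toPerm_apply, inv_smul_smul]
    have h1 : E x (g • y) = E (g⁻¹ • x) y := by
      rw [← hE g (g⁻¹ • x) y, smul_inv_smul]
    rw [h1]
  have hVG : ∀ (g : G), ∀ φ ∈ V, (fun x => φ (g⁻¹ • x)) ∈ V := by
    intro g φ h1
    rw [hVm] at h1 ⊢
    intro x
    rw [htrans, h1]
  have he : (fun x => a (cls x)) ∈ V := by
    rw [hVm]
    intro x
    obtain ⟨g, hg, hx⟩ := htr x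
    have h1 := htrans g⁻¹ (fun y => a (cls y)) (r (cls x))
    rw [inv_inv, hx] at h1
    rw [← h1]
    have h2 : ∀ y, E (r (cls x)) y * a (cls (g • y)) = E (r (cls x)) y * a (cls y) := by
      intro y
      rw [hcls g hg]
    rw [Finset.sum_congr rfl fun y _ => h2 y, hsum, hBa]
  obtain ⟨χ, hχ, hχ2⟩ := Sph.exists_of_spherical' hVG x₀ he ha K hK (by
    intro φ hφ hK
    let a' : Fin n → ℂ := fun i => φ (r i)
    have haφ : ∀ x, φ x = a' (cls x) := by
      intro x
      obtain ⟨g, hg, hx⟩ := htr x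
      show φ x = φ (r (cls x))
      rw [← hK g hg (r (cls x)), hx]
    have h2 : ∀ i, ∑ j, B i j * a' j = t * a' i := by
      intro i
      rw [← hsum a' i]
      have h3 := (hVm φ).1 hφ (r i)
      rw [Finset.sum_congr rfl fun y _ => by rw [haφ y]] at h3
      exact h3
    refine ⟨a' (cls x₀), funext fun x => ?_⟩
    show φ x = a' (cls x₀) * a (cls x)
    rw [haφ, huniq a' h2])
  exact ⟨χ, by rw [← Sph.nrm_cls cls k hk a]; exact hχ,
    ev_of_rep hVG χ hχ2 x₀ K hK cls r htr k hk a ha he⟩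

/-- The rational case. -/
theorem exists_of_kernel_rat [MulAction.IsPretransitive G X] (E : X → X → ℚ)
    (hE : ∀ (g : G) x y, E (g • x) (g • y) = E x y) (x₀ : X) (K : Subgroup G) (hK : ∀ g ∈ K, g • x₀ = x₀)
    (cls : X → Fin n) (r : Fin n → X) (hcls : ∀ g ∈ K, ∀ x, cls (g • x) = cls x)
    (htr : ∀ x, ∃ g ∈ K, g • r (cls x) = x) (B : Fin n → Fin n → ℚ)
    (hB : ∀ i j, ∑ y ∈ Finset.univ.filter (fun y => cls y = j), E (r i) y = B i j)
    (k : Fin n → ℕ) (hk : ∀ j, (Finset.univ.filter fun y => cls y = j).card = k j) (c : Fin n) (hc : cls x₀ = c)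
    (a : Fin n → ℚ) (t : ℚ) (L : Fin n → Fin n → ℚ) (d N : ℕ) (hN : Fintype.card X = N)
    (ha : a c = 1) (hBa : ∀ i, ∑ j, B i j * a j = t * a i)
    (hL : ∀ i j, ∑ l, L i l * (B l j - if l = j then t else 0) =
      (if i = j then 1 else 0) - if j = c then a i else 0)
    (hd : (d : ℚ) * ∑ j, (k j : ℚ) * (a j * a j) = N) :
    ∃ χ : IrrCharacter G, charDegree (χ : G → ℂ) = d ∧ Ev (χ : G → ℂ) k (fun i => (a i : ℂ)) := by
  obtain ⟨χ, hχ, hEv⟩ := exists_of_kernel (fun x y => (E x y : ℂ)) (fun g x y => by rw [hE]) x₀ K hK cls r hcls htr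
    (fun i j => (B i j : ℂ)) (fun i j => by rw [← hB]; push_cast; rfl) k hk (fun i => (a i : ℂ)) (t : ℂ) (by
    intro i
    exact_mod_cast hBa i) (by
    intro a' h i
    have h1 : ∑ l, (L i l : ℂ) * (∑ j, ((B l j : ℂ) - if l = j then (t : ℂ) else 0) * a' j) = 0 := by
      refine Finset.sum_eq_zero fun l _ => ?_
      have h2 : ∑ j, ((B l j : ℂ) - if l = j then (t : ℂ) else 0) * a' j = 0 := by
        simp only [sub_mul, ite_mul, zero_mul]
        rw [Finset.sum_sub_distrib, Finset.sum_ite_eq, if_pos (Finset.mem_univ _), h l, sub_self]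
      rw [h2, mul_zero]
    have h3 : ∑ l, (L i l : ℂ) * (∑ j, ((B l j : ℂ) - if l = j then (t : ℂ) else 0) * a' j) =
        ∑ j, (∑ l, (L i l : ℂ) * ((B l j : ℂ) - if l = j then (t : ℂ) else 0)) * a' j := by
      simp only [Finset.mul_sum, Finset.sum_mul]
      rw [Finset.sum_comm]
      refine Finset.sum_congr rfl fun j _ => Finset.sum_congr rfl fun l _ => ?_
      ring
    have h4 : ∀ j, ∑ l, (L i l : ℂ) * ((B l j : ℂ) - if l = j then (t : ℂ) else 0) =
        (if i = j then (1 : ℂ) else 0) - if j = c then (a i : ℂ) else 0 := by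
      intro j
      have h5 := congrArg (fun q : ℚ => (q : ℂ)) (hL i j)
      simp only [Rat.cast_sum, Rat.cast_mul, Rat.cast_sub, apply_ite (Rat.cast : ℚ → ℂ),
        Rat.cast_zero, Rat.cast_one] at h5
      exact h5
    rw [h3, Finset.sum_congr rfl fun j _ => by rw [h4 j]] at h1
    simp only [sub_mul, ite_mul, zero_mul, one_mul] at h1
    rw [Finset.sum_sub_distrib, Finset.sum_ite_eq, Finset.sum_ite_eq', if_pos (Finset.mem_univ _),
      if_pos (Finset.mem_univ _)] at h1
    rw [hc]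
    linear_combination h1) (by rw [hc, ha]; norm_num)
  refine ⟨χ, ?_, hEv⟩
  have h1 : ∑ j, (k j : ℂ) * ((a j : ℂ) * conj (a j : ℂ)) = ((∑ j, (k j : ℚ) * (a j * a j) : ℚ) : ℂ) := by
    push_cast
    refine Finset.sum_congr rfl fun j _ => ?_
    rw [← Complex.ofReal_ratCast, Complex.conj_ofReal]
  rw [h1, hN] at hχ
  have h2 : (charDegree (χ : G → ℂ) : ℚ) * (∑ j, (k j : ℚ) * (a j * a j)) = N := by exact_mod_cast hχ
  have h3 : (∑ j, (k j : ℚ) * (a j * a j)) ≠ 0 := by
    intro h0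
    rw [h0, mul_zero] at h2
    have h4 : 0 < Fintype.card X := Fintype.card_pos_iff.2 ⟨x₀⟩
    rw [hN] at h4
    have : (N : ℚ) ≠ 0 := Nat.cast_ne_zero.2 h4.ne'
    exact this h2.symm
  have h4 : (charDegree (χ : G → ℂ) : ℚ) = d := mul_right_cancel₀ h3 (h2.trans hd.symm)
  exact_mod_cast h4

/-- The case of an invariant relation. -/
theorem exists_of_graph_rat [MulAction.IsPretransitive G X] (E : X → X → Bool)
    (hE : ∀ (g : G) x y, E (g • x) (g • y) = E x y) (x₀ : X) (K : Subgroup G) (hK : ∀ g ∈ K, g • x₀ = x₀)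
    (cls : X → Fin n) (r : Fin n → X) (hcls : ∀ g ∈ K, ∀ x, cls (g • x) = cls x)
    (htr : ∀ x, ∃ g ∈ K, g • r (cls x) = x) (B : Fin n → Fin n → ℕ)
    (hB : ∀ i j, (Finset.univ.filter fun y => E (r i) y = true ∧ cls y = j).card = B i j)
    (k : Fin n → ℕ) (hk : ∀ j, (Finset.univ.filter fun y => cls y = j).card = k j) (c : Fin n) (hc : cls x₀ = c)
    (a : Fin n → ℚ) (t : ℚ) (L : Fin n → Fin n → ℚ) (d N : ℕ) (hN : Fintype.card X = N)
    (ha : a c = 1) (hBa : ∀ i, ∑ j, (B i j : ℚ) * a j = t * a i)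
    (hL : ∀ i j, ∑ l, L i l * ((B l j : ℚ) - if l = j then t else 0) =
      (if i = j then 1 else 0) - if j = c then a i else 0)
    (hd : (d : ℚ) * ∑ j, (k j : ℚ) * (a j * a j) = N) :
    ∃ χ : IrrCharacter G, charDegree (χ : G → ℂ) = d ∧ Ev (χ : G → ℂ) k (fun i => (a i : ℂ)) := by
  classical
  refine exists_of_kernel_rat (fun x y => if E x y = true then 1 else 0) (fun g x y => by rw [hE]) x₀ K hK cls r
    hcls htr (fun i j => (B i j : ℚ)) ?_ k hk c hc a t L d N hN ha hBa hL hd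
  intro i j
  rw [← hB, ← Finset.sum_filter, Finset.sum_const, nsmul_eq_mul, mul_one, Finset.filter_filter]
  congr 2
  ext y
  simp only [Finset.mem_filter, Finset.mem_univ, true_and]
  itauto

end graph

section index

variable {G : Type u} [Group G] [Finite G] {Y : Type v} [MulAction G Y] {M n : ℕ}

/-- **Degrees from an indexed orbit.** -/
theorem deg_of_index (y : Fin M → Y) (hinj : Function.Injective y) (i₀ : Fin M)
    (hcl : ∀ g : G, ∀ i, ∃ j, g • y i = y j) (htrG : ∀ i, ∃ g : G, g • y i₀ = y i)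
    (K : Subgroup G) (hK : ∀ g ∈ K, g • y i₀ = y i₀) (cls : Fin M → Fin n) (r : Fin n → Fin M)
    (hcls : ∀ g ∈ K, ∀ i j, g • y i = y j → cls j = cls i)
    (htr : ∀ i, ∃ g ∈ K, g • y (r (cls i)) = y i)
    (E : Y → Y → Bool) (hE : ∀ (g : G) x z, E (g • x) (g • z) = E x z) (B : Fin n → Fin n → ℕ)
    (hB : ∀ i j, (Finset.univ.filter fun k : Fin M => E (y (r i)) (y k) = true ∧ cls k = j).card = B i j)
    (kk : Fin n → ℕ) (hk : ∀ j, (Finset.univ.filter fun i => cls i = j).card = kk j) (c : Fin n) (hc : cls i₀ = c)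
    (a : Fin n → ℚ) (t : ℚ) (L : Fin n → Fin n → ℚ) (d : ℕ)
    (ha : a c = 1) (hBa : ∀ i, ∑ j, (B i j : ℚ) * a j = t * a i)
    (hL : ∀ i j, ∑ l, L i l * ((B l j : ℚ) - if l = j then t else 0) =
      (if i = j then 1 else 0) - if j = c then a i else 0)
    (hd : (d : ℚ) * ∑ j, (kk j : ℚ) * (a j * a j) = M) :
    ∃ χ : IrrCharacter G, charDegree (χ : G → ℂ) = d ∧ Ev (χ : G → ℂ) kk (fun i => (a i : ℂ)) := by
  classical
  let act : MulAction G (Idx.Orb y) := Idx.orbAct y hcl
  let e := Idx.eqv y hinj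
  let ft : Fintype (Idx.Orb y) := Fintype.ofEquiv _ e
  have hsm : ∀ (g : G) (x : Idx.Orb y), (g • x).1 = g • x.1 := fun _ _ => rfl
  have he : ∀ i, (e i).1 = y i := fun _ => rfl
  have hes : ∀ x : Idx.Orb y, y (e.symm x) = x.1 := fun x => by rw [← he, e.apply_symm_apply]
  have htrans : MulAction.IsPretransitive G (Idx.Orb y) := by
    have key : ∀ x : Idx.Orb y, ∃ g : G, g • e i₀ = x := by
      intro x
      obtain ⟨g, hg⟩ := htrG (e.symm x)
      refine ⟨g, Subtype.ext ?_⟩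
      rw [hsm, he, hg, hes]
    refine ⟨fun x z => ?_⟩
    obtain ⟨g, rfl⟩ := key x
    obtain ⟨h, rfl⟩ := key z
    exact ⟨h * g⁻¹, by rw [mul_smul, inv_smul_smul]⟩
  have hcard : Fintype.card (Idx.Orb y) = M := by
    rw [Fintype.card_congr e.symm, Fintype.card_fin]
  refine exists_of_graph_rat (X := Idx.Orb y) (fun x z => E x.1 z.1) (fun g x z => hE g x.1 z.1) (e i₀) K
    (fun g hg => Subtype.ext (hK g hg)) (fun x => cls (e.symm x)) (fun i => e (r i)) ?_ ?_ B ?_ kk ?_ c ?_ a t L d M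
    hcard ha hBa hL hd
  · intro g hg x
    refine hcls g hg _ _ ?_
    rw [hes, hes, hsm]
  · intro x
    obtain ⟨g, hg, h⟩ := htr (e.symm x)
    refine ⟨g, hg, Subtype.ext ?_⟩
    rw [hsm, he, h, hes]
  · intro i j
    rw [← hB i j]
    refine Finset.card_bij (fun x _ => e.symm x) ?_ ?_ ?_
    · intro x hx
      rw [Finset.mem_filter] at hx ⊢
      refine ⟨Finset.mem_univ _, ?_, hx.2.2⟩
      rw [hes]
      exact hx.2.1
    · intro x _ z _ h
      exact e.symm.injective h
    · intro k hk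
      rw [Finset.mem_filter] at hk
      refine ⟨e k, ?_, e.symm_apply_apply k⟩
      rw [Finset.mem_filter]
      refine ⟨Finset.mem_univ _, hk.2.1, ?_⟩
      rw [e.symm_apply_apply]
      exact hk.2.2
  · intro j
    rw [← hk j]
    refine Finset.card_bij (fun x _ => e.symm x) ?_ ?_ ?_
    · intro x hx
      rw [Finset.mem_filter] at hx ⊢
      exact ⟨Finset.mem_univ _, hx.2⟩
    · intro x _ z _ h
      exact e.symm.injective h
    · intro k hk
      rw [Finset.mem_filter] at hk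
      refine ⟨e k, ?_, e.symm_apply_apply k⟩
      rw [Finset.mem_filter]
      refine ⟨Finset.mem_univ _, ?_⟩
      rw [e.symm_apply_apply]
      exact hk.2
  · rw [e.symm_apply_apply]
    exact hc

/-- **Degrees from an orbital.** -/
theorem deg_of_orbital (y : Fin M → Y) (hinj : Function.Injective y) (i₀ : Fin M)
    (hcl : ∀ g : G, ∀ i, ∃ j, g • y i = y j) (htrG : ∀ i, ∃ g : G, g • y i₀ = y i)
    (K : Subgroup G) (hK : ∀ g ∈ K, g • y i₀ = y i₀) (cls : Fin M → Fin n) (r : Fin n → Fin M)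
    (hcls : ∀ g ∈ K, ∀ i j, g • y i = y j → cls j = cls i)
    (htr : ∀ i, ∃ g ∈ K, g • y (r (cls i)) = y i) (c₁ : Fin n)
    (hc₁ : ∀ g : G, g • y i₀ = y i₀ → ∀ k k', cls k = c₁ → g • y k = y k' → cls k' = c₁)
    (γ : Fin n → G) (hγ : ∀ i, γ i • y i₀ = y (r i)) (σ : Fin n → Fin M → Fin M)
    (hσ : ∀ i k, γ i • y k = y (σ i k)) (B : Fin n → Fin n → ℕ)
    (hB : ∀ i j, (Finset.univ.filter fun k : Fin M => cls k = c₁ ∧ cls (σ i k) = j).card = B i j)
    (kk : Fin n → ℕ) (hk : ∀ j, (Finset.univ.filter fun i => cls i = j).card = kk j) (c : Fin n) (hc : cls i₀ = c)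
    (a : Fin n → ℚ) (t : ℚ) (L : Fin n → Fin n → ℚ) (d : ℕ)
    (ha : a c = 1) (hBa : ∀ i, ∑ j, (B i j : ℚ) * a j = t * a i)
    (hL : ∀ i j, ∑ l, L i l * ((B l j : ℚ) - if l = j then t else 0) =
      (if i = j then 1 else 0) - if j = c then a i else 0)
    (hd : (d : ℚ) * ∑ j, (kk j : ℚ) * (a j * a j) = M) :
    ∃ χ : IrrCharacter G, charDegree (χ : G → ℂ) = d ∧ Ev (χ : G → ℂ) kk (fun i => (a i : ℂ)) := by
  classical
  refine deg_of_index y hinj i₀ hcl htrG K hK cls r hcls htr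
    (fun x z => decide (∃ (g : G) (k : Fin M), g • y i₀ = x ∧ cls k = c₁ ∧ g • y k = z)) ?_ B ?_ kk hk c hc a t L d ha
    hBa hL hd
  · intro g x z
    rw [decide_eq_decide]
    constructor
    · rintro ⟨h, k, h1, h2, h3⟩
      exact ⟨g⁻¹ * h, k, by rw [mul_smul, h1, inv_smul_smul], h2, by rw [mul_smul, h3, inv_smul_smul]⟩
    · rintro ⟨h, k, h1, h2, h3⟩
      exact ⟨g * h, k, by rw [mul_smul, h1], h2, by rw [mul_smul, h3]⟩
  · intro i j
    rw [← hB i j]
    symm
    have hσi : Function.Injective (σ i) := by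
      intro k k' h
      apply hinj
      have h1 : γ i • y k = γ i • y k' := by rw [hσ, hσ, h]
      exact smul_left_cancel _ h1
    refine Finset.card_bij (fun k _ => σ i k) ?_ (fun k _ k' _ h => hσi h) ?_
    · intro k hk
      rw [Finset.mem_filter] at hk ⊢
      refine ⟨Finset.mem_univ _, ?_, hk.2.2⟩
      rw [decide_eq_true_eq]
      exact ⟨γ i, k, hγ i, hk.2.1, hσ i k⟩
    · intro k' hk'
      rw [Finset.mem_filter, decide_eq_true_eq] at hk'
      obtain ⟨-, ⟨g, k, h1, h2, h3⟩, h4⟩ := hk'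
      obtain ⟨k'', hk''⟩ := hcl ((γ i)⁻¹ * g) k
      have h5 : ((γ i)⁻¹ * g) • y i₀ = y i₀ := by
        rw [mul_smul, h1, ← hγ i, inv_smul_smul]
      have h6 := hc₁ _ h5 k k'' h2 hk''
      have h7 : σ i k'' = k' := by
        apply hinj
        rw [← hσ, ← hk'', mul_smul, smul_inv_smul, h3]
      refine ⟨k'', ?_, h7⟩
      rw [Finset.mem_filter]
      refine ⟨Finset.mem_univ _, h6, ?_⟩
      rw [h7]
      exact h4

end index

section pts

open Equiv Cfsg.Agent.SporadicA.PermTab Cfsg.Agent.H678.DG.Blk Cfsg.Agent.H678.DG.Pts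

variable {G : Type u} [Group G] [Finite G] {M n : ℕ}

/-- **Degrees from a permutation representation.** -/
theorem deg_of_pts (φ : G →* Perm (Fin M)) {S : Type} (s : S → G) (A : S → ℕ → ℕ)
    (hA : ∀ x (i : Fin M), ((φ (s x) i : Fin M) : ℕ) = A x i) {KW : List (List S)} {bs : List ℕ} {pr kk : ℕ → ℕ}
    {γ : ℕ → List S} {c₁ : ℕ} {B : ℕ → ℕ → ℕ} {st : ℕ} (hcard : Nat.card G = M * st)
    (hM : 0 < M) (hM' : M < 65536) (hlab0 : lab bs 0 = 0) (hn : 0 < n) (hc₁ : c₁ < n)
    (hBB : ∀ i < n, ∀ j < n, B i j < 65536)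
    (h1 : allL (Pts.chkW A M bs) KW = true) (h2 : Pts.chkF A M bs KW pr = true) (h3 : chkK M n bs kk = true)
    (h4 : Pts.chkB A M n c₁ bs γ B = true)
    (hdiv : ∀ J : Finset (Fin n), ⟨c₁, hc₁⟩ ∈ J → (∑ j ∈ J, kk j) ∣ st → J = {⟨c₁, hc₁⟩})
    (a : Fin n → ℚ) (t : ℚ) (L : Fin n → Fin n → ℚ) (d : ℕ)
    (ha : a ⟨0, hn⟩ = 1) (hBa : ∀ i : Fin n, ∑ j : Fin n, (B i j : ℚ) * a j = t * a i)
    (hL : ∀ i j : Fin n, ∑ l : Fin n, L i l * ((B l j : ℚ) - if l = j then t else 0) =
      (if i = j then 1 else 0) - if j = ⟨0, hn⟩ then a i else 0)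
    (hd : (d : ℚ) * ∑ j : Fin n, (kk j : ℚ) * (a j * a j) = M) :
    ∃ χ : IrrCharacter G, charDegree (χ : G → ℂ) = d ∧
      Ev (χ : G → ℂ) (fun j : Fin n => kk j) (fun i => (a i : ℂ)) := by
  classical
  let act : MulAction G (Fin M) := MulAction.compHom (Fin M) φ
  have hsm : ∀ (g : G) (i : Fin M), g • i = φ g i := fun _ _ => rfl
  -- words
  have hw : ∀ (w : List S) (i : Fin M), (((w.map s).prod • i : Fin M) : ℕ) = av A w i := by
    intro w
    induction w with
    | nil => intro i; rw [List.map_nil, List.prod_nil, one_smul, av_nil]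
    | cons x w ih =>
      intro i
      rw [List.map_cons, List.prod_cons, mul_smul, hsm (s x), hA, ih, av_cons]
  unfold chkK at h3
  rw [band_eq_true, band_eq_true, allB_iff, allB_iff, allB_iff] at h3
  obtain ⟨h5a, h5b, h5c⟩ := h3
  have hlt : ∀ x < M, lab bs x < n := fun x hx => Nat.blt_eq ▸ h5a x hx
  have hrt : ∀ j < n, rt bs j < M := fun j hj => Nat.blt_eq ▸ h5b j hj
  let z : Fin M := ⟨0, hM⟩
  let K : Subgroup G :=
    { carrier := {g | g • z = z ∧ ∀ x : Fin M, lab bs (g • x : Fin M) = lab bs x}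
      one_mem' := ⟨one_smul _ _, fun x => by rw [one_smul]⟩
      mul_mem' := by
        rintro a b ⟨h1, h2⟩ ⟨h3, h4⟩
        exact ⟨by rw [mul_smul, h3, h1], fun x => by rw [mul_smul, h2, h4]⟩
      inv_mem' := by
        rintro a ⟨h1, h2⟩
        refine ⟨by rw [inv_smul_eq_iff, h1], fun x => ?_⟩
        have h3 := h2 (a⁻¹ • x)
        rw [smul_inv_smul] at h3
        exact h3.symm }
  have hK : ∀ g, g ∈ K ↔ g • z = z ∧ ∀ x : Fin M, lab bs (g • x : Fin M) = lab bs x := fun _ => Iff.rfl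
  have hKW : ∀ w ∈ KW, (w.map s).prod ∈ K := by
    intro w hwK
    have h7 := (allL_iff _ _).1 h1 w hwK
    unfold Pts.chkW at h7
    rw [band_eq_true] at h7
    rw [hK]
    refine ⟨Fin.ext ?_, fun x => ?_⟩
    · rw [hw]
      exact Nat.eq_of_beq_eq_true h7.1
    · rw [hw]
      exact Nat.eq_of_beq_eq_true ((allB_iff _ _).1 h7.2 x x.2)
  unfold Pts.chkF at h2
  rw [allB_iff] at h2
  have hreach : ∀ x, ∀ hx : x < M, ∃ g ∈ K, g • (⟨rt bs (lab bs x), hrt _ (hlt x hx)⟩ : Fin M) = ⟨x, hx⟩ := by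
    intro x
    induction x using Nat.strong_induction_on with
    | _ x ih =>
      intro hx
      have h7 := h2 x hx
      rw [bor_iff, forceB_eq, band_eq_true, band_eq_true, anyB_iff] at h7
      rcases h7 with h7 | ⟨h7, h8, w, hwK, h9⟩
      · refine ⟨1, K.one_mem, ?_⟩
        rw [one_smul]
        exact Fin.ext (Nat.eq_of_beq_eq_true h7)
      · have h10 : pr x < x := Nat.blt_eq ▸ h7
        obtain ⟨g, hg, hgx⟩ := ih _ h10 (h10.trans hx)
        refine ⟨(w.map s).prod * g, K.mul_mem (hKW w hwK) hg, ?_⟩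
        have h11 : (⟨rt bs (lab bs x), hrt _ (hlt x hx)⟩ : Fin M) =
            ⟨rt bs (lab bs (pr x)), hrt _ (hlt _ (h10.trans hx))⟩ :=
          Fin.ext (congrArg (rt bs) (Nat.eq_of_beq_eq_true h8).symm)
        rw [h11, mul_smul, hgx]
        refine Fin.ext ?_
        rw [hw]
        exact Nat.eq_of_beq_eq_true h9
  unfold Pts.chkB at h4
  rw [allB_iff] at h4
  have hγ : ∀ i (hi : i < n), ((γ i).map s).prod • z = ⟨rt bs i, hrt i hi⟩ := by
    intro i hi
    have h7 := h4 i hi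
    rw [band_eq_true] at h7
    refine Fin.ext ?_
    rw [hw]
    exact Nat.eq_of_beq_eq_true h7.1
  have htrG : ∀ i : Fin M, ∃ g : G, g • z = i := by
    intro i
    obtain ⟨g, -, hg⟩ := hreach i i.2
    exact ⟨g * ((γ (lab bs i)).map s).prod, by rw [mul_smul, hγ _ (hlt i i.2), hg]⟩
  have hst : Nat.card (MulAction.stabilizer G z) = st := by
    have h7 : Nat.card (MulAction.orbit G z) = M := by
      have h8 : MulAction.orbit G z = Set.univ := by
        ext i
        exact ⟨fun _ => _root_.trivial, fun _ => htrG i⟩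
      rw [h8, Nat.card_coe_set_eq, Set.ncard_univ, Nat.card_eq_fintype_card, Fintype.card_fin]
    have h9 : Nat.card (MulAction.orbit G z) * Nat.card (MulAction.stabilizer G z) = Nat.card G := by
      rw [Nat.card_congr (MulAction.orbitEquivQuotientStabilizer G z), ← Subgroup.index_eq_card, mul_comm,
        Subgroup.card_mul_index]
    rw [h7, hcard] at h9
    exact Nat.eq_of_mul_eq_mul_left hM h9
  have hkk : ∀ j : Fin n, (Finset.univ.filter fun i : Fin M => (⟨lab bs i, hlt i i.2⟩ : Fin n) = j).card = kk j := by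
    intro j
    have h7 := (cntB_iff _ _ _).1 (h5c j j.2)
    rw [← h7, ← card_fin]
    congr 1
    ext i
    simp only [Finset.mem_filter, Finset.mem_univ, true_and, Fin.ext_iff]
    exact ⟨fun h => by rw [h]; exact Nat.beq_refl _, Nat.eq_of_beq_eq_true⟩
  have htr : ∀ i : Fin M, ∃ g ∈ K, g • (⟨rt bs (lab bs i), hrt _ (hlt i i.2)⟩ : Fin M) = i := fun i => hreach i i.2
  refine deg_of_orbital (G := G) (Y := Fin M) (M := M) (n := n) (fun x => x) (fun _ _ h => h) z
    (fun g i => ⟨g • i, rfl⟩) htrG K (fun g hg => ((hK g).1 hg).1) (fun x => ⟨lab bs x, hlt x x.2⟩)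
    (fun j => ⟨rt bs j, hrt j j.2⟩) ?_ htr ⟨c₁, hc₁⟩ ?_ (fun i => ((γ i).map s).prod) (fun i => hγ i i.2)
    (fun i k => ((γ i).map s).prod • k) (fun i k => rfl) (fun i j => B i j) ?_ (fun j => kk j) hkk ⟨0, hn⟩ ?_ a t L d
    ha hBa hL hd
  · intro g hg i j hij
    rw [← hij]
    exact Fin.ext (((hK g).1 hg).2 i)
  · exact Orbital.class_invariant (G := G) (Y := Fin M) (fun x => x) (fun _ _ h => h) z (fun g i => ⟨g • i, rfl⟩) K
      (fun g hg => ((hK g).1 hg).1) (fun x => ⟨lab bs x, hlt x x.2⟩) (fun j => ⟨rt bs j, hrt j j.2⟩) htr ⟨c₁, hc₁⟩ st hst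
      (fun j => kk j) hkk hdiv
  · intro i j
    have h7 := h4 i i.2
    rw [band_eq_true] at h7
    rw [← card_of_pk hM' (fun j hj => hBB i i.2 j hj) (fun k hk _ => ?_) h7.2 j j.2]
    · refine Finset.card_bij (fun k _ => (k : ℕ)) ?_ (fun k _ k' _ h => Fin.ext h) ?_
      · intro k hk
        rw [Finset.mem_filter] at hk ⊢
        refine ⟨Finset.mem_range.2 k.2, ?_, ?_⟩
        · have h8 : lab bs k = c₁ := congrArg Fin.val hk.2.1
          rw [h8]
          exact Nat.beq_refl _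
        · have h8 := congrArg Fin.val hk.2.2
          have h9 : lab bs (((((γ i).map s).prod • k : Fin M)) : ℕ) = j := h8
          rwa [hw] at h9
      · intro k hk
        rw [Finset.mem_filter, Finset.mem_range] at hk
        refine ⟨⟨k, hk.1⟩, ?_, rfl⟩
        rw [Finset.mem_filter]
        refine ⟨Finset.mem_univ _, Fin.ext (Nat.eq_of_beq_eq_true hk.2.1), Fin.ext ?_⟩
        show lab bs (((((γ i).map s).prod • (⟨k, hk.1⟩ : Fin M) : Fin M)) : ℕ) = j
        rw [hw]
        exact hk.2.2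
    · have h8 := hw (γ i) ⟨k, hk⟩
      rw [← h8]
      exact hlt _ (Fin.is_lt _)
  · exact Fin.ext hlab0

end pts

end Cfsg.Agent.H456.LD.OmC
end

-- part: H456/LD/Fi22Om
section
/-!
# Fi22: the eigenvalues of a class of 3510 elements on the characters of degrees 3080 and 13650 (helper456)
-/

set_option autoImplicit false
set_option maxRecDepth 100000

namespace Cfsg.Agent.H456.LD.Fi22Om

open Cfsg Equiv Cfsg.Spor.Fi22 Cfsg.Agent.H678.DG Cfsg.Agent.H678.DG.Blk Cfsg.Agent.H678.DG.Pts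
  Cfsg.Agent.H289.Eight.FiQRep Cfsg.Agent.H289.Eight.PRep Cfsg.Agent.SporadicA.PermTab Cfsg.Agent.H289.Eight.FiQAct
  Cfsg.Agent.H289.Eight.FiQDeg

open Cfsg.Agent.H456.LD.OmC (Ev)

/-- The degree for an eigenvalue. -/
theorem deg (a : Fin 4 → ℚ) (t : ℚ) (L : Fin 4 → Fin 4 → ℚ) (d : ℕ)
    (ha : a 0 = 1) (hBa : ∀ i : Fin 4, ∑ j : Fin 4, (B i j : ℚ) * a j = t * a i)
    (hL : ∀ i j : Fin 4, ∑ l : Fin 4, L i l * ((B l j : ℚ) - if l = j then t else 0) =
      (if i = j then 1 else 0) - if j = 0 then a i else 0)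
    (hd : (d : ℚ) * ∑ j : Fin 4, (kk j : ℚ) * (a j * a j) = (61776 : ℕ)) :
    ∃ χ : IrrCharacter Cfsg.Spor.Fi22, charDegree (χ : Cfsg.Spor.Fi22 → ℂ) = d ∧
      Ev (χ : Cfsg.Spor.Fi22 → ℂ) (fun j : Fin 4 => kk j) (fun i => (a i : ℂ)) :=
  OmC.deg_of_pts phi (fun x => PresentedGroup.of x) A rep_of (KW := KW) (bs := bs) (pr := pr) (kk := kk) (γ := gam)
    (c₁ := 3) (B := B) (st := 1045094400) (by rw [card_fi22]) (by norm_num) (by norm_num) (by decide +kernel) (by norm_num)
    (by norm_num) (by decide +kernel) c1 c2 c3 Cfsg.Agent.H289.Eight.FiQB.c4 hdiv a t L d ha hBa hL hd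

theorem ev_13650 : ∃ χ : IrrCharacter Cfsg.Spor.Fi22, charDegree (χ : Cfsg.Spor.Fi22 → ℂ) = 13650 ∧
    Ev (χ : Cfsg.Spor.Fi22 → ℂ) (fun j : Fin 4 => kk j) (fun i => ((![1, -1/175, 1/100, -1/175] : Fin 4 → ℚ) i : ℂ)) :=
  deg ![1, -1/175, 1/100, -1/175] (-216) ![![0, 0, 0, 0],
    ![1/37800, 1/108, -1/108, 0],
    ![-1/21600, -1/1536, 5/6912, 0],
    ![1/37800, 0, 0, 0]] 13650
    (by decide +kernel) (by decide +kernel) (by decide +kernel) (by decide +kernel)

theorem ev_3080 : ∃ χ : IrrCharacter Cfsg.Spor.Fi22, charDegree (χ : Cfsg.Spor.Fi22 → ℂ) = 3080 ∧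
    Ev (χ : Cfsg.Spor.Fi22 → ℂ) (fun j : Fin 4 => kk j) (fun i => ((![1, 19/175, -1/350, -1/350] : Fin 4 → ℚ) i : ℂ)) :=
  deg ![1, 19/175, -1/350, -1/350] (-108) ![![0, 0, 0, 0],
    ![-19/18900, -127/972, 32/243, 0],
    ![1/37800, 1/108, -1/108, 0],
    ![1/37800, 0, 0, 0]] 3080
    (by decide +kernel) (by decide +kernel) (by decide +kernel) (by decide +kernel)

theorem kk0 : kk 0 = 1 := by decide +kernel
theorem kk1 : kk 1 = 1575 := by decide +kernel
theorem kk2 : kk 2 = 22400 := by decide +kernel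
theorem kk3 : kk 3 = 37800 := by decide +kernel

/-- The possible eigenvalues. -/
theorem vals {χ : Cfsg.Spor.Fi22 → ℂ} {a : Fin 4 → ℚ} (h : Ev χ (fun j : Fin 4 => kk j) (fun i => (a i : ℂ)))
    {T : Finset Cfsg.Spor.Fi22} (hT : Cfsg.Agent.H618.LD.Tw.Cl T) (hc : T.card = 3510) (ha : a 0 = 1) :
    Cfsg.Agent.H618.LD.Tw.om T χ = 3510 ∨ Cfsg.Agent.H618.LD.Tw.om T χ = 1935 + 1575 * (a 1 : ℂ) ∨
      Cfsg.Agent.H618.LD.Tw.om T χ = 360 + 3150 * (a 1 : ℂ) := by
  obtain ⟨c, h1, h2⟩ := h T hT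
  simp only [Fin.sum_univ_four] at h1 h2
  have e0 : kk ((0 : Fin 4) : ℕ) = 1 := kk0
  have e1 : kk ((1 : Fin 4) : ℕ) = 1575 := kk1
  have e2 : kk ((2 : Fin 4) : ℕ) = 22400 := kk2
  have e3 : kk ((3 : Fin 4) : ℕ) = 37800 := kk3
  rw [e0, e1, e2, e3, hc] at h1
  rw [e0, e1, e2, e3, ha] at h2
  have c2 : c 2 = 0 := by omega
  have c3 : c 3 = 0 := by omega
  rw [c2, c3] at h2
  have h3 : (c 0 = 3510 ∧ c 1 = 0) ∨ (c 0 = 1935 ∧ c 1 = 1) ∨ (c 0 = 360 ∧ c 1 = 2) := by omega
  rcases h3 with ⟨h4, h5⟩ | ⟨h4, h5⟩ | ⟨h4, h5⟩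
  · left; rw [h2, h4, h5]; push_cast; ring
  · right; left; rw [h2, h4, h5]; push_cast; ring
  · right; right; rw [h2, h4, h5]; push_cast; ring

/-- **The eigenvalues on the characters of degrees 3080 and 13650.** -/
theorem exists_om {T : Finset Cfsg.Spor.Fi22} (hT : Cfsg.Agent.H618.LD.Tw.Cl T) (hc : T.card = 3510) :
    (∃ χ : IrrCharacter Cfsg.Spor.Fi22, charDegree (χ : Cfsg.Spor.Fi22 → ℂ) = 3080 ∧
      (Cfsg.Agent.H618.LD.Tw.om T χ = 3510 ∨ Cfsg.Agent.H618.LD.Tw.om T χ = 2106 ∨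
        Cfsg.Agent.H618.LD.Tw.om T χ = 702)) ∧
    (∃ χ : IrrCharacter Cfsg.Spor.Fi22, charDegree (χ : Cfsg.Spor.Fi22 → ℂ) = 13650 ∧
      (Cfsg.Agent.H618.LD.Tw.om T χ = 3510 ∨ Cfsg.Agent.H618.LD.Tw.om T χ = 1926 ∨
        Cfsg.Agent.H618.LD.Tw.om T χ = 342)) := by
  constructor
  · obtain ⟨χ, h1, h2⟩ := ev_3080
    refine ⟨χ, h1, ?_⟩
    have h3 := vals h2 hT hc rfl
    have h4 : (((![1, 19/175, -1/350, -1/350] : Fin 4 → ℚ) 1 : ℚ) : ℂ) = 19 / 175 := by
      show ((19 / 175 : ℚ) : ℂ) = 19 / 175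
      push_cast; ring
    rw [h4] at h3
    norm_num at h3
    exact h3
  · obtain ⟨χ, h1, h2⟩ := ev_13650
    refine ⟨χ, h1, ?_⟩
    have h3 := vals h2 hT hc rfl
    have h4 : (((![1, -1/175, 1/100, -1/175] : Fin 4 → ℚ) 1 : ℚ) : ℂ) = -1 / 175 := by
      show ((-1 / 175 : ℚ) : ℂ) = -1 / 175
      push_cast; ring
    rw [h4] at h3
    norm_num at h3
    exact h3

end Cfsg.Agent.H456.LD.Fi22Om
end

-- part: H618/LD/RowFi22
section
/-!
# S4910, the row Fi22 (helper618)

Characters of degrees `1441792` (the only one of this degree) and `1791153` (the only one of this degree in the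
principal 11-block).
-/

set_option autoImplicit false
set_option linter.unusedSectionVars false

open Cfsg

namespace Cfsg.Agent.H618.LD

open Cfsg.Agent.LThreeFi22 Cfsg.Agent.H618.LD.Tw Cfsg.Agent.H618.LD.Ev Cfsg.Agent.H618.LD.Blk Cfsg.Agent.H618.LD.Num
  Cfsg.Agent.H618.LD.Prin Cfsg.Agent.H618.LD.Find
open Cfsg.Agent.KFacts.FiTT (TK)

universe u

variable {S : Type u} [Group S]

theorem aut_TK (e : S ≃* Spor.Fi22) (b : MulAut S) {s : S} (h : s ∈ TK e) : b s ∈ TK e := by
  rw [Inst.mem_TK] at h ⊢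
  have h1 := R08.AutT.aut_mem ((e.symm.trans b).trans e) h
  have h2 : ((e.symm.trans b).trans e) (e s) = e (b s) := by
    show e (b (e.symm (e s))) = e (b s)
    rw [e.symm_apply_apply]
  rwa [h2] at h1

variable [Finite S]

theorem ww_tw (e : S ≃* Spor.Fi22) (b : MulAut S) (χ : IrrCharacter S) :
    ww (TK e) (H954.LD.tw b χ : S → ℂ) = ww (TK e) (χ : S → ℂ) := by
  have h : om (TF (TK e)) (H954.LD.tw b χ : S → ℂ) = om (TF (TK e)) (χ : S → ℂ) := by
    unfold om
    have h1 : (H954.LD.tw b χ : S → ℂ) 1 = (χ : S → ℂ) 1 := by rw [H954.LD.tw_apply, map_one]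
    have h2 : ∑ s ∈ TF (TK e), (H954.LD.tw b χ : S → ℂ) s = ∑ s ∈ TF (TK e), (χ : S → ℂ) s := by
      refine Finset.sum_bij' (fun s _ => b s) (fun s _ => b.symm s) ?_ ?_ ?_ ?_ ?_
      · intro s hs; exact mem_TF.2 (aut_TK e b (mem_TF.1 hs))
      · intro s hs; exact mem_TF.2 (aut_TK e b.symm (mem_TF.1 hs))
      · intro s _; exact b.symm_apply_apply s
      · intro s _; exact b.apply_symm_apply s
      · intro s _; exact H954.LD.tw_apply b χ s
    rw [h1, h2]
  unfold ww
  rw [h]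

open scoped Classical in
/-- transfer of the eigenvalues through an isomorphism -/
theorem exists_tr (e : S ≃* Spor.Fi22) {d : ℕ} {Q : ℂ → Prop}
    (h : ∃ χ : IrrCharacter Cfsg.Spor.Fi22, charDegree (χ : Cfsg.Spor.Fi22 → ℂ) = d ∧
      Q (om ((TF (TK e)).image e) (χ : Cfsg.Spor.Fi22 → ℂ))) :
    ∃ χ : IrrCharacter S, charDegree (χ : S → ℂ) = d ∧ Q (om (TF (TK e)) (χ : S → ℂ)) := by
  obtain ⟨χ, h1, h2⟩ := h
  refine ⟨⟨(χ : Cfsg.Spor.Fi22 → ℂ) ∘ e.toMonoidHom, Characters.Core.isIrr_comp e.toMonoidHom e.surjective χ.2⟩, ?_, ?_⟩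
  · rw [← h1]
    show charDegree ((χ : Cfsg.Spor.Fi22 → ℂ) ∘ e) = _
    unfold charDegree
    rw [Function.comp_apply, map_one]
  · have h3 : om (TF (TK e)) ((χ : Cfsg.Spor.Fi22 → ℂ) ∘ e) = om ((TF (TK e)).image e) (χ : Cfsg.Spor.Fi22 → ℂ) := by
      unfold om
      rw [Finset.sum_image (fun a _ b _ hab => e.injective hab), Function.comp_apply, map_one]
      rfl
    show Q (om (TF (TK e)) ((χ : Cfsg.Spor.Fi22 → ℂ) ∘ e))
    rw [h3]
    exact h2

theorem exists_pair [IsSimpleGroup S] (e : S ≃* Spor.Fi22) :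
    (∃ χ : IrrCharacter S, charDegree (χ : S → ℂ) = 3080 ∧ ww (TK e) (χ : S → ℂ) = 702) ∧
    (∃ χ : IrrCharacter S, charDegree (χ : S → ℂ) = 13650 ∧
      (ww (TK e) (χ : S → ℂ) = 342 ∨ ww (TK e) (χ : S → ℂ) = 1926)) := by
  classical
  have C := Inst.ctx e
  have hcl : Cl ((TF (TK e)).image e) := by
    intro t ht g
    rw [Finset.mem_image] at ht ⊢
    obtain ⟨s, hs, rfl⟩ := ht
    refine ⟨e.symm g * s * (e.symm g)⁻¹, cl C s hs (e.symm g), ?_⟩
    rw [map_mul, map_mul, map_inv, e.apply_symm_apply]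
  have hcard : ((TF (TK e)).image e).card = 3510 := by
    rw [Finset.card_image_of_injective _ e.injective, card_TF C]
  obtain ⟨h1, h2⟩ := H456.LD.Fi22Om.exists_om hcl hcard
  obtain ⟨χ₁, d1, w1⟩ := exists_tr e (Q := fun z => z = 3510 ∨ z = 2106 ∨ z = 702) h1
  obtain ⟨χ₂, d2, w2⟩ := exists_tr e (Q := fun z => z = 3510 ∨ z = 1926 ∨ z = 342) h2
  have a1 := adm C χ₁ (by rw [d1]; norm_num)
  have a2 := adm C χ₂ (by rw [d2]; norm_num)
  have b1 := a1.bd
  have b2 := a2.bd
  rw [ww_cast C χ₁.2] at w1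
  rw [ww_cast C χ₂.2] at w2
  constructor
  · refine ⟨χ₁, d1, ?_⟩
    rcases w1 with h | h | h
    · have h3 : ww (TK e) (χ₁ : S → ℂ) = 3510 := by exact_mod_cast h
      rw [h3] at b1
      norm_num at b1
    · exfalso
      have h3 : ww (TK e) (χ₁ : S → ℂ) = 2106 := by exact_mod_cast h
      rw [h3, d1] at a1
      have h4 := okw_of_adm a1
      revert h4
      decide +kernel
    · exact_mod_cast h
  · refine ⟨χ₂, d2, ?_⟩
    rcases w2 with h | h | h
    · have h3 : ww (TK e) (χ₂ : S → ℂ) = 3510 := by exact_mod_cast h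
      rw [h3] at b2
      norm_num at b2
    · right; exact_mod_cast h
    · left; exact_mod_cast h

/-- **The row `Fi22`.** -/
theorem row_Fi22 [IsSimpleGroup S] (hna : ¬ IsMulCommutative S) (h : Spor.IsoFi22 S) :
    Cfsg.Agent.H954.LD.CopRow S := by
  have h2 : Nat.card (Out S) ≤ 2 := by
    apply H489.card_out_sporadic
    unfold IsSporadicGroup
    simp only [h, true_or, or_true]
  obtain ⟨e⟩ := h
  have i11 : Fact (Nat.Prime 11) := ⟨by norm_num⟩
  have i13 : Fact (Nat.Prime 13) := ⟨by norm_num⟩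
  obtain ⟨⟨χ₁, d1, w1⟩, ⟨χ₂, d2, w2⟩⟩ := exists_pair e
  obtain ⟨P, K, NE, X, ε, d, k, D⟩ := exists_D11 e
  obtain ⟨P', K', NE', X', ε', d', D'⟩ := exists_D13 e
  obtain ⟨⟨β, hβ, hβw, hβu⟩, κ', hκ', hκw⟩ := find11 hna e D d2 w2
  obtain ⟨α, hα, hαu⟩ := find13 hna e D D' d1 w1 hκ' hκw
  refine H954.LD.copRow_inv hna h2 (α := α) (β := β) (by rw [hα]; norm_num) (by rw [hβ]; norm_num)
    (by rw [hα, hβ]; norm_num) (H954.LD.inv_of_unique fun ψ hψ => hαu ψ (hψ.trans hα)) ?_
  intro b s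
  have h3 := hβu (H954.LD.tw b β) ((H954.LD.charDegree_tw b β).trans hβ) (by rw [ww_tw]; exact hβw)
  rw [← H954.LD.tw_apply, h3]

end Cfsg.Agent.H618.LD
end

private theorem dce_a721345f2441 : _root_.True := by
  try have : _root_.True := by simp only [_root_.Cfsg.Agent.H618.LD.S11.T.eq_1]
  try have : _root_.True := by simp only [_root_.Cfsg.Agent.H618.LD.S13.T.eq_1]
  try have : _root_.True := by simp only [_root_.Cfsg.Agent.H678.DG.Sph.rep.congr_simp]
  exact _root_.True.intro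
end

-- part: H593/LD/InvFi24
section
prune_inst 0x7f00000000000000000000000000000000000000000000000000000000000000000000000000000000000000000000000000000000000000000000000000000000000000000000000000000000000000003ffff7ffffffffffffffffffffffbeffbdebfeffff
set_option linter.all false
open scoped Cfsg.Agent.FastGrp

-- part: H653/LD/TwoOne
section
/-!
# A `2`-block of defect one with a centralizer `⟨u⟩ × T` (helper653)

`u` an involution of `G` with `C_G(u) = ⟨u⟩ × T` and `θ` an irreducible character of `T` of `2`-defect zero: there is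
an irreducible character `χ` of `G` with `χ u = ± θ 1`, in a `2`-block with defect group `⟨u⟩`; its degree divides
`|G : C| θ(1)` and its `2`-part is at least `|G|_2 / 2`.
-/

set_option autoImplicit false

namespace Cfsg.Agent.H653.LD.TwoOne

open Cfsg
open Cfsg.Agent.Blocks.Basic Cfsg.Agent.Blocks.Local
open Cfsg.Agent.Characters.Core
open Cfsg.Agent.H66.LD.Three (exists_equiv exists_block dvd_of_isIntegral eq_of_gram eq_zero_of_dvd exists_ext)
open scoped ComplexConjugate

universe v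

variable {G : Type v} [Group G]

theorem eq_of_mem_zpowers {u : G} (hu : orderOf u = 2) {x : G} (hx : x ∈ Subgroup.zpowers u) : x = 1 ∨ x = u := by
  obtain ⟨k, rfl⟩ := Subgroup.mem_zpowers_iff.1 hx
  have h2 : u ^ (2 : ℤ) = 1 := by
    have h := pow_orderOf_eq_one u
    rw [hu] at h
    exact_mod_cast h
  rcases Int.even_or_odd' k with ⟨m, rfl | rfl⟩
  · left
    rw [zpow_mul, h2, one_zpow]
  · right
    rw [zpow_add, zpow_mul, h2, one_zpow, one_mul, zpow_one]

/-- The inner product of `t ↦ χ (u t)` with a character of `T` is an integer. -/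
theorem exists_int [Finite G] {u : G} (hu : orderOf u = 2) {C T : Subgroup G} [Fintype T]
    (E : (Subgroup.zpowers u) × T ≃* C)
    (hE : ∀ (x : Subgroup.zpowers u) (t : T), ((E (x, t) : C) : G) = x * t)
    {θ : T → ℂ} (hθ : IsCharacter T θ) {χ : G → ℂ} (hχ : IsCharacter G χ) :
    ∃ a : ℤ, classInner (fun t : T => χ (u * t)) θ = a := by
  classical
  have : Fintype C := Fintype.ofFinite C
  have : Fintype (Subgroup.zpowers u) := Fintype.ofFinite _
  have hf1 : IsCharacter C (θ ∘ ((MonoidHom.snd (Subgroup.zpowers u) T).comp E.symm.toMonoidHom)) :=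
    isCharacter_comp _ hθ
  have hres : IsCharacter C (χ ∘ C.subtype) := isCharacter_comp C.subtype hχ
  have hresT : IsCharacter T (χ ∘ T.subtype) := isCharacter_comp T.subtype hχ
  obtain ⟨m0, hm0⟩ := classInner_isNat hres hf1
  obtain ⟨m1, hm1⟩ := classInner_isNat hresT hθ
  obtain ⟨S, hS⟩ : ∃ S : G → ℂ, ∀ x, S x = ∑ t : T, χ (x * t) * conj (θ t) := ⟨_, fun x => rfl⟩
  have hne : (1 : G) ≠ u := by
    intro h
    rw [← h, orderOf_one] at hu
    omega
  have hsumz : ∑ x : Subgroup.zpowers u, S x = S 1 + S u := by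
    have h1 : ∑ x : Subgroup.zpowers u, S x = ∑ x ∈ ({1, u} : Finset G), S x := by
      refine (Finset.sum_subtype ({1, u} : Finset G) (fun x => ?_) S).symm
      rw [Finset.mem_insert, Finset.mem_singleton]
      constructor
      · rintro (rfl | rfl)
        · exact one_mem _
        · exact Subgroup.mem_zpowers _
      · exact fun h => eq_of_mem_zpowers hu h
    rw [h1, Finset.sum_pair hne]
  have hA : ∑ c : C, (χ ∘ C.subtype) c *
      conj ((θ ∘ ((MonoidHom.snd (Subgroup.zpowers u) T).comp E.symm.toMonoidHom)) c) = S 1 + S u := by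
    rw [← hsumz]
    simp only [hS]
    rw [← Fintype.sum_prod_type (fun q : (Subgroup.zpowers u) × T => χ ((q.1 : G) * q.2) * conj (θ q.2))]
    refine Fintype.sum_equiv E.symm.toEquiv _ _ fun c => ?_
    have h1 : (c : G) = ((E.symm c).1 : G) * (E.symm c).2 := by
      rw [← hE, Prod.mk.eta, MulEquiv.apply_symm_apply]
    change χ (c : G) * conj (θ (E.symm c).2) = χ (((E.symm c).1 : G) * (E.symm c).2) * conj (θ (E.symm c).2)
    rw [← h1]
  have hB : ∑ t : T, (χ ∘ T.subtype) t * conj (θ t) = S 1 := by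
    rw [hS]
    refine Fintype.sum_congr _ _ fun t => ?_
    rw [one_mul]
    rfl
  rw [Characters.Core.classInner_def, hA] at hm0
  rw [Characters.Core.classInner_def, hB] at hm1
  have hcardC : (Nat.card C : ℂ) = 2 * Nat.card T := by
    rw [← Nat.card_congr E.toEquiv, Nat.card_prod, Nat.card_zpowers, hu]
    push_cast
    ring
  have hT0 : (Nat.card T : ℂ) ≠ 0 := by exact_mod_cast Nat.card_pos.ne'
  refine ⟨2 * (m0 : ℤ) - m1, ?_⟩
  rw [Characters.Core.classInner_def]
  change (Nat.card T : ℂ)⁻¹ * ∑ t : T, χ (u * t) * conj (θ t) = _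
  rw [← hS]
  push_cast
  rw [← hm0, ← hm1, hcardC]
  field_simp
  ring

/-- **The block with defect group `⟨u⟩`.** -/
theorem exists_two [Finite G] {M : Ideal AlgInt} (hM : IsPModular 2 M) {u : G} (hu : orderOf u = 2)
    {C T : Subgroup G} (hC : C = Subgroup.centralizer ({u} : Set G)) (hTC : T ≤ C)
    (hcard : Nat.card C = 2 * Nat.card T) (huT : u ∉ T) (θ : IrrCharacter T)
    (hθ : (charDegree (θ : T → ℂ)).factorization 2 = (Nat.card T).factorization 2) :
    ∃ (χ : IrrCharacter G) (ε : ℤ), (ε = 1 ∨ ε = -1) ∧ (χ : G → ℂ) u = ε * (θ : T → ℂ) 1 ∧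
      (Nat.card G).factorization 2 ≤ (charDegree (χ : G → ℂ)).factorization 2 + 1 ∧
      charDegree (χ : G → ℂ) ∣ C.index * charDegree (θ : T → ℂ) := by
  classical
  have hp2 : Fact (Nat.Prime 2) := ⟨Nat.prime_two⟩
  have hMp : M.IsPrime := isPrime_of_isPModular hM
  obtain ⟨E, hE⟩ := exists_equiv hu hC hTC hcard huT
  obtain ⟨θ', hθ'⟩ := exists_ext E hE θ
  have huQ : u ∈ Subgroup.zpowers u := Subgroup.mem_zpowers u
  have hθ1 : (θ' : C → ℂ) 1 = (θ : T → ℂ) 1 := hθ' 1 1 1 (one_mem _) (by simp only [_root_.OneMemClass.coe_one, _root_.mul_one])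
  have hker : ∀ y : C, (y : G) ∈ Subgroup.zpowers u → (θ' : C → ℂ) y = (θ' : C → ℂ) 1 := by
    intro y hy
    rw [hθ1]
    exact hθ' y y 1 hy (by simp)
  have hcd : charDegree (θ' : C → ℂ) = charDegree (θ : T → ℂ) := by
    rw [Blocks.Basic.charDegree_def, Blocks.Basic.charDegree_def, hθ1]
  have hdeg : (Nat.card C).factorization 2 ≤ (charDegree (θ' : C → ℂ)).factorization 2 + 1 := by
    rw [hcd, hθ, hcard, Nat.factorization_mul (by norm_num) Nat.card_pos.ne', Finsupp.add_apply,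
      Nat.prime_two.factorization_self, add_comm]
  have hconj : ∀ g ∈ Subgroup.normalizer ((Subgroup.zpowers u : Subgroup G) : Set G), ∀ c c' : C,
      (c' : G) = g * (c : G) * g⁻¹ → (θ' : C → ℂ) c' = (θ' : C → ℂ) c := by
    intro g hg c c' hcc
    have h1 : g * u * g⁻¹ ∈ Subgroup.zpowers u := (Subgroup.mem_normalizer_iff.1 hg u).1 huQ
    have h2 : g * u * g⁻¹ = u := by
      rcases eq_of_mem_zpowers hu h1 with h2 | h2
      · exfalso
        rw [conj_eq_one_iff] at h2
        rw [h2, orderOf_one] at hu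
        norm_num at hu
      · exact h2
    have hgC : g ∈ C := by
      rw [hC, Subgroup.mem_centralizer_singleton_iff]
      exact mul_inv_eq_iff_eq_mul.1 h2
    have h3 : c' = ⟨g, hgC⟩ * c * ⟨g, hgC⟩⁻¹ := Subtype.ext hcc
    rw [h3]
    exact isIrr_isClassFunction θ'.2 c ⟨g, hgC⟩
  obtain ⟨B, hBb, hdef, -, hgram⟩ := exists_block hM hu hC θ' hker hdeg hconj
  have hfin : Finite (IrrCharacter G) := finite_irr
  have hft := Fintype.ofFinite (IrrCharacter G)
  have hfT : Fintype T := Fintype.ofFinite T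
  -- the sum formula for elements of `T`
  have hsum : ∀ y y' : T, ¬ 2 ∣ orderOf y → ¬ 2 ∣ orderOf y' →
      ∑ χ : IrrCharacter G with χ ∈ B, (χ : G → ℂ) (u * y) * conj ((χ : G → ℂ) (u * y')) =
        2 * ((θ : T → ℂ) y * conj ((θ : T → ℂ) y')) := by
    intro y y' hy hy'
    have o : ∀ w : T, orderOf (⟨w, hTC w.2⟩ : C) = orderOf w := by
      intro w
      rw [Subgroup.orderOf_mk, Subgroup.orderOf_coe]
    have h1 := hgram ⟨y, hTC y.2⟩ ⟨y', hTC y'.2⟩ (by rw [o]; exact hy) (by rw [o]; exact hy')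
    rw [hθ' ⟨y, hTC y.2⟩ 1 y (one_mem _) (by simp), hθ' ⟨y', hTC y'.2⟩ 1 y' (one_mem _) (by simp),
      finsum_mem_eq_finite_toFinset_sum _ (Set.toFinite B)] at h1
    rw [show ((2 : ℕ) : ℂ) = 2 by norm_num] at h1
    rw [← h1]
    refine Finset.sum_congr (by ext; simp only [_root_.Finset.mem_filter, _root_.Finset.mem_univ, _root_.true_and, _root_.Set.toFinite_toFinset, _root_.Set.mem_toFinset]) fun χ _ => rfl
  have h31 : ¬ 2 ∣ orderOf (1 : T) := by rw [orderOf_one]; norm_num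
  have hθ0 : (θ : T → ℂ) 1 ≠ 0 := isIrr_apply_one_ne_zero θ.2
  have hprop : ∀ χ ∈ B, ∀ t : T, ¬ 2 ∣ orderOf t →
      (θ : T → ℂ) 1 * (χ : G → ℂ) (u * t) = (θ : T → ℂ) t * (χ : G → ℂ) u := by
    intro χ hχ t ht
    have h1 := eq_of_gram (Finset.univ.filter (fun χ : IrrCharacter G => χ ∈ B))
      (fun χ => (χ : G → ℂ) (u * t)) (fun χ => (χ : G → ℂ) (u * ((1 : T) : G)))
      ((θ : T → ℂ) t) ((θ : T → ℂ) 1) 2 (hsum t t ht ht) (hsum t 1 ht h31) (hsum 1 t h31 ht)
      (hsum 1 1 h31 h31) χ (by simp only [hχ, _root_.Finset.mem_filter, _root_.Finset.mem_univ, _root_.and_self])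
    simpa only [_root_.OneMemClass.coe_one, _root_.mul_one] using h1
  -- the integers
  have hint : ∀ χ : IrrCharacter G, ∃ a : ℤ, χ ∈ B → (χ : G → ℂ) u = a * (θ : T → ℂ) 1 := by
    intro χ
    obtain ⟨a, ha⟩ := exists_int hu E hE (isIrr_isCharacter θ.2) (isIrr_isCharacter χ.2)
    refine ⟨a, fun hχ => ?_⟩
    have h1 : ∀ t : T, (χ : G → ℂ) (u * t) * conj ((θ : T → ℂ) t) =
        (χ : G → ℂ) u / (θ : T → ℂ) 1 * ((θ : T → ℂ) t * conj ((θ : T → ℂ) t)) := by
      intro t
      by_cases ht : 2 ∣ orderOf t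
      · rw [eq_zero_of_dvd hM θ hθ ht]
        simp
      · have h2 := hprop χ hχ t ht
        field_simp
        linear_combination (conj ((θ : T → ℂ) t)) * h2
    rw [Characters.Core.classInner_def, Finset.sum_congr rfl fun t _ => h1 t, ← Finset.mul_sum] at ha
    have h3 := classInner_irr_self θ.2
    rw [Characters.Core.classInner_def] at h3
    rw [← ha]
    field_simp
    have h4 : (Nat.card T : ℂ) ≠ 0 := by exact_mod_cast Nat.card_pos.ne'
    field_simp at h3
    rw [h3]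
  choose a ha using hint
  have hcθ : conj ((θ : T → ℂ) 1) = (θ : T → ℂ) 1 := by
    rw [irr_one_eq_charDegree θ.2, Complex.conj_natCast]
  have hsq : ∑ χ : IrrCharacter G with χ ∈ B, a χ ^ 2 = 2 := by
    have h1 := hsum 1 1 h31 h31
    have h2 : ∑ χ : IrrCharacter G with χ ∈ B,
        (χ : G → ℂ) (u * ((1 : T) : G)) * conj ((χ : G → ℂ) (u * ((1 : T) : G))) =
        ((∑ χ : IrrCharacter G with χ ∈ B, a χ ^ 2 : ℤ) : ℂ) * ((θ : T → ℂ) 1 * (θ : T → ℂ) 1) := by
      rw [Int.cast_sum, Finset.sum_mul]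
      refine Finset.sum_congr rfl fun χ hχ => ?_
      rw [Subgroup.coe_one, mul_one, ha χ (Finset.mem_filter.1 hχ).2, map_mul, hcθ, map_intCast, Int.cast_pow]
      ring
    rw [h2, hcθ] at h1
    have h3 := mul_right_cancel₀ (mul_ne_zero hθ0 hθ0) h1
    exact_mod_cast h3
  -- a character with `a χ ≠ 0`
  obtain ⟨χ, hχ, hχ0⟩ : ∃ χ ∈ Finset.univ.filter (fun χ : IrrCharacter G => χ ∈ B), a χ ^ 2 ≠ 0 := by
    by_contra hno
    push Not at hno
    rw [Finset.sum_eq_zero hno] at hsq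
    omega
  have hχB : χ ∈ B := (Finset.mem_filter.1 hχ).2
  have hε : a χ = 1 ∨ a χ = -1 := by
    have h1 : a χ ^ 2 ≤ 2 := by
      rw [← hsq]
      exact Finset.single_le_sum (f := fun χ => a χ ^ 2) (fun i _ => sq_nonneg _) hχ
    have h2 : a χ ≠ 0 := by
      intro h
      rw [h] at hχ0
      exact hχ0 (by norm_num)
    have h3 : a χ < 2 := by nlinarith only [h1]
    have h4 : -2 < a χ := by nlinarith only [h1]
    omega
  refine ⟨χ, a χ, hε, ha χ hχB, ?_, ?_⟩
  · have h1 := Cfsg.Agent.H592.Defect.le_degree_add 2 hM hBb hdef hχB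
    rwa [Nat.card_zpowers, hu, Nat.prime_two.factorization_self] at h1
  · have h1 := Cfsg.Agent.Blocks.Central.isIntegral_centralChar χ.2 u
    have h2 : centralChar (χ : G → ℂ) u =
        ((C.index * charDegree (θ : T → ℂ) : ℕ) : ℂ) * (a χ : ℤ) / ((charDegree (χ : G → ℂ) : ℕ) : ℂ) := by
      unfold centralChar
      rw [ha _ hχB, irr_one_eq_charDegree θ.2, irr_one_eq_charDegree χ.2, ← hC]
      push_cast
      ring
    rw [h2] at h1
    exact dvd_of_isIntegral hε (charDegree_pos χ.2).ne' h1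

end Cfsg.Agent.H653.LD.TwoOne
end

-- part: H593/LD/Fi24Data
section
/-!
# `Fi24`: a transposition, its centralizer `2 × Fi23` and `Fi24'` (helper593, for S4910, row `Fi24'`)

* `T` : the copy of `Fi23` commuting with the transposition `a = gen .l`;
* `facts_T` : `C(a) = ⟨a⟩ × T`, `T ≤ Fi24'`, the index of `C(a)` is 306936;
* `fi24_data` : the same with existential quantifiers.
-/

set_option autoImplicit false

namespace Cfsg.Agent.H593.LD.Fi24Data

open Cfsg Subgroup
open Cfsg.Spor (Fi24 Fi23)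
open Cfsg.Spor.Fi24 (Gen)
open Cfsg.Agent.Fischer.Fi24Class (gen)
open Cfsg.Agent.R08.FiTwentyFour

/-- the transposition -/
abbrev a : Fi24 := gen .l

/-- the copy of `Fi23` in the centralizer of `a` -/
noncomputable def T : Subgroup Fi24 := facts.phi.range

theorem a_mem_L : a ∈ L := gen_mem_L .l

theorem aa : a * a = 1 := _root_.Cfsg.Agent.R08.FiTwentyFour.sq a_mem_L

theorem a_notMem : a ∉ commutator Fi24 := odd a_mem_L

theorem a_ne : a ≠ 1 := fun h => a_notMem (by rw [h]; exact one_mem _)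

theorem orderOf_a : orderOf a = 2 := by
  have : Fact (Nat.Prime 2) := ⟨Nat.prime_two⟩
  exact orderOf_eq_prime (by rw [pow_two, aa]) a_ne

theorem T_le : T ≤ centralizer ({a} : Set Fi24) := by
  rintro _ ⟨k, rfl⟩
  rw [mem_centralizer_singleton_iff]
  exact facts.phi_comm k

theorem T_le_commutator : T ≤ commutator Fi24 := by
  rintro _ ⟨k, rfl⟩
  rw [mem_commutator_iff]
  exact ((facts.mem_range_iff (facts.phi k)).1 ⟨k, rfl⟩).2

theorem a_notMem_T : a ∉ T := fun h => a_notMem (T_le_commutator h)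

theorem isoFi23_T : Spor.IsoFi23 T :=
  ⟨(MonoidHom.ofInjective (f := facts.phi) facts.phi_injective).symm⟩

theorem card_T : Nat.card T = 4089470473293004800 := by
  rw [← Cfsg.Agent.Fischer.Fi23Simple.card_Fi23]
  exact Nat.card_congr (MonoidHom.ofInjective (f := facts.phi) facts.phi_injective).symm.toEquiv

theorem card_Fi24 : Nat.card Fi24 = 306936 * (2 * 4089470473293004800) := by
  have h1 := (commutator Fi24).card_mul_index
  rw [index_commutator, card_commutator] at h1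
  rw [← h1]

theorem index_cent : (centralizer ({a} : Set Fi24)).index = 306936 := by
  classical
  have := finite_Fi24
  let _ : Fintype Fi24 := Fintype.ofFinite Fi24
  rw [Blocks.ClassScalar.index_centralizer, ← ncard_L]
  exact Nat.card_congr (Equiv.refl _)

theorem card_cent : Nat.card (centralizer ({a} : Set Fi24)) = 2 * Nat.card T := by
  have := finite_Fi24
  have h1 := (centralizer ({a} : Set Fi24)).card_mul_index
  rw [index_cent, card_Fi24, mul_comm (306936 : ℕ)] at h1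
  rw [card_T]
  exact Nat.eq_of_mul_eq_mul_right (by norm_num) h1

end Cfsg.Agent.H593.LD.Fi24Data
end

-- part: H653/LD/Fi24B
section
/-!
# A character of `Fi24'` from a `2`-block of `Fi24` with defect group generated by a transposition (helper653)
-/

set_option autoImplicit false

namespace Cfsg.Agent.H653.LD.Fi24B

open Cfsg
open Cfsg.Agent.Blocks.Basic Cfsg.Agent.Characters.Core

/-- transport of an irreducible character along an isomorphism -/
theorem transport {A B : Type} [Group A] [Group B] (e : A ≃* B) (χ : IrrCharacter B) :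
    ∃ ψ : IrrCharacter A, (∀ a, (ψ : A → ℂ) a = (χ : B → ℂ) (e a)) ∧
      charDegree (ψ : A → ℂ) = charDegree (χ : B → ℂ) := by
  refine ⟨⟨fun a => (χ : B → ℂ) (e a), isIrr_comp e.toMonoidHom e.surjective χ.2⟩, fun a => rfl, ?_⟩
  have h : (χ : B → ℂ) (e 1) = (χ : B → ℂ) 1 := by rw [map_one]
  rw [charDegree_def, charDegree_def, ← h]

theorem fac_Fi23 : (4089470473293004800 : ℕ).factorization 2 = 18 := by
  rw [show (4089470473293004800 : ℕ) = 2 ^ 18 * 15600091832325 by norm_num,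
    Nat.factorization_mul (by norm_num) (by norm_num), Finsupp.add_apply, Nat.prime_two.factorization_pow,
    Finsupp.single_eq_same, Nat.factorization_eq_zero_of_not_dvd (by norm_num)]

theorem fac_deg : (504627200 : ℕ).factorization 2 = 18 := by
  rw [show (504627200 : ℕ) = 2 ^ 18 * 1925 by norm_num,
    Nat.factorization_mul (by norm_num) (by norm_num), Finsupp.add_apply, Nat.prime_two.factorization_pow,
    Finsupp.single_eq_same, Nat.factorization_eq_zero_of_not_dvd (by norm_num)]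

theorem fac_index : (306936 : ℕ).factorization 2 = 3 := by
  rw [show (306936 : ℕ) = 2 ^ 3 * 38367 by norm_num,
    Nat.factorization_mul (by norm_num) (by norm_num), Finsupp.add_apply, Nat.prime_two.factorization_pow,
    Finsupp.single_eq_same, Nat.factorization_eq_zero_of_not_dvd (by norm_num)]

end Cfsg.Agent.H653.LD.Fi24B
end

-- part: H593/LD/DegB
section
/-!
# The degree `197813862400` of `Fi24'` (helper593, for S4910, row `Fi24'`)

`Fi24` has a `2`-block with defect group generated by a transposition `a`; a character `ψ` in it is irreducible on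
`Fi24'`, where it has `2`-defect zero, and `ψ a = ± 504627200`.

* `dvd_sub` : `x` of prime order `p`, `C(x) = ⟨x⟩ × ⟨a⟩` of order `2 p`: `ψ a ≡ ± ψ 1` modulo `p`;
* `eleven` : the value at an element of order 11;
* `deg_b` : `Fi24'` has an irreducible character of degree `2 ^ 21 * 94325 = 197813862400`.
-/

set_option autoImplicit false
set_option linter.unusedSectionVars false

namespace Cfsg.Agent.H593.LD.DegB

open Cfsg Subgroup
open Cfsg.Agent.Characters.Core Cfsg.Agent.Blocks.Basic Cfsg.Agent.Blocks.Local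
open Cfsg.Agent.SmallSimple.ThetaSetup Cfsg.Agent.SmallSimple.ThetaOrtho
open Cfsg.Agent.SmallSimple.TheoremC Cfsg.Agent.SmallSimple.TheoremCCor
open Cfsg.Agent.SmallSimple.ThetaCount
open Cfsg.Agent.H593.LD.Fi24Data (a T)
open Cfsg.Spor (Fi24)
open scoped ComplexConjugate

universe u

/-- The values of an irreducible character of a group of order two. -/
theorem val_two {K : Type u} [Group K] (hK : Nat.card K = 2) {θ : K → ℂ} (hθ : IsIrrCharacter K θ) (y : K) :
    θ 1 = 1 ∧ (θ y = 1 ∨ θ y = -1) := by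
  have : Finite K := Nat.finite_of_card_ne_zero (by rw [hK]; norm_num)
  have : Finite (IrrCharacter K) := finite_irr
  have := Fintype.ofFinite (IrrCharacter K)
  have hsum := SmallSimple.DegreeData.sum_sq (G := K)
  rw [hK] at hsum
  have h1 : charDegree θ ^ 2 ≤ 2 := by
    have h0 := Finset.single_le_sum (f := fun χ : IrrCharacter K => charDegree (χ : K → ℂ) ^ 2)
      (fun _ _ => Nat.zero_le _) (Finset.mem_univ (⟨θ, hθ⟩ : IrrCharacter K))
    rw [hsum] at h0
    exact h0
  have h2 : 0 < charDegree θ := charDegree_pos hθ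
  have h3 : charDegree θ = 1 := by nlinarith only [h1, h2]
  have h4 : θ 1 = 1 := by rw [irr_one_eq_charDegree hθ, h3]; norm_num
  refine ⟨h4, ?_⟩
  obtain ⟨f, hf⟩ := Characters.Linear.exists_hom_of_isIrrCharacter hθ h4
  have h5 : y ^ 2 = 1 := by
    rw [← hK]
    exact pow_card_eq_one'
  have h6 : (f y : ℂ) ^ 2 = 1 := by
    have h7 : f y ^ 2 = 1 := by rw [← map_pow, h5, map_one]
    have h8 := congrArg (Units.val) h7
    simpa only [_root_.sq_eq_one_iff, _root_.Units.val_eq_one, _root_.Units.val_eq_neg_one, _root_.Units.val_pow_eq_pow_val, _root_.Units.val_one] using h8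
  have h7 : θ y = f y := by rw [hf]
  rw [h7]
  exact sq_eq_sq_iff_eq_or_eq_neg.1 (by rw [h6, one_pow])

/-- `x` of prime order `p`, `C(x) = ⟨x⟩ × ⟨u⟩` of order `2 p` -/
theorem dvd_sub {G : Type u} [Group G] [Finite G] {p : ℕ} (hp : p.Prime) (hp2 : p ≠ 2)
    (hsq : ¬ p ^ 2 ∣ Nat.card G) {x u : G} (hx : orderOf x = p) (hu : orderOf u = 2) (hxu : Commute x u)
    (hC : Nat.card (centralizer ({x} : Set G)) = p * 2) (ψ : IrrCharacter G) {d v : ℤ}
    (hd : (ψ : G → ℂ) 1 = d) (hv : (ψ : G → ℂ) u = v) : (p : ℤ) ∣ v - d ∨ (p : ℤ) ∣ v + d := by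
  classical
  have : Fact p.Prime := ⟨hp⟩
  obtain ⟨M, hM⟩ := Blocks.ExistsModular.exists_isPModular hp
  have hMp : M.IsPrime := isPrime_of_isPModular hM
  -- the Sylow subgroup
  have h1 : p ∣ Nat.card G := by rw [← hx]; exact _root_.orderOf_dvd_natCard x
  have hpg : IsPGroup p (zpowers x) := IsPGroup.of_card (n := 1) (by rw [Nat.card_zpowers, hx, pow_one])
  obtain ⟨P, hxP⟩ := hpg.exists_le_sylow
  have hP : Nat.card P = p := SmallSimple.PrimeLocal.card_of_not_sq_dvd h1 hsq P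
  have hPx : (P : Subgroup G) = zpowers x := by
    have h3 : Nat.card (zpowers x) = Nat.card (P : Subgroup G) := by rw [Nat.card_zpowers, hx]; exact hP.symm
    exact (Subgroup.eq_of_le_of_card_ge hxP h3.ge).symm
  obtain ⟨K, hK⟩ := exists_isComp P hP
  have hCx : centralizer ((P : Subgroup G) : Set G) = centralizer ({x} : Set G) := by
    rw [hPx, SmallSimple.SelfCentPrime.centralizer_zpowers]
  have hKc : Nat.card K = 2 := by
    have h3 := card_centralizer hK hP
    rw [hCx, hC] at h3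
    exact (Nat.eq_of_mul_eq_mul_left hp.pos h3).symm
  have hpu : ¬ p ∣ orderOf u := by
    rw [hu]
    intro h
    exact hp2 ((Nat.prime_dvd_prime_iff_eq hp Nat.prime_two).1 h)
  have huK : u ∈ K := by
    rw [hK, hCx, mem_centralizer_singleton_iff]
    exact ⟨hxu.eq.symm, hpu⟩
  have hu1 : u ≠ 1 := by
    rintro rfl
    rw [orderOf_one] at hu
    norm_num at hu
  -- the elements of `K`
  have hKe : ∀ y ∈ K, y ≠ 1 → y = u := by
    intro y hy hy1
    obtain ⟨z, -, hz'⟩ := (Nat.card_eq_two_iff' (1 : K)).1 hKc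
    have e1 := hz' ⟨y, hy⟩ (fun h => hy1 (congrArg Subtype.val h))
    have e2 := hz' ⟨u, huK⟩ (fun h => hu1 (congrArg Subtype.val h))
    exact congrArg Subtype.val (e1.trans e2.symm)
  have hst : ∀ θ : K → ℂ, ∀ n ∈ normalizer ((P : Subgroup G) : Set G), tw θ n = θ := by
    intro θ n hn
    funext y
    rw [tw_apply hK _ hn]
    congr 1
    apply Subtype.ext
    by_cases hy : (y : G) = 1
    · simp [hy]
    · have h4 : n * (y : G) * n⁻¹ ≠ 1 := fun h => hy (conj_eq_one_iff.1 h)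
      exact (hKe _ (conj_mem hK hn y.2) h4).trans (hKe _ y.2 hy).symm
  -- reduction modulo `M`
  have hxP' : x ∈ (P : Subgroup G) := by rw [hPx]; exact mem_zpowers x
  have hx1 : (⟨x, hxP'⟩ : (P : Subgroup G)) ≠ 1 := by
    intro h
    have h3 : x = 1 := congrArg Subtype.val h
    rw [h3, orderOf_one] at hx
    exact hp.one_lt.ne hx
  have hxk : ∃ k : ℕ, orderOf x = p ^ k := ⟨1, by rw [hx, pow_one]⟩
  have m1 := CharactersDeep.ModCongr.memLocalIdeal_character_sub hM ψ.2 (x * u) x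
    (Blocks.PPart.isPPart_mul hxu hxk hpu)
  rw [inv_mul_cancel_left] at m1
  have m2 := CharactersDeep.ModCongr.memLocalIdeal_character_sub hM ψ.2 (x * 1) x
    (Blocks.PPart.isPPart_mul (Commute.one_right x) hxk (by rw [orderOf_one]; exact hp.not_dvd_one))
  rw [inv_mul_cancel_left] at m2
  -- the values
  obtain ⟨s, hs, hs'⟩ : ∃ s : ℤ, (s = 1 ∨ s = -1) ∧ (ψ : G → ℂ) (x * u) = s * (ψ : G → ℂ) (x * 1) := by
    by_cases hv : ∃ g : G, p ∣ orderOf g ∧ (ψ : G → ℂ) g ≠ 0
    · obtain ⟨θ, hθ⟩ := exists_mem_Over hK hP (χ := ψ) hv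
      have e1 := apply_of_stable hK hP θ.2 (hst _) hθ hx1 (1 : K)
      have e2 := apply_of_stable hK hP θ.2 (hst _) hθ hx1 (⟨u, huK⟩ : K)
      obtain ⟨e3, e4⟩ := val_two hKc θ.2 ⟨u, huK⟩
      rw [e3] at e1
      simp only [Subgroup.coe_one, mul_one] at e1 e2
      rcases e4 with e4 | e4
      · refine ⟨1, Or.inl rfl, ?_⟩
        rw [e2, e4, mul_one x, e1]
        push_cast
        ring
      · refine ⟨-1, Or.inr rfl, ?_⟩
        rw [e2, e4, mul_one x, e1]
        push_cast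
        ring
    · push Not at hv
      refine ⟨1, Or.inl rfl, ?_⟩
      rw [hv (x * u) _, hv (x * 1) _]
      · simp
      · rw [mul_one, hx]
      · rw [hxu.orderOf_mul_eq_mul_orderOf_of_coprime (by
          rw [hx]; exact (hp.coprime_iff_not_dvd).2 hpu), hx]
        exact dvd_mul_right _ _
  rcases hs with rfl | rfl
  · left
    refine H642.PQ.int_dvd_of_mem hM ?_
    have h3 := memLocalIdeal_sub m2 m1
    rw [hs', hd, hv] at h3
    convert h3 using 1
    push_cast
    ring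
  · right
    refine H642.PQ.int_dvd_of_mem hM ?_
    have h3 := memLocalIdeal_neg (memLocalIdeal_add m2 m1)
    rw [hs', hd, hv] at h3
    convert h3 using 1
    push_cast
    ring

/-! ### An element of order 11 -/

theorem isConj_pow {G : Type*} [Group G] {r s : G} (h : IsConj r s) (n : ℕ) : IsConj (r ^ n) (s ^ n) := by
  obtain ⟨g, hg⟩ := isConj_iff.1 h
  exact isConj_iff.2 ⟨g, by rw [← hg, conj_pow]⟩

theorem isConj_of_root {G : Type*} [Group G] {p : ℕ} {r : G} (hr : r ^ p = 1) {g : ℕ} (h : IsConj r (r ^ g))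
    {n k : ℕ} (hn : n ≡ g ^ k [MOD p]) : IsConj r (r ^ n) := by
  have h1 : ∀ k : ℕ, IsConj r (r ^ g ^ k) := by
    intro k
    induction k with
    | zero => rw [pow_zero, pow_one]
    | succ k ih =>
      have h2 := isConj_pow h (g ^ k)
      rw [← pow_mul, ← pow_succ'] at h2
      exact ih.trans h2
  have h2 : r ^ n = r ^ g ^ k := by
    rw [pow_eq_pow_iff_modEq]
    exact hn.of_dvd (orderOf_dvd_of_pow_eq_one hr)
  rw [h2]
  exact h1 k

theorem root_forty {n : ℕ} (hn : ¬ 11 ∣ n) : ∃ k, n ≡ 40 ^ k [MOD 11] := by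
  have h1 : n % 11 < 11 := Nat.mod_lt _ (by norm_num)
  have h3 : n % 11 = 1 ∨ n % 11 = 2 ∨ n % 11 = 3 ∨ n % 11 = 4 ∨ n % 11 = 5 ∨ n % 11 = 6 ∨ n % 11 = 7 ∨ n % 11 = 8 ∨
    n % 11 = 9 ∨ n % 11 = 10 := by omega
  rcases h3 with h | h | h | h | h | h | h | h | h | h
  · exact ⟨0, h.trans (by norm_num)⟩
  · exact ⟨3, h.trans (by norm_num)⟩
  · exact ⟨4, h.trans (by norm_num)⟩
  · exact ⟨6, h.trans (by norm_num)⟩
  · exact ⟨2, h.trans (by norm_num)⟩
  · exact ⟨7, h.trans (by norm_num)⟩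
  · exact ⟨1, h.trans (by norm_num)⟩
  · exact ⟨9, h.trans (by norm_num)⟩
  · exact ⟨8, h.trans (by norm_num)⟩
  · exact ⟨5, h.trans (by norm_num)⟩

open Cfsg.Agent.H843 Cfsg.Agent.H843.Ore.R11 in
/-- **The value at an element of order 11.** -/
theorem eleven (ψ : IrrCharacter Fi24) (χ : IrrCharacter Spor.Fi24')
    (hres : ∀ g : Spor.Fi24', (ψ : Fi24 → ℂ) (g : Fi24) = (χ : Spor.Fi24' → ℂ) g) :
    ∃ n : ℤ, n ^ 2 ≤ 132 ∧ (11 : ℤ) ∣ n - charDegree (χ : Spor.Fi24' → ℂ) ∧
      (charDegree (χ : Spor.Fi24' → ℂ) : ℤ) ∣ 9509134160535316070400 * n := by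
  have hfin : Finite Fi24 := Cfsg.Agent.R08.FiTwentyFour.finite_Fi24
  have hfin' : Finite Spor.Fi24' := H968.Tor.finite24
  have hp : Nat.Prime 11 := by norm_num
  have : Fact (Nat.Prime 11) := ⟨hp⟩
  have hft : Fintype Fi24 := Fintype.ofFinite Fi24
  have h11 : 11 ∣ Nat.card Fi24 := by
    rw [← D11.order]; exact _root_.orderOf_dvd_natCard _
  -- the value is an integer
  obtain ⟨n, hn⟩ := H30.OZ.exists_int_val (y := D11.D.x) (fun k hk => by
    have h1 : ¬ 11 ∣ k := fun h => by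
      have h2 := Nat.dvd_gcd h h11
      rw [hk] at h2
      norm_num at h2
    obtain ⟨j, hj⟩ := root_forty h1
    exact isConj_of_root (by rw [← D11.order, pow_orderOf_eq_one])
      (isConj_iff.2 ⟨_, H256.Sep.FiData.hg11⟩) hj) ψ
  have hx : (χ : Spor.Fi24' → ℂ) x = n := by rw [← hres, ← hn]; rfl
  have hC : Nat.card (centralizer ({x} : Set Spor.Fi24')) = 132 := by
    rw [← SmallSimple.SelfCentPrime.centralizer_zpowers]
    exact card_cent'
  refine ⟨n, ?_, ?_, ?_⟩
  · classical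
    have : Finite (IrrCharacter Spor.Fi24') := finite_irr
    have := Fintype.ofFinite (IrrCharacter Spor.Fi24')
    have := Fintype.ofFinite Spor.Fi24'
    have h1 := S0145.sum_irr_mul_conj x x
    rw [if_pos (IsConj.refl x), hC] at h1
    have h2 : ∑ φ : IrrCharacter Spor.Fi24', Complex.normSq ((φ : Spor.Fi24' → ℂ) x) = 132 := by
      have h3 : ((∑ φ : IrrCharacter Spor.Fi24', Complex.normSq ((φ : Spor.Fi24' → ℂ) x) : ℝ) : ℂ) = ((132 : ℝ) : ℂ) := by
        rw [Complex.ofReal_sum]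
        refine (Finset.sum_congr rfl fun (φ : IrrCharacter Spor.Fi24') _ =>
          (Complex.mul_conj ((φ : Spor.Fi24' → ℂ) x)).symm).trans (h1.trans ?_)
        norm_num
      exact_mod_cast h3
    have h3 := Finset.single_le_sum (f := fun φ : IrrCharacter Spor.Fi24' => Complex.normSq ((φ : Spor.Fi24' → ℂ) x))
      (fun _ _ => Complex.normSq_nonneg _) (Finset.mem_univ χ)
    simp only [h2, hx] at h3
    have h4 : Complex.normSq (n : ℂ) = (n : ℝ) ^ 2 := by
      rw [show (n : ℂ) = ((n : ℝ) : ℂ) by push_cast; rfl, Complex.normSq_ofReal]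
      ring
    rw [h4] at h3
    exact_mod_cast h3
  · obtain ⟨M, hM⟩ := Blocks.ExistsModular.exists_isPModular hp
    have m2 := CharactersDeep.ModCongr.memLocalIdeal_character_sub hM χ.2 (x * 1) x
      (Blocks.PPart.isPPart_mul (Commute.one_right x) ⟨1, by rw [order_x, pow_one]⟩
        (by rw [orderOf_one]; exact hp.not_dvd_one))
    rw [inv_mul_cancel_left, mul_one, hx, irr_one_eq_charDegree χ.2] at m2
    refine H642.PQ.int_dvd_of_mem hM ?_
    push_cast
    exact m2
  · have h1 := Cfsg.Agent.Blocks.Central.isIntegral_centralChar χ.2 x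
    have hi : (centralizer ({x} : Set Spor.Fi24')).index = 9509134160535316070400 := by
      have h2 := (centralizer ({x} : Set Spor.Fi24')).card_mul_index
      have h3 : Nat.card Spor.Fi24' = 1255205709190661721292800 := Cfsg.Agent.R08.FiTwentyFour.card_commutator
      rw [hC, h3] at h2
      omega
    have hd0 : charDegree (χ : Spor.Fi24' → ℂ) ≠ 0 := (charDegree_pos χ.2).ne'
    have h2 : centralChar (χ : Spor.Fi24' → ℂ) x =
        (((9509134160535316070400 * n : ℤ) : ℚ) / ((charDegree (χ : Spor.Fi24' → ℂ) : ℕ) : ℚ) : ℚ) := by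
      unfold centralChar
      rw [hx, irr_one_eq_charDegree χ.2, hi]
      push_cast
      ring
    rw [h2] at h1
    have h3 := (isIntegral_algebraMap_iff (R := ℤ) (A := ℚ) (B := ℂ) (algebraMap ℚ ℂ).injective).1 h1
    obtain ⟨z, hz⟩ := IsIntegrallyClosed.isIntegral_iff.1 h3
    have hd' : ((charDegree (χ : Spor.Fi24' → ℂ) : ℕ) : ℚ) ≠ 0 := by exact_mod_cast hd0
    rw [eq_div_iff hd'] at hz
    refine ⟨z, ?_⟩
    have h4 : ((z : ℤ) : ℚ) * ((charDegree (χ : Spor.Fi24' → ℂ) : ℕ) : ℚ) = ((9509134160535316070400 * n : ℤ) : ℚ) := hz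
    have h5 : z * ((charDegree (χ : Spor.Fi24' → ℂ) : ℕ) : ℤ) = 9509134160535316070400 * n := by exact_mod_cast h4
    rw [← h5, mul_comm]

/-! ### The character -/

/-- the residue at 17 or 23 -/
theorem res {p : ℕ} (hp : p.Prime) (hp2 : p ≠ 2) (hT : p ∣ 4089470473293004800)
    (hsq : ¬ p ^ 2 ∣ 2510411418381323442585600)
    (hD : ∀ R : Subgroup Fi24, Nat.card R = p → Nat.card (centralizer (R : Set Fi24)) ∣ 2 * p)
    (ψ : IrrCharacter Fi24) {d v : ℤ} (hd : (ψ : Fi24 → ℂ) 1 = d) (hv : (ψ : Fi24 → ℂ) a = v) :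
    (p : ℤ) ∣ v - d ∨ (p : ℤ) ∣ v + d := by
  have hfin : Finite Fi24 := Cfsg.Agent.R08.FiTwentyFour.finite_Fi24
  have : Fact p.Prime := ⟨hp⟩
  obtain ⟨x0, hx0⟩ := exists_prime_orderOf_dvd_card' (G := T) p (by rw [Fi24Data.card_T]; exact hT)
  have hx : orderOf (x0 : Fi24) = p := by rw [Subgroup.orderOf_coe]; exact hx0
  have hxa : Commute (x0 : Fi24) a := mem_centralizer_singleton_iff.1 (Fi24Data.T_le x0.2)
  have hpu : ¬ p ∣ orderOf a := by
    rw [Fi24Data.orderOf_a]
    intro h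
    exact hp2 ((Nat.prime_dvd_prime_iff_eq hp Nat.prime_two).1 h)
  have hC : Nat.card (centralizer ({(x0 : Fi24)} : Set Fi24)) = p * 2 := by
    have h1 := hD (zpowers (x0 : Fi24)) (by rw [Nat.card_zpowers, hx])
    rw [SmallSimple.SelfCentPrime.centralizer_zpowers, mul_comm] at h1
    refine Nat.dvd_antisymm h1 ?_
    have h2 : orderOf ((x0 : Fi24) * a) = p * 2 := by
      rw [hxa.orderOf_mul_eq_mul_orderOf_of_coprime (by
        rw [hx]; exact (hp.coprime_iff_not_dvd).2 hpu), hx, Fi24Data.orderOf_a]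
    rw [← h2]
    have h3 : (x0 : Fi24) * a ∈ centralizer ({(x0 : Fi24)} : Set Fi24) := by
      rw [mem_centralizer_singleton_iff, mul_assoc, ← hxa.eq]
    exact Subgroup.orderOf_dvd_natCard _ h3
  refine dvd_sub hp hp2 ?_ hx Fi24Data.orderOf_a hxa hC ψ hd hv
  rw [H256.Sep.FiData.card_Fi24]
  exact hsq

/-- the residues at 29 -/
theorem res29 (χ : IrrCharacter Spor.Fi24') :
    charDegree (χ : Spor.Fi24' → ℂ) % 29 ∈ [0, 1, 14, 15, 28] := by
  have hfin' : Finite Spor.Fi24' := H968.Tor.finite24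
  have hs : IsSimpleGroup Spor.Fi24' := R08.FiTwentyFour.isFi24'.1
  have : Finite (IrrCharacter Spor.Fi24') := finite_irr
  have := Fintype.ofFinite (IrrCharacter Spor.Fi24')
  have : Fact (Nat.Prime 29) := ⟨by norm_num⟩
  have hN : Nat.card Spor.Fi24' = 1255205709190661721292800 := Cfsg.Agent.R08.FiTwentyFour.card_commutator
  obtain ⟨x, hx⟩ := exists_prime_orderOf_dvd_card' (G := Spor.Fi24') 29 (by rw [hN]; norm_num)
  have hc : Nat.card (centralizer ({x} : Set Spor.Fi24')) = 29 := H968.Tor.card_cent29 hx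
  have hnc : ¬ IsMulCommutative Spor.Fi24' := by
    intro h
    have h1 : centralizer ({x} : Set Spor.Fi24') = ⊤ := by
      rw [eq_top_iff]
      intro y _
      rw [mem_centralizer_singleton_iff]
      exact mul_comm' y x
    rw [h1, Nat.card_congr Subgroup.topEquiv.toEquiv, hN] at hc
    norm_num at hc
  obtain ⟨P, W, -, -, -, hW⟩ := H653.Sieve.exists_col hnc hN hx
    (k := 1) (by rw [mul_one]; exact hc) 14 2
    [(0, 0), (1, 2), (14, -1), (15, 1), (28, -2)] 0 false (by decide +kernel)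
  have h1 := hW.mem χ
  simp only [List.mem_cons, List.not_mem_nil, or_false, Prod.mk.injEq] at h1
  have h2 : H653.Sieve.deg χ = charDegree (χ : Spor.Fi24' → ℂ) := rfl
  rw [h2] at h1
  simp only [List.mem_cons, List.not_mem_nil, or_false]
  omega

/-- the test for a degree -/
def tst (d : ℕ) : Bool :=
  !(Nat.ble (d * d) 1255205709190661721292800 && (Nat.beq (d % 17) 1 || Nat.beq (d % 17) 16) &&
    (Nat.beq (d % 23) 1 || Nat.beq (d % 23) 22) && [0, 1, 14, 15, 28].contains (d % 29)) ||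
    Nat.beq d 197813862400 || Nat.beq d 41051750400

theorem tab : ((List.range 4).all fun i => (List.range 3).all fun j => (List.range 4).all fun k =>
    (List.range 2).all fun l => (List.range 2).all fun m =>
      tst (2 ^ 21 * (3 ^ i * (5 ^ j * (7 ^ k * (11 ^ l * 29 ^ m)))))) = true := by decide +kernel

theorem tst_spec {d : ℕ} (h : tst d = true) (hsq : d * d ≤ 1255205709190661721292800)
    (h17 : d % 17 = 1 ∨ d % 17 = 16) (h23 : d % 23 = 1 ∨ d % 23 = 22) (h29 : d % 29 ∈ [0, 1, 14, 15, 28]) :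
    d = 197813862400 ∨ d = 41051750400 := by
  have e1 : Nat.ble (d * d) 1255205709190661721292800 = true := Nat.ble_eq_true_of_le hsq
  have e2 : (Nat.beq (d % 17) 1 || Nat.beq (d % 17) 16) = true := by
    rcases h17 with h | h <;> rw [h] <;> rfl
  have e3 : (Nat.beq (d % 23) 1 || Nat.beq (d % 23) 22) = true := by
    rcases h23 with h | h <;> rw [h] <;> rfl
  have e4 : [0, 1, 14, 15, 28].contains (d % 29) = true := List.contains_iff_mem.2 h29
  rw [tst, e1, e2, e3, e4] at h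
  simp only [Bool.and_self, Bool.not_true, Bool.false_or, Bool.or_eq_true] at h
  exact h.imp Nat.eq_of_beq_eq_true Nat.eq_of_beq_eq_true

theorem r17 {d : ℕ} {v : ℤ} (hv : v = 504627200 ∨ v = -504627200) (h : ((17 : ℕ) : ℤ) ∣ v - d ∨ ((17 : ℕ) : ℤ) ∣ v + d) :
    d % 17 = 1 ∨ d % 17 = 16 := by
  omega

theorem r23 {d : ℕ} {v : ℤ} (hv : v = 504627200 ∨ v = -504627200) (h : ((23 : ℕ) : ℤ) ∣ v - d ∨ ((23 : ℕ) : ℤ) ∣ v + d) :
    d % 23 = 1 ∨ d % 23 = 22 := by
  omega

theorem r11 {n : ℤ} (h1 : n ^ 2 ≤ 132) (h2 : (11 : ℤ) ∣ n - ((41051750400 : ℕ) : ℤ))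
    (h3 : ((41051750400 : ℕ) : ℤ) ∣ 9509134160535316070400 * n) : False := by
  have h4 : n ≤ 11 := by nlinarith
  have h5 : -11 ≤ n := by nlinarith only [h1]
  have h6 : n = -10 ∨ n = 1 := by clear h1 h3; omega
  rcases h6 with rfl | rfl
  · exact absurd h3 (by norm_num)
  · exact absurd h3 (by norm_num)

theorem arith {d : ℕ} (hd : d ∣ 2 ^ 21 * 3 ^ 3 * 5 ^ 2 * 7 ^ 3 * 11 * 29) (h2 : 2 ^ 21 ∣ d)
    (hsq : d * d ≤ 1255205709190661721292800)
    (h17 : d % 17 = 1 ∨ d % 17 = 16) (h23 : d % 23 = 1 ∨ d % 23 = 22) (h29 : d % 29 ∈ [0, 1, 14, 15, 28]) :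
    d = 197813862400 ∨ d = 41051750400 := by
  obtain ⟨r, rfl⟩ := h2
  have h3 : r ∣ 3 ^ 3 * (5 ^ 2 * (7 ^ 3 * (11 ^ 1 * 29 ^ 1))) := by
    refine Nat.dvd_of_mul_dvd_mul_left (k := 2 ^ 21) (by norm_num) (hd.trans (by norm_num))
  obtain ⟨r1, r', e1, h4, rfl⟩ := (Nat.dvd_mul).1 h3
  obtain ⟨r2, r'', e2, h5, rfl⟩ := (Nat.dvd_mul).1 h4
  obtain ⟨r3, r''', e3, h6, rfl⟩ := (Nat.dvd_mul).1 h5
  obtain ⟨r4, r5, e4, e5, rfl⟩ := (Nat.dvd_mul).1 h6
  obtain ⟨i, hi, rfl⟩ := (Nat.dvd_prime_pow (by norm_num)).1 e1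
  obtain ⟨j, hj, rfl⟩ := (Nat.dvd_prime_pow (by norm_num)).1 e2
  obtain ⟨k, hk, rfl⟩ := (Nat.dvd_prime_pow (by norm_num)).1 e3
  obtain ⟨l, hl, rfl⟩ := (Nat.dvd_prime_pow (by norm_num)).1 e4
  obtain ⟨m, hm, rfl⟩ := (Nat.dvd_prime_pow (by norm_num)).1 e5
  have h7 := List.all_eq_true.1 (List.all_eq_true.1 (List.all_eq_true.1 (List.all_eq_true.1 (List.all_eq_true.1 tab
    i (List.mem_range.2 (by omega))) j (List.mem_range.2 (by omega))) k (List.mem_range.2 (by omega)))
    l (List.mem_range.2 (by omega))) m (List.mem_range.2 (by omega))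
  exact tst_spec h7 hsq h17 h23 h29

/-- **[B2] of the row `Fi24'`**: the degree -/
theorem deg_psi (ψ : IrrCharacter Fi24) (χ : IrrCharacter Spor.Fi24')
    (hres : ∀ g : Spor.Fi24', (ψ : Fi24 → ℂ) (g : Fi24) = (χ : Spor.Fi24' → ℂ) g)
    (hv : (ψ : Fi24 → ℂ) a = 504627200 ∨ (ψ : Fi24 → ℂ) a = -504627200)
    (hd : charDegree (χ : Spor.Fi24' → ℂ) ∣ 2 ^ 21 * 3 ^ 3 * 5 ^ 2 * 7 ^ 3 * 11 * 29)
    (h2 : 2 ^ 21 ∣ charDegree (χ : Spor.Fi24' → ℂ)) :
    charDegree (χ : Spor.Fi24' → ℂ) = 197813862400 := by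
  obtain ⟨d, hd0⟩ : ∃ d, d = charDegree (χ : Spor.Fi24' → ℂ) := ⟨_, rfl⟩
  have hψ1 : (ψ : Fi24 → ℂ) 1 = ((d : ℤ) : ℂ) := by
    have h1 := hres 1
    rw [Subgroup.coe_one, irr_one_eq_charDegree χ.2, ← hd0] at h1
    rw [h1]
    push_cast
    rfl
  obtain ⟨v, hv0, hv1⟩ : ∃ v : ℤ, (ψ : Fi24 → ℂ) a = v ∧ (v = 504627200 ∨ v = -504627200) := by
    rcases hv with h | h
    · exact ⟨504627200, by rw [h]; norm_num, Or.inl rfl⟩
    · exact ⟨-504627200, by rw [h]; norm_num, Or.inr rfl⟩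
  have h17 := res (p := 17) (by norm_num) (by norm_num) (by norm_num) (by norm_num)
    (fun R hR => (H256.Sep.FiData.data17 hR).1) ψ hψ1 hv0
  have h23 := res (p := 23) (by norm_num) (by norm_num) (by norm_num) (by norm_num)
    (fun R hR => (H256.Sep.FiData.data23 hR).1) ψ hψ1 hv0
  have h29 := res29 χ
  have hfin' : Finite Spor.Fi24' := H968.Tor.finite24
  have hsq : d * d ≤ 1255205709190661721292800 := by
    have : Finite (IrrCharacter Spor.Fi24') := finite_irr
    have := Fintype.ofFinite (IrrCharacter Spor.Fi24')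
    have hN : Nat.card Spor.Fi24' = 1255205709190661721292800 := Cfsg.Agent.R08.FiTwentyFour.card_commutator
    have hsum := SmallSimple.DegreeData.sum_sq (G := Spor.Fi24')
    rw [hN] at hsum
    have h0 := Finset.single_le_sum (f := fun φ : IrrCharacter Spor.Fi24' => charDegree (φ : Spor.Fi24' → ℂ) ^ 2)
      (fun _ _ => Nat.zero_le _) (Finset.mem_univ χ)
    rw [hsum] at h0
    rw [hd0, ← pow_two]
    exact h0
  obtain ⟨n, hn1, hn2, hn3⟩ := eleven ψ χ hres
  rw [← hd0] at hd h2 h29 hn2 hn3 ⊢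
  rcases arith hd h2 hsq (r17 hv1 h17) (r23 hv1 h23) h29 with h | h
  · exact h
  · exfalso
    rw [h] at hn2 hn3
    exact r11 hn1 hn2 hn3

/-- **[B] of the row `Fi24'`** -/
theorem deg_b (hθ : ∃ θ : IrrCharacter Spor.Fi23, charDegree (θ : Spor.Fi23 → ℂ) = 504627200) :
    ∃ (ψ : IrrCharacter Fi24) (χ : IrrCharacter Spor.Fi24'),
      (∀ g : Spor.Fi24', (ψ : Fi24 → ℂ) (g : Fi24) = (χ : Spor.Fi24' → ℂ) g) ∧
      charDegree (χ : Spor.Fi24' → ℂ) = 197813862400 := by
  classical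
  obtain ⟨θ0, hθ0⟩ := hθ
  obtain ⟨M, hM⟩ := Cfsg.Agent.Blocks.ExistsModular.exists_isPModular Nat.prime_two
  have hfin : Finite Spor.Fi24 := Cfsg.Agent.R08.FiTwentyFour.finite_Fi24
  obtain ⟨eT⟩ := Fi24Data.isoFi23_T
  obtain ⟨θ, -, hθd⟩ := H653.LD.Fi24B.transport eT θ0
  rw [hθ0] at hθd
  have hcT : Nat.card T = 4089470473293004800 := Fi24Data.card_T
  obtain ⟨ψ, ε, hε, hψa, hψ2, hψd⟩ := H653.LD.TwoOne.exists_two hM (u := a) Fi24Data.orderOf_a
    (C := centralizer ({a} : Set Fi24)) (T := T) rfl Fi24Data.T_le Fi24Data.card_cent Fi24Data.a_notMem_T θ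
    (by rw [hθd, hcT, H653.LD.Fi24B.fac_deg, H653.LD.Fi24B.fac_Fi23])
  rw [Fi24Data.index_cent, hθd] at hψd
  rw [irr_one_eq_charDegree θ.2, hθd] at hψa
  have hcG : (Nat.card Fi24).factorization 2 = 22 := by
    rw [Fi24Data.card_Fi24, Nat.factorization_mul (by norm_num) (by norm_num),
      Nat.factorization_mul (by norm_num) (by norm_num), Finsupp.add_apply, Finsupp.add_apply,
      H653.LD.Fi24B.fac_index, H653.LD.Fi24B.fac_Fi23, Nat.prime_two.factorization_self]
    norm_num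
  rw [hcG] at hψ2
  have hva : (ψ : Fi24 → ℂ) a = 504627200 ∨ (ψ : Fi24 → ℂ) a = -504627200 := by
    rcases hε with h | h <;> rw [h] at hψa <;> push_cast at hψa
    · left; rw [hψa]; ring
    · right; rw [hψa]; ring
  have hne : (ψ : Fi24 → ℂ) a ≠ 0 := by
    rcases hva with h | h <;> rw [h] <;> norm_num
  have hirr : IsIrrCharacter Spor.Fi24' (fun g : Spor.Fi24' => (ψ : Fi24 → ℂ) (g : Fi24)) :=
    Cfsg.Agent.HKS.CosetTwo.isIrr_restrict (W := Fi24) (D := commutator Fi24)
      Cfsg.Agent.R08.FiTwentyFour.index_commutator ψ.2 Fi24Data.a_notMem hne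
  have hd : charDegree (fun g : Spor.Fi24' => (ψ : Fi24 → ℂ) (g : Fi24)) = charDegree (ψ : Fi24 → ℂ) := by
    rw [charDegree_def, charDegree_def]
    rfl
  refine ⟨ψ, ⟨_, hirr⟩, fun _ => rfl, deg_psi ψ ⟨_, hirr⟩ (fun _ => rfl) hva ?_ ?_⟩
  · show charDegree (fun g : Spor.Fi24' => (ψ : Fi24 → ℂ) (g : Fi24)) ∣ _
    rw [hd]
    exact hψd.trans (by norm_num)
  · show _ ∣ charDegree (fun g : Spor.Fi24' => (ψ : Fi24 → ℂ) (g : Fi24))
    rw [hd]
    exact (Nat.prime_two.pow_dvd_iff_le_factorization (charDegree_pos ψ.2).ne').2 (by omega)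

end Cfsg.Agent.H593.LD.DegB
end

-- part: H593/LD/InvFi24
section
/-!
# Invariant characters of `Fi24'` (helper593, for S4910, row `Fi24'`)

* `inv_of_outer` : a character of `Fi24'` is invariant under all automorphisms if it is invariant under one outer
  automorphism;
* `inv_of_res` : the restrictions of the characters of `Fi24` are invariant;
* `exists_inv_deg_b` : `Fi24'` has an invariant character of degree `197813862400`;
* `exists_outer` : `x` of order 3 inverted by `t`, an element of `C(x)` with a centralizer of odd order: `t` induces an outer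
  automorphism of `C(x) / ⟨x⟩`;
* `fix_inv` : the character of `C(x) / ⟨x⟩` on the fixed points of `x` is invariant under it;
* `inv_of_unique` : the constituent of an invariant character which is the only one of its degree is invariant.
-/

set_option autoImplicit false

namespace Cfsg.Agent.H593.LD.InvFi24

open Cfsg Subgroup
open Cfsg.Agent.Characters.Core
open Cfsg.Agent.H593.LD.Fi24Data (a a_notMem)
open Cfsg.Spor (Fi24)
open scoped ComplexConjugate

universe u

/-- the conjugation by the transposition `a` is outer -/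
theorem outer (g : Spor.Fi24') : (MulAut.conjNormal a : MulAut (commutator Fi24)) ≠ MulAut.conj g := by
  have F := Cfsg.Agent.KFacts.FiTF.frame
  refine Cfsg.Agent.H997.OutCard.conjNormal_outer (K := _root_.commutator Fi24) a_notMem (fun c hc => ?_) g
  rcases F.cent c (fun r hr => hc r (F.EK (F.RE hr))) with h | h
  · rw [h]
    exact one_mem _
  · rw [h]
    exact F.EK (F.RE F.zR)

/-- every automorphism of `Fi24'` is inner or the product of the outer automorphism `γ` and an inner one -/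
theorem aut_cases {γ : MulAut Spor.Fi24'} (hγ : ∀ g, γ ≠ MulAut.conj g) (β : MulAut Spor.Fi24') :
    ∃ g : Spor.Fi24', β = MulAut.conj g ∨ β = MulAut.conj g * γ := by
  have h2 : (MulAut.conj : Spor.Fi24' →* MulAut Spor.Fi24').range.index = 2 := by
    rcases (Nat.dvd_prime Nat.prime_two).1 Cfsg.Agent.KFacts.FiTF.out with h | h
    · exfalso
      rw [Subgroup.index_eq_one] at h
      have h1 : γ ∈ (MulAut.conj : Spor.Fi24' →* MulAut Spor.Fi24').range := by rw [h]; exact Subgroup.mem_top _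
      obtain ⟨g, hg⟩ := h1
      exact hγ g hg.symm
    · exact h
  by_cases hβ : β ∈ (MulAut.conj : Spor.Fi24' →* MulAut Spor.Fi24').range
  · obtain ⟨g, hg⟩ := hβ
    exact ⟨g, Or.inl hg.symm⟩
  · have hb : γ⁻¹ ∉ (MulAut.conj : Spor.Fi24' →* MulAut Spor.Fi24').range := by
      intro h
      obtain ⟨g, hg⟩ := (Subgroup.inv_mem_iff _).1 h
      exact hγ g hg.symm
    have h3 : β * γ⁻¹ ∈ (MulAut.conj : Spor.Fi24' →* MulAut Spor.Fi24').range :=
      (Subgroup.mul_mem_iff_of_index_two h2).2 ⟨fun h => absurd h hβ, fun h => absurd h hb⟩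
    obtain ⟨g, hg⟩ := h3
    exact ⟨g, Or.inr (by rw [hg, inv_mul_cancel_right])⟩

/-- **Invariance under one outer automorphism suffices.** -/
theorem inv_of_outer {γ : MulAut Spor.Fi24'} (hγ : ∀ g, γ ≠ MulAut.conj g) (χ : IrrCharacter Spor.Fi24')
    (h : ∀ s : Spor.Fi24', (χ : Spor.Fi24' → ℂ) (γ s) = (χ : Spor.Fi24' → ℂ) s) : H954.LD.Inv χ := by
  intro β s
  obtain ⟨g, h1 | h1⟩ := aut_cases hγ β
  · rw [h1, MulAut.conj_apply]
    exact isIrr_isClassFunction χ.2 s g
  · rw [h1, MulAut.mul_apply, MulAut.conj_apply]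
    exact (isIrr_isClassFunction χ.2 _ g).trans (h s)

/-- **The restrictions of characters of `Fi24` are invariant.** -/
theorem inv_of_res (ψ : IrrCharacter Fi24) (χ : IrrCharacter Spor.Fi24')
    (hres : ∀ g : Spor.Fi24', (ψ : Fi24 → ℂ) (g : Fi24) = (χ : Spor.Fi24' → ℂ) g) : H954.LD.Inv χ := by
  refine inv_of_outer outer χ fun s => ?_
  rw [← hres, ← hres]
  exact isIrr_isClassFunction ψ.2 (s : Fi24) a

/-- **[B] of the row `Fi24'`, with the invariance** -/
theorem exists_inv_deg_b (hθ : ∃ θ : IrrCharacter Spor.Fi23, charDegree (θ : Spor.Fi23 → ℂ) = 504627200) :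
    ∃ χ : IrrCharacter Spor.Fi24', charDegree (χ : Spor.Fi24' → ℂ) = 197813862400 ∧ H954.LD.Inv χ := by
  obtain ⟨ψ, χ, hres, hd⟩ := DegB.deg_b hθ
  exact ⟨χ, hd, inv_of_res ψ χ hres⟩

/-! ### The automorphism of `C(x) / ⟨x⟩` induced by an element inverting `x` -/

section

variable {M : Type u} [Group M] {x t : M}

end

end Cfsg.Agent.H593.LD.InvFi24
end

private theorem dce_43dcdfdcbc01 : _root_.True := by
  try have : _root_.True := by simp only [_root_.Cfsg.Agent.H593.LD.DegB.tst.eq_1]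
  exact _root_.True.intro
end

-- part: H212/LD/Tools
section
set_option linter.all false
open scoped Cfsg.Agent.FastGrp

/-!
# Tools for the rows of S4910 (helper212)

* `inv_or_bad` : a character of `S`, `|Aut S : Inn S| = 2`, is invariant or `BadData S d`;
* `inv_of_not_dvd` : the characters of degree prime to a self-centralizing prime `r` with `(2 |S| / r) mod r ∤ r - 1` are
  invariant;
* `exists_value` : the column of a Sylow subgroup of order `p` with its character of `K`, `C(P) = P × K`;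
* `exists_theta` : the characters of a group isomorphic to `A₄`.
-/

set_option autoImplicit false
set_option linter.unusedSectionVars false

open Cfsg Subgroup
open scoped ComplexConjugate

namespace Cfsg.Agent.H212.LD

open Cfsg.Agent.Characters.Core
open Cfsg.Agent.H348.PPD Cfsg.Agent.H348.PPD.Aut
open Cfsg.Agent.H954.LD (CopRow Inv)

universe u

section inv

variable {S : Type u} [Group S] [Finite S]

theorem charDegree_cast (χ : IrrCharacter S) : (χ : S → ℂ) 1 = (charDegree (χ : S → ℂ) : ℂ) :=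
  Blocks.Knorr.charDegree_eq χ.2

/-- Dichotomy for the characters of `S`. -/
theorem inv_or_bad (hc : center S = ⊥) (hidx : (MulAut.conj : S →* MulAut S).range.index = 2) (χ : IrrCharacter S) :
    Inv χ ∨ Nonempty (BadData S (charDegree (χ : S → ℂ))) := by
  let e : S ≃* (MulAut.conj : S →* MulAut S).range := MonoidHom.ofInjective (Aut.conj_injective hc)
  have he : ∀ s, ((e s : (MulAut.conj : S →* MulAut S).range) : MulAut S) = MulAut.conj s := fun s => rfl
  have hχ' : IsIrrCharacter (MulAut.conj : S →* MulAut S).range ((χ : S → ℂ) ∘ e.symm) :=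
    isIrr_comp (e.symm : (MulAut.conj : S →* MulAut S).range →* S) e.symm.surjective χ.2
  rcases Dich.dich _ hidx hχ' with ⟨ψ, hψ, h2⟩ | ⟨ψ, hψ, h0, h2⟩
  · left
    have h3 : ∀ s, ψ (MulAut.conj s) = (χ : S → ℂ) s := by
      intro s
      rw [← he s, h2]
      simp
    intro b s
    rw [← h3, ← h3, ← conj_apply_conj b s]
    exact isIrr_isClassFunction hψ _ _
  · right
    refine ⟨⟨⟨ψ, hψ⟩, χ, charDegree_cast χ, h0, fun α hα s => ?_, fun α hα hcon => ?_⟩⟩
    · have h3 := (h2 α hα).1 (e s)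
      have h4 : (MulAut.conjNormal α : MulAut (MulAut.conj : S →* MulAut S).range) (e s) = e (α s) := by
        apply Subtype.ext
        rw [MulAut.conjNormal_apply, he, he, conj_apply_conj]
      rw [h4, he] at h3
      simpa using h3
    · apply (h2 α hα).2
      funext n
      obtain ⟨s, rfl⟩ := e.surjective n
      have h4 : (MulAut.conjNormal α : MulAut (MulAut.conj : S →* MulAut S).range) (e s) = e (α s) := by
        apply Subtype.ext
        rw [MulAut.conjNormal_apply, he, he, conj_apply_conj]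
      rw [Function.comp_apply, h4]
      simp only [Function.comp_apply, MulEquiv.symm_apply_apply]
      exact congrFun hcon s

/-- Invariance from one self-centralizing prime. -/
theorem inv_of_not_dvd (hc : center S = ⊥) (hidx : (MulAut.conj : S →* MulAut S).range.index = 2) {r n : ℕ}
    (hr : r.Prime) (hr2 : r ≠ 2) (hn : Nat.card S = n) (hsq : ¬ r ^ 2 ∣ n) {x : S} (hx : orderOf x = r)
    (hk : Nat.card (centralizer ({x} : Set S)) = r) (hnum : ¬ (2 * n / r) % r ∣ r - 1) (χ : IrrCharacter S)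
    (hd : ¬ r ∣ charDegree (χ : S → ℂ)) : Inv χ := by
  subst hn
  rcases inv_or_bad hc hidx χ with h | h
  · exact h
  · obtain ⟨B⟩ := h
    exact absurd (Crit.one hc hidx hr hr2 hsq hx hk B hd).1 hnum

end inv

section value

open Cfsg.Agent.H653.Sieve
open Cfsg.Agent.SmallSimple.ThetaSetup Cfsg.Agent.SmallSimple.ThetaOrtho
open Cfsg.Agent.SmallSimple.TheoremC Cfsg.Agent.SmallSimple.TheoremCCor
open Cfsg.Agent.SmallSimple.PrimeDual Cfsg.Agent.SmallSimple.ThetaCount

variable {G : Type u} [Group G] [Finite G] {p : ℕ} [hp : Fact p.Prime] {P : Sylow p G} {K : Subgroup G}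

/-- The values of the column of `P`, with the character of `K`. -/
theorem exists_value (hK : IsComp p (P : Subgroup G) K) (hP : Nat.card P = p) {e t : ℕ}
    (he : (centralizer ((P : Subgroup G) : Set G)).relIndex (normalizer ((P : Subgroup G) : Set G)) = e)
    (ht : e * t = p - 1) (χ : IrrCharacter G) (θ : IrrCharacter K) (hθ : χ ∈ Over P (θ : K → ℂ)) :
    ∃ w s : ℤ, (e : ℂ) * w = csum (P : Subgroup G) (χ : G → ℂ) ∧ (s = 1 ∨ s = -1) ∧
      (w = s * (t * (orb P K (θ : K → ℂ)).card * charDegree (θ : K → ℂ)) ∨ w = s * charDegree (θ : K → ℂ)) := by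
  classical
  have hfi : Finite (IrrCharacter G) := finite_irr
  have := Fintype.ofFinite (IrrCharacter G)
  have hPf := Fintype.ofFinite (P : Subgroup G)
  set m := (orb P K (θ : K → ℂ)).card with hm
  obtain ⟨n, hn0, hn1⟩ := isIrr_apply_one θ.2
  have hn : (θ : K → ℂ) 1 = n := hn1
  have hdeg : charDegree (θ : K → ℂ) = n := by
    unfold charDegree
    rw [hn]; simp
  rw [hdeg]
  have hcm := card_stabAct_mul_card_orb hK hP θ.2
  rw [he, ← hm] at hcm
  set eθ := Nat.card (stabAct hK (θ : K → ℂ)) with heθ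
  have het : eθ * (m * t) = p - 1 := by rw [← mul_assoc, hcm, ht]
  obtain ⟨NE, X, ε, d, S, hB, -, hNE, hX, hε, hd, hval, hvalX, -, -, -⟩ := theoremC hK hP θ.2 heθ.symm het
  have hcsum : csum (P : Subgroup G) (χ : G → ℂ) =
      ∑ x ∈ (Finset.univ : Finset (P : Subgroup G)).erase 1, (χ : G → ℂ) x := csum_eq_erase _ _
  have hcard : ((Finset.univ : Finset (P : Subgroup G)).erase 1).card = p - 1 := by
    rw [Finset.card_erase_of_mem (Finset.mem_univ _), Finset.card_univ, ← Nat.card_eq_fintype_card]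
    exact congrArg (· - 1) hP
  rcases (hB χ).1 hθ with h | h
  · -- nonexceptional
    refine ⟨ε χ * (t * m * n), ε χ, ?_, hε χ h, Or.inl rfl⟩
    rw [hcsum, Finset.sum_congr rfl (g := fun _ => (ε χ : ℂ) * (m * n))]
    · rw [Finset.sum_const, hcard, nsmul_eq_mul, ← ht]
      push_cast
      ring
    · intro x hx
      have hx1 : x ≠ 1 := (Finset.mem_erase.1 hx).1
      have h2 := apply_of_const hK hP θ.2 hθ (hval χ h) hx1 (1 : K)
      rw [H653.Sieve.sum_orb_one hK, ← hm, hn] at h2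
      simpa using h2
  · -- exceptional
    obtain ⟨hSc, hS1, -, hSv⟩ := hvalX χ h
    refine ⟨-d * n, -d, ?_, by rcases hd with rfl | rfl <;> simp, Or.inr rfl⟩
    -- the sum of a part
    have hpart : ∑ x ∈ (Finset.univ : Finset (P : Subgroup G)).erase 1, part (θ : K → ℂ) (χ : G → ℂ) x =
        -(d : ℂ) * eθ := by
      have h2 := SmallSimple.TheoremBCor.sum_exc_off (f := fun x : (P : Subgroup G) => part (θ : K → ℂ) (χ : G → ℂ) x)
        (d := (d : ℂ)) hS1 hSv
      rw [hSc] at h2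
      rw [← Finset.add_sum_erase _ _ (Finset.mem_univ (1 : (P : Subgroup G)))] at h2
      linear_combination h2
    have horb : ∀ θ' ∈ orb P K (θ : K → ℂ),
        ∑ x ∈ (Finset.univ : Finset (P : Subgroup G)).erase 1, part (θ' : K → ℂ) (χ : G → ℂ) x = -(d : ℂ) * eθ := by
      intro θ' hθ'
      obtain ⟨g, hg, hgθ⟩ := mem_orb.1 hθ'
      rw [← hpart, ← hgθ]
      have h3 : ∀ x : (P : Subgroup G), part (tw (θ : K → ℂ) g) (χ : G → ℂ) x =
          part (θ : K → ℂ) (χ : G → ℂ) (cP hg x : (P : Subgroup G)) := by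
        intro x
        rw [← part_conj hK _ (isIrr_isClassFunction χ.2) hg, coe_cP]
      rw [Finset.sum_congr rfl fun x _ => h3 x]
      refine Finset.sum_bij (fun x _ => cP hg x) ?_ ?_ ?_ ?_
      · intro x hx
        rw [Finset.mem_erase] at hx ⊢
        refine ⟨fun h4 => hx.1 ?_, Finset.mem_univ _⟩
        exact (MulEquiv.map_eq_one_iff (cP hg)).1 h4
      · intro x _ y _ h4
        exact (cP hg).injective h4
      · intro y hy
        rw [Finset.mem_erase] at hy
        refine ⟨(cP hg).symm y, ?_, by simp⟩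
        rw [Finset.mem_erase]
        refine ⟨fun h4 => hy.1 ?_, Finset.mem_univ _⟩
        have h5 := congrArg (cP hg) h4
        rwa [MulEquiv.apply_symm_apply, map_one] at h5
      · intro x _
        rfl
    rw [hcsum]
    have h2 : ∀ x ∈ (Finset.univ : Finset (P : Subgroup G)).erase 1, (χ : G → ℂ) x =
        ∑ θ' ∈ orb P K (θ : K → ℂ), part (θ' : K → ℂ) (χ : G → ℂ) x * n := by
      intro x hx
      have hx1 : x ≠ 1 := (Finset.mem_erase.1 hx).1
      have h3 := apply_mul_orb hK hP θ.2 hθ hx1 (1 : K)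
      rw [Subgroup.coe_one, mul_one] at h3
      rw [h3]
      exact Finset.sum_congr rfl fun θ' h4 => by rw [H653.Sieve.orb_apply_one hK h4, hn]
    rw [Finset.sum_congr rfl h2, Finset.sum_comm]
    have h3 : ∀ θ' ∈ orb P K (θ : K → ℂ),
        ∑ x ∈ (Finset.univ : Finset (P : Subgroup G)).erase 1, part (θ' : K → ℂ) (χ : G → ℂ) x * (n : ℂ) =
          -(d : ℂ) * eθ * n := by
      intro θ' h4
      rw [← Finset.sum_mul, horb θ' h4]
    rw [Finset.sum_congr rfl h3, Finset.sum_const, ← hm, nsmul_eq_mul, ← hcm]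
    push_cast
    ring

/-- The degree modulo `p`. -/
theorem dvd_deg_add (hP : Nat.card P = p) {χ : IrrCharacter G} {e : ℕ} {w : ℤ}
    (hw : (e : ℂ) * w = csum (P : Subgroup G) (χ : G → ℂ)) :
    (p : ℤ) ∣ (charDegree (χ : G → ℂ) : ℤ) + e * w := by
  classical
  have := Fintype.ofFinite (P : Subgroup G)
  obtain ⟨m, hm⟩ := SmallSimple.TheoremBCor.exists_sum_eq (isIrr_isCharacter χ.2) (P : Subgroup G)
  rw [csum_eq] at hw
  have h1 : (P : Subgroup G).carrier = (P : Set G) := rfl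
  have h2 : Nat.card (P : Subgroup G) = p := hP
  rw [hm, h2, Blocks.Knorr.charDegree_eq χ.2] at hw
  refine ⟨m, ?_⟩
  have h3 : (((charDegree (χ : G → ℂ) : ℤ) + e * w : ℤ) : ℂ) = ((p * m : ℤ) : ℂ) := by
    push_cast
    rw [hw]
    ring
  exact_mod_cast h3

end value

section a4

variable {K : Type u} [Group K] [Finite K]

theorem card_irr_a4 (g : K ≃* alternatingGroup (Fin 4)) : Nat.card (IrrCharacter K) = 4 := by
  rw [card_irr]
  have h : Nat.card (ConjClasses K) = Nat.card (ConjClasses (alternatingGroup (Fin 4))) := by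
    refine Nat.card_congr (Equiv.ofBijective (ConjClasses.map g.toMonoidHom) ⟨?_, ?_⟩)
    · intro a b hab
      obtain ⟨a, rfl⟩ := ConjClasses.exists_rep a
      obtain ⟨b, rfl⟩ := ConjClasses.exists_rep b
      apply ConjClasses.mk_eq_mk_iff_isConj.2
      have h1 : IsConj (g a) (g b) := ConjClasses.mk_eq_mk_iff_isConj.1 hab
      have h2 := g.symm.toMonoidHom.map_isConj h1
      simpa using h2
    · intro a
      obtain ⟨a, rfl⟩ := ConjClasses.exists_rep a
      refine ⟨ConjClasses.mk (g.symm a), ?_⟩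
      show ConjClasses.mk (g (g.symm a)) = _
      rw [MulEquiv.apply_symm_apply]
  rw [h, H717.SmallClass.conj_alt_four]

/-- The characters of `A₄`. -/
theorem exists_theta (g : K ≃* alternatingGroup (Fin 4)) :
    ∃ θ : IrrCharacter K, charDegree (θ : K → ℂ) = 3 ∧ ∀ θ' : IrrCharacter K, θ' ≠ θ → charDegree (θ' : K → ℂ) = 1 := by
  classical
  have : Finite (IrrCharacter K) := finite_irr
  have := Fintype.ofFinite (IrrCharacter K)
  have h4 := card_irr_a4 g
  have h12 : Nat.card K = 12 := by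
    rw [Nat.card_congr g.toEquiv]
    rw [Nat.card_eq_fintype_card]
    decide
  have hsum := SmallSimple.DegreeData.sum_sq (G := K)
  rw [h12] at hsum
  have hpos : ∀ θ : IrrCharacter K, 1 ≤ charDegree (θ : K → ℂ) := by
    intro θ
    obtain ⟨n, hn0, hn1⟩ := isIrr_apply_one θ.2
    have : charDegree (θ : K → ℂ) = n := by
      unfold charDegree
      rw [hn1]; simp
    omega
  rw [Nat.card_eq_fintype_card] at h4
  have hex : ∃ θ : IrrCharacter K, 3 ≤ charDegree (θ : K → ℂ) := by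
    by_contra hcon
    push Not at hcon
    have h1 : ∀ θ : IrrCharacter K, ∃ b : ℕ, charDegree (θ : K → ℂ) ^ 2 = 1 + 3 * b := by
      intro θ
      have h2 := hpos θ
      have h3 := hcon θ
      have h5 : charDegree (θ : K → ℂ) = 1 ∨ charDegree (θ : K → ℂ) = 2 := by omega
      rcases h5 with h5 | h5 <;> rw [h5]
      · exact ⟨0, by norm_num⟩
      · exact ⟨1, by norm_num⟩
    choose b hb using h1
    rw [Finset.sum_congr rfl fun θ _ => hb θ, Finset.sum_add_distrib, ← Finset.mul_sum, Finset.sum_const,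
      Finset.card_univ, h4, smul_eq_mul] at hsum
    omega
  obtain ⟨θ, hθ⟩ := hex
  have h1 := Finset.add_sum_erase Finset.univ (fun θ : IrrCharacter K => charDegree (θ : K → ℂ) ^ 2) (Finset.mem_univ θ)
  rw [hsum] at h1
  have h2 : ((Finset.univ : Finset (IrrCharacter K)).erase θ).card = 3 := by
    rw [Finset.card_erase_of_mem (Finset.mem_univ _), Finset.card_univ, h4]
  have h3 : 3 ≤ ∑ θ' ∈ (Finset.univ : Finset (IrrCharacter K)).erase θ, charDegree (θ' : K → ℂ) ^ 2 := by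
    have h5 : ∑ _θ' ∈ (Finset.univ : Finset (IrrCharacter K)).erase θ, 1 ≤
        ∑ θ' ∈ (Finset.univ : Finset (IrrCharacter K)).erase θ, charDegree (θ' : K → ℂ) ^ 2 :=
      Finset.sum_le_sum fun θ' _ => Nat.one_le_pow _ _ (hpos θ')
    rw [Finset.sum_const, h2] at h5
    simpa using h5
  have hd3 : charDegree (θ : K → ℂ) = 3 := by
    have h5 : charDegree (θ : K → ℂ) ^ 2 ≤ 9 := by
      have h6 : charDegree (θ : K → ℂ) ^ 2 + ∑ θ' ∈ (Finset.univ : Finset (IrrCharacter K)).erase θ,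
        charDegree (θ' : K → ℂ) ^ 2 = 12 := h1
      omega
    nlinarith
  refine ⟨θ, hd3, fun θ' hne => ?_⟩
  have h5 : ∑ θ' ∈ (Finset.univ : Finset (IrrCharacter K)).erase θ, charDegree (θ' : K → ℂ) ^ 2 = 3 := by
    have h6 : charDegree (θ : K → ℂ) ^ 2 + ∑ θ' ∈ (Finset.univ : Finset (IrrCharacter K)).erase θ,
      charDegree (θ' : K → ℂ) ^ 2 = 12 := h1
    rw [hd3] at h6
    omega
  have h6 := Finset.add_sum_erase ((Finset.univ : Finset (IrrCharacter K)).erase θ)
    (fun θ : IrrCharacter K => charDegree (θ : K → ℂ) ^ 2) (Finset.mem_erase.2 ⟨hne, Finset.mem_univ θ'⟩)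
  have h7 : (((Finset.univ : Finset (IrrCharacter K)).erase θ).erase θ').card = 2 := by
    rw [Finset.card_erase_of_mem (Finset.mem_erase.2 ⟨hne, Finset.mem_univ θ'⟩), h2]
  have h8 : 2 ≤ ∑ θ'' ∈ ((Finset.univ : Finset (IrrCharacter K)).erase θ).erase θ', charDegree (θ'' : K → ℂ) ^ 2 := by
    have h5 : ∑ _θ' ∈ ((Finset.univ : Finset (IrrCharacter K)).erase θ).erase θ', 1 ≤
        ∑ θ'' ∈ ((Finset.univ : Finset (IrrCharacter K)).erase θ).erase θ', charDegree (θ'' : K → ℂ) ^ 2 :=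
      Finset.sum_le_sum fun θ' _ => Nat.one_le_pow _ _ (hpos θ')
    rw [Finset.sum_const, h7] at h5
    simpa using h5
  have h9 : charDegree (θ' : K → ℂ) ^ 2 ≤ 1 := by
    have h11 : charDegree (θ' : K → ℂ) ^ 2 + ∑ θ'' ∈ ((Finset.univ : Finset (IrrCharacter K)).erase θ).erase θ',
      charDegree (θ'' : K → ℂ) ^ 2 = ∑ θ' ∈ (Finset.univ : Finset (IrrCharacter K)).erase θ,
      charDegree (θ' : K → ℂ) ^ 2 := h6
    rw [h5] at h11
    omega
  have h10 := hpos θ'
  nlinarith

end a4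

end Cfsg.Agent.H212.LD
end

-- part: H212/LD/RowSuz
section
set_option linter.all false
open scoped Cfsg.Agent.FastGrp

/-!
# S4910, the row `Suz` (helper212)

`α` of degree `143` and `β` of degree prime to `143`.

* the characters of degree prime to `11` are invariant (`H212.LD.inv_of_not_dvd`), and the columns of `11` and `13` are
  orthogonal: there is `β ≠ 1` of degree prime to `11` and `13`;
* the elements of order 7 have the centralizer `7 × A₄`; the characters of degree `± 3` modulo 7 are the seven characters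
  over the character of degree 3 of `A₄`, and the alternating sum of their degrees is 0. The degrees 780, 5940, 15795
  are in this block, and there are no two degrees completing `143, 143, 780, 5940, 15795`: the character of degree 143
  is unique.
-/

set_option autoImplicit false
set_option linter.unusedSectionVars false

open Cfsg Subgroup

namespace Cfsg.Agent.H212.LD

open Cfsg.Agent.Characters.Core
open Cfsg.Agent.H954.LD (CopRow Inv copRow_inv inv_of_unique)
open Cfsg.Agent.H653.Sieve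
open Cfsg.Agent.SmallSimple.ThetaSetup Cfsg.Agent.SmallSimple.ThetaOrtho
open Cfsg.Agent.SmallSimple.TheoremC Cfsg.Agent.SmallSimple.TheoremCCor
open Cfsg.Agent.SmallSimple.ThetaCount

universe u

theorem exists_deg {S : Type u} [Group S] {T : Type} [Group T] (e : S ≃* T) {d : ℕ}
    (h : ∃ χ : IrrCharacter T, charDegree (χ : T → ℂ) = d) : ∃ χ : IrrCharacter S, charDegree (χ : S → ℂ) = d := by
  obtain ⟨χ, hχ⟩ := h
  refine ⟨⟨(χ : T → ℂ) ∘ e.toMonoidHom, isIrr_comp e.toMonoidHom e.surjective χ.2⟩, ?_⟩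
  rw [← hχ]
  unfold charDegree
  show Nat.floor ((χ : T → ℂ) (e 1)).re = _
  rw [map_one]

theorem card_cent {S : Type u} [Group S] {T : Type} [Group T] (e : S ≃* T) (x : S) :
    Nat.card (centralizer ({x} : Set S)) = Nat.card (centralizer ({e x} : Set T)) := by
  have h : centralizer ({e x} : Set T) = (centralizer ({x} : Set S)).map e.toMonoidHom := by
    ext y
    rw [mem_map, mem_centralizer_singleton_iff]
    constructor
    · intro hy
      refine ⟨e.symm y, ?_, e.apply_symm_apply y⟩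
      rw [mem_centralizer_singleton_iff]
      apply e.injective
      rw [map_mul, map_mul, e.apply_symm_apply]
      exact hy
    · rintro ⟨z, hz, rfl⟩
      rw [mem_centralizer_singleton_iff] at hz
      show e z * e x = e x * e z
      rw [← map_mul, hz, map_mul]
  rw [h]
  exact Nat.card_congr ((centralizer ({x} : Set S)).equivMapOfInjective e.toMonoidHom e.injective).toEquiv

/-! ### The second character -/

section beta

variable {S : Type u} [Group S] [Finite S] [IsSimpleGroup S]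

theorem exists_beta (hna : ¬ IsMulCommutative S) (hcard : Nat.card S = 448345497600) {x y : S} (hx : orderOf x = 11)
    (hcx : Nat.card (centralizer ({x} : Set S)) = 11) (hy : orderOf y = 13)
    (hcy : Nat.card (centralizer ({y} : Set S)) = 13) :
    ∃ β : IrrCharacter S, (β : S → ℂ) ≠ 1 ∧ ¬ 11 ∣ charDegree (β : S → ℂ) ∧ ¬ 13 ∣ charDegree (β : S → ℂ) := by
  classical
  have : Finite (IrrCharacter S) := finite_irr
  have := Fintype.ofFinite (IrrCharacter S)
  have h11 : Fact (Nat.Prime 11) := ⟨by norm_num⟩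
  have h13 : Fact (Nat.Prime 13) := ⟨by norm_num⟩
  obtain ⟨P, W, hP, he, hW, hC⟩ := exists_col hna hcard hx (k := 1) (by rw [hcx]) 10 1
    [(0, 0), (1, 1), (10, -1)] 0 false (by decide +kernel)
  obtain ⟨Q, W', hQ, he', hW', hC'⟩ := exists_col hna hcard hy (k := 1) (by rw [hcy]) 6 2
    [(0, 0), (1, 2), (12, -2), (6, -1), (7, 1)] 0 false (by decide +kernel)
  have horth := orth_of_ne (by norm_num : (11 : ℕ) ≠ 13) hP hQ hW hW' he he'
  by_contra hcon
  push Not at hcon
  let o : IrrCharacter S := ⟨1, isIrr_one⟩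
  have h1 : ∑ χ : IrrCharacter S, W χ * W' χ = W o * W' o := by
    refine Finset.sum_eq_single o (fun χ _ hχ => ?_) fun h => absurd (Finset.mem_univ o) h
    have hne : (χ : S → ℂ) ≠ 1 := fun h => hχ (Subtype.ext h)
    by_cases hd : 11 ∣ charDegree (χ : S → ℂ)
    · have h2 := hC.mem χ
      have h3 : deg χ % 11 = 0 := Nat.mod_eq_zero_of_dvd hd
      simp only [h3, List.mem_cons, Prod.mk.injEq, List.not_mem_nil, or_false] at h2
      rcases h2 with h2 | h2 | h2
      · rw [h2.2, zero_mul]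
      · omega
      · omega
    · have h2 := hC'.mem χ
      have h3 : deg χ % 13 = 0 := Nat.mod_eq_zero_of_dvd (hcon χ hne hd)
      simp only [h3, List.mem_cons, Prod.mk.injEq, List.not_mem_nil, or_false] at h2
      rcases h2 with h2 | h2 | h2 | h2 | h2
      · rw [h2.2, mul_zero]
      · omega
      · omega
      · omega
      · omega
  have h2 : W o = 1 := hC.one o rfl
  have h3 : W' o = 2 := hC'.one o rfl
  rw [Orth, h1, h2, h3] at horth
  norm_num at horth

end beta

/-! ### The character of degree 143 -/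

/-- the check of the pair of degrees -/
def fd (d : ℕ) : Bool :=
  bif Nat.beq (d % 7) 3 then !(Nat.beq (448345497600 % (10921 + d)) 0) else
  bif Nat.beq (d % 7) 4 then !(Nat.beq (448345497600 % ((d - 10921) + (10921 - d))) 0) else true

theorem chk : allDiv (448345497600 * 448345497600 + 1) fd [(13, 1), (11, 1), (7, 1), (5, 2), (3, 7), (2, 13)] 1 =
    true := by decide +kernel

theorem fd_of_dvd {d : ℕ} (hd : d ∣ 448345497600) : fd d = true := by
  have h := allDiv_spec (L := [(13, 1), (11, 1), (7, 1), (5, 2), (3, 7), (2, 13)]) (by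
    intro pa hpa
    simp only [List.mem_cons, List.not_mem_nil, or_false] at hpa
    rcases hpa with rfl | rfl | rfl | rfl | rfl | rfl <;> norm_num) chk d (by
      have : facProd [(13, 1), (11, 1), (7, 1), (5, 2), (3, 7), (2, 13)] = 448345497600 := by decide +kernel
      rw [this]
      exact hd) (by
      rw [one_mul]
      have := Nat.le_of_dvd (by norm_num) hd
      have := Nat.mul_le_mul this this
      omega)
  rwa [one_mul] at h

theorem no_pair {a b : ℕ} {s t k : ℤ} (ha : a ∣ 448345497600) (hb : b ∣ 448345497600) (hs : s = 1 ∨ s = -1)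
    (ht : t = 1 ∨ t = -1) (hk : (a : ℤ) = 3 * s + 7 * k) (h : s * a + t * b = -10921) : False := by
  have h1 := fd_of_dvd ha
  have hb0 : 448345497600 % b = 0 := Nat.mod_eq_zero_of_dvd hb
  unfold fd at h1
  rcases hs with rfl | rfl
  · have h2 : a % 7 = 3 := by omega
    have h3 : b = 10921 + a := by rcases ht with rfl | rfl <;> omega
    rw [h2] at h1
    rw [← h3, hb0] at h1
    exact Bool.false_ne_true h1
  · have h2 : a % 7 = 4 := by omega
    have h3 : b = (a - 10921) + (10921 - a) := by rcases ht with rfl | rfl <;> omega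
    rw [h2] at h1
    rw [← h3, hb0] at h1
    exact Bool.false_ne_true h1

section seven

variable {S : Type u} [Group S] [Finite S]

theorem isComp_equiv [h7 : Fact (Nat.Prime 7)] {P : Sylow 7 S} {K : Subgroup S} (hK : IsComp 7 (P : Subgroup S) K)
    (hP : Nat.card P = 7)
    (f : ↥(centralizer ((P : Subgroup S) : Set S)) ≃* Multiplicative (ZMod 7) × alternatingGroup (Fin 4)) :
    Nat.card K = 12 ∧ Nonempty (K ≃* alternatingGroup (Fin 4)) := by
  have hA : Nat.card (alternatingGroup (Fin 4)) = 12 := by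
    rw [Nat.card_eq_fintype_card]
    decide
  have h1 := SmallSimple.ThetaOrtho.card_centralizer hK hP
  rw [Nat.card_congr f.toEquiv, Nat.card_prod, hA, Nat.card_congr Multiplicative.toAdd, Nat.card_zmod] at h1
  have h2 : Nat.card K = 12 := by omega
  refine ⟨h2, ?_⟩
  let g : K →* alternatingGroup (Fin 4) :=
    ((MonoidHom.snd _ _).comp f.toMonoidHom).comp (Subgroup.inclusion hK.le)
  have hg : Function.Injective g := by
    rw [injective_iff_map_eq_one]
    intro y hy
    have h3 : (f (Subgroup.inclusion hK.le y)).2 = 1 := hy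
    have h4 : (f (Subgroup.inclusion hK.le y)) ^ 7 = 1 := by
      apply Prod.ext
      · have h5 := pow_card_eq_one' (x := (f (Subgroup.inclusion hK.le y)).1)
        rw [Nat.card_congr Multiplicative.toAdd, Nat.card_zmod] at h5
        exact h5
      · rw [Prod.pow_snd, h3, one_pow]
        rfl
    have h5 : (Subgroup.inclusion hK.le y) ^ 7 = 1 := by
      apply f.injective
      rw [map_pow, h4, map_one]
    have h6 : (y : S) ^ 7 = 1 := by
      have := congrArg Subtype.val h5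
      simpa using this
    have h7' : ¬ 7 ∣ orderOf (y : S) := ((hK y).1 y.2).2
    have h8 : orderOf (y : S) ∣ 7 := orderOf_dvd_of_pow_eq_one h6
    rcases (Nat.dvd_prime h7.out).1 h8 with h9 | h9
    · exact Subtype.ext (orderOf_eq_one_iff.1 h9)
    · rw [h9] at h7'
      exact absurd (dvd_refl 7) h7'
  have hbij : Function.Bijective g := by
    have hfin : Finite (alternatingGroup (Fin 4)) := inferInstance
    exact (Nat.bijective_iff_injective_and_card g).2 ⟨hg, by rw [h2, hA]⟩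
  exact ⟨MulEquiv.ofBijective g hbij⟩

/-- The block of the characters of degree `± 3` modulo 7. -/
theorem exists_block (h : Spor.IsoSuz S) : ∃ (B : Finset (IrrCharacter S)) (δ : IrrCharacter S → ℤ),
    B.card = 7 ∧ (∀ χ ∈ B, (δ χ = 1 ∨ δ χ = -1) ∧ ∃ k : ℤ, (charDegree (χ : S → ℂ) : ℤ) = 3 * δ χ + 7 * k) ∧
    (∀ χ : IrrCharacter S, charDegree (χ : S → ℂ) % 7 = 3 ∨ charDegree (χ : S → ℂ) % 7 = 4 → χ ∈ B) ∧
    ∑ χ ∈ B, δ χ * (charDegree (χ : S → ℂ) : ℤ) = 0 := by
  classical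
  have h7 : Fact (Nat.Prime 7) := ⟨by norm_num⟩
  have hcard : Nat.card S = 448345497600 := by
    obtain ⟨e⟩ := h
    rw [Nat.card_congr e.toEquiv, H812.SuzSeven.card_Suz]
  obtain ⟨P⟩ : Nonempty (Sylow 7 S) := inferInstance
  have hP : Nat.card P = 7 := by
    have := J2Type.SylowSeven.card_sylow P 1 64049356800 (by rw [hcard]; norm_num) (by norm_num)
    rw [this]; norm_num
  obtain ⟨⟨f⟩, hN⟩ := H812.SuzSeven.main h P
  obtain ⟨K, hK⟩ := exists_isComp P hP
  obtain ⟨hK12, ⟨g⟩⟩ := isComp_equiv hK hP f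
  obtain ⟨θ, hθ3, hθ⟩ := exists_theta g
  have : Finite (IrrCharacter K) := finite_irr
  have := Fintype.ofFinite (IrrCharacter K)
  have : Finite (IrrCharacter S) := finite_irr
  have := Fintype.ofFinite (IrrCharacter S)
  have hcastK : ∀ θ' : IrrCharacter K, (θ' : K → ℂ) 1 = (charDegree (θ' : K → ℂ) : ℂ) := fun θ' =>
    Blocks.Knorr.charDegree_eq θ'.2
  have hcastS : ∀ χ : IrrCharacter S, (χ : S → ℂ) 1 = (charDegree (χ : S → ℂ) : ℂ) := fun χ =>
    Blocks.Knorr.charDegree_eq χ.2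
  have hCP : Nat.card (centralizer ((P : Subgroup S) : Set S)) = 84 := by
    rw [SmallSimple.ThetaOrtho.card_centralizer hK hP, hK12]
  have he : (centralizer ((P : Subgroup S) : Set S)).relIndex (normalizer ((P : Subgroup S) : Set S)) = 6 := by
    have hle : centralizer ((P : Subgroup S) : Set S) ≤ normalizer ((P : Subgroup S) : Set S) :=
      centralizer_le_normalizer _
    have h3 := Subgroup.index_mul_card ((centralizer ((P : Subgroup S) : Set S)).subgroupOf
      (normalizer ((P : Subgroup S) : Set S)))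
    rw [Nat.card_congr (Subgroup.subgroupOfEquivOfLe hle).toEquiv, hCP, hN] at h3
    rw [Subgroup.relIndex]
    omega
  -- the degrees in an orbit
  have horb : ∀ θ' θ'' : IrrCharacter K, θ'' ∈ orb P K (θ' : K → ℂ) →
      charDegree (θ'' : K → ℂ) = charDegree (θ' : K → ℂ) := by
    intro θ' θ'' h3
    unfold charDegree
    rw [H653.Sieve.orb_apply_one hK h3]
  have hst : ∀ n ∈ normalizer ((P : Subgroup S) : Set S), tw (θ : K → ℂ) n = θ := by
    intro n hn
    by_contra hne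
    let θ' : IrrCharacter K := ⟨tw (θ : K → ℂ) n, isIrr_tw hK θ.2 hn⟩
    have h3 : θ' ∈ orb P K (θ : K → ℂ) := mem_orb.2 ⟨n, hn, rfl⟩
    have h4 := horb θ θ' h3
    rw [hθ θ' (fun h5 => hne (congrArg Subtype.val h5)), hθ3] at h4
    omega
  have hstab : Nat.card (stabAct hK (θ : K → ℂ)) = 7 - 1 := by
    rw [card_stabAct_of_stable hK hP θ.2 hst, he]
  obtain ⟨B, δ, hBc, hB, hδ, hrel⟩ := theoremC_one hK hP θ.2 hstab
  refine ⟨B, δ, hBc, ?_, ?_, ?_⟩
  · intro χ hχ
    obtain ⟨h3, h4⟩ := hδ χ hχ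
    refine ⟨h3, ?_⟩
    obtain ⟨k, hk⟩ := degree_of_const hK hP θ.2 ((hB χ).2 hχ) h4
    rw [orb_of_stable θ.2 hst, Finset.sum_singleton] at hk
    refine ⟨k, ?_⟩
    have h5 : (((charDegree (χ : S → ℂ) : ℤ)) : ℂ) = ((3 * δ χ + 7 * k : ℤ) : ℂ) := by
      have h6 : ((charDegree (χ : S → ℂ) : ℤ) : ℂ) = (χ : S → ℂ) 1 := by rw [hcastS]; norm_cast
      have h8 : (θ : K → ℂ) 1 = 3 := by rw [hcastK, hθ3]; norm_num
      have h9 : (((⟨(θ : K → ℂ), θ.2⟩ : IrrCharacter K) : K → ℂ)) 1 = 3 := h8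
      rw [h6, hk, h9]
      push_cast
      ring
    exact_mod_cast h5
  · intro χ hχ
    have hnd : ¬ 7 ∣ charDegree (χ : S → ℂ) := by omega
    obtain ⟨θ', hθ'⟩ := H348.PPD.Part.exists_over hK hP hnd
    by_cases hne : θ' = θ
    · rw [hne] at hθ'
      exact (hB χ).1 hθ'
    exfalso
    have hd1 := hθ θ' hne
    obtain ⟨w, s, hw, hs, hw'⟩ := exists_value hK hP he (t := 1) (by norm_num) χ θ' hθ'
    have hdv := dvd_deg_add hP hw
    rw [hd1] at hw'
    -- the length of the orbit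
    have hm : (orb P K (θ' : K → ℂ)).card ≤ 2 := by
      by_contra hcon
      have hsub : orb P K (θ' : K → ℂ) ⊆ (Finset.univ : Finset (IrrCharacter K)).erase θ := by
        intro θ'' h3
        rw [Finset.mem_erase]
        refine ⟨fun h4 => ?_, Finset.mem_univ _⟩
        have h5 := horb θ' θ'' h3
        rw [h4, hθ3, hd1] at h5
        omega
      have hc3 : ((Finset.univ : Finset (IrrCharacter K)).erase θ).card = 3 := by
        rw [Finset.card_erase_of_mem (Finset.mem_univ _), Finset.card_univ, ← Nat.card_eq_fintype_card,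
          card_irr_a4 g]
      have heq := Finset.eq_of_subset_of_card_le hsub (by rw [hc3]; omega)
      let o : IrrCharacter K := ⟨1, isIrr_one⟩
      have ho1 : charDegree (o : K → ℂ) = 1 := by
        show charDegree (1 : K → ℂ) = 1
        unfold charDegree
        simp
      have ho : o ∈ orb P K (θ' : K → ℂ) := by
        rw [heq, Finset.mem_erase]
        refine ⟨fun h4 => ?_, Finset.mem_univ _⟩
        rw [h4, hθ3] at ho1
        omega
      obtain ⟨n, hn, h3⟩ := mem_orb.1 ho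
      have hθ1 : (θ' : K → ℂ) = 1 := by
        have h2 : tw (tw (θ' : K → ℂ) n) n⁻¹ = θ' := by
          rw [← tw_mul hK _ hn (inv_mem hn), mul_inv_cancel, tw_one]
        have h4 : tw (θ' : K → ℂ) n = 1 := h3
        rw [← h2, h4]
        exact tw_one_char hK (inv_mem hn)
      have hor : orb P K (θ' : K → ℂ) = {⟨(θ' : K → ℂ), θ'.2⟩} :=
        orb_of_stable θ'.2 fun n hn => by rw [hθ1]; exact tw_one_char hK hn
      rw [hor, Finset.card_singleton] at hcon
      omega
    rcases hm' : (orb P K (θ' : K → ℂ)).card with _ | _ | _ | m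
    · rw [hm'] at hw'
      rcases hs with rfl | rfl <;> rcases hw' with rfl | rfl <;> push_cast at hdv <;> omega
    · rw [hm'] at hw'
      rcases hs with rfl | rfl <;> rcases hw' with rfl | rfl <;> push_cast at hdv <;> omega
    · rw [hm'] at hw'
      rcases hs with rfl | rfl <;> rcases hw' with rfl | rfl <;> push_cast at hdv <;> omega
    · omega
  · have h3 := hrel 1 (by rw [orderOf_one]; norm_num)
    have h4 : ((∑ χ ∈ B, δ χ * (charDegree (χ : S → ℂ) : ℤ) : ℤ) : ℂ) = ((0 : ℤ) : ℂ) := by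
      rw [Int.cast_zero, ← h3]
      push_cast
      exact Finset.sum_congr rfl fun χ _ => by rw [hcastS]
    exact_mod_cast h4

/-- The character of degree 143 is unique. -/
theorem unique_143 (h : Spor.IsoSuz S) {α α' : IrrCharacter S} (hα : charDegree (α : S → ℂ) = 143)
    (hα' : charDegree (α' : S → ℂ) = 143) : α' = α := by
  classical
  by_contra hne
  obtain ⟨e⟩ := id h
  have hcard : Nat.card S = 448345497600 := by
    rw [Nat.card_congr e.toEquiv, H812.SuzSeven.card_Suz]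
  obtain ⟨B, δ, hBc, hδ, hB, hsum⟩ := exists_block h
  obtain ⟨c3, h3⟩ := exists_deg e H289.Eight.SuzDeg.deg_780
  obtain ⟨c4, h4⟩ := exists_deg e H289.Eight.SuzDeg.deg_5940
  obtain ⟨c5, h5⟩ := exists_deg e H289.Eight.SuzDeg.deg_15795
  have hd : ∀ {c c' : IrrCharacter S} {a b : ℕ}, charDegree (c : S → ℂ) = a → charDegree (c' : S → ℂ) = b → a ≠ b →
      c ≠ c' := by
    rintro c c' a b rfl rfl hab rfl
    exact hab rfl
  have mα := hB α (by rw [hα]; norm_num)
  have mα' := hB α' (by rw [hα']; norm_num)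
  have m3 := hB c3 (by rw [h3]; norm_num)
  have m4 := hB c4 (by rw [h4]; norm_num)
  have m5 := hB c5 (by rw [h5]; norm_num)
  have n13 := hd hα h3 (by norm_num)
  have n14 := hd hα h4 (by norm_num)
  have n15 := hd hα h5 (by norm_num)
  have n23 := hd hα' h3 (by norm_num)
  have n24 := hd hα' h4 (by norm_num)
  have n25 := hd hα' h5 (by norm_num)
  have n34 := hd h3 h4 (by norm_num)
  have n35 := hd h3 h5 (by norm_num)
  have n45 := hd h4 h5 (by norm_num)
  have n12 : α ≠ α' := fun h => hne h.symm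
  -- the other two
  let T : Finset (IrrCharacter S) := {α, α', c3, c4, c5}
  have hT : T ⊆ B := by
    intro χ hχ
    simp only [T, Finset.mem_insert, Finset.mem_singleton] at hχ
    rcases hχ with rfl | rfl | rfl | rfl | rfl <;> assumption
  have hTc : T.card = 5 := by
    simp only [T]
    rw [Finset.card_insert_of_notMem (by simp [n12, n13, n14, n15]), Finset.card_insert_of_notMem
      (by simp [n23, n24, n25]), Finset.card_insert_of_notMem (by simp [n34, n35]), Finset.card_insert_of_notMem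
      (by simp [n45]), Finset.card_singleton]
  have hTs : ∑ χ ∈ T, δ χ * (charDegree (χ : S → ℂ) : ℤ) = δ α * 143 + (δ α' * 143 + (δ c3 * 780 + (δ c4 * 5940 +
      δ c5 * 15795))) := by
    simp only [T]
    rw [Finset.sum_insert (by simp [n12, n13, n14, n15]), Finset.sum_insert
      (by simp [n23, n24, n25]), Finset.sum_insert (by simp [n34, n35]), Finset.sum_insert
      (by simp [n45]), Finset.sum_singleton, hα, hα', h3, h4, h5]
    norm_num
  have hsd : (B \ T).card = 2 := by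
    rw [Finset.card_sdiff_of_subset hT, hBc, hTc]
  obtain ⟨a, b, hab, hABs⟩ := Finset.card_eq_two.1 hsd
  have hsplit := Finset.sum_sdiff hT (f := fun χ : IrrCharacter S => δ χ * (charDegree (χ : S → ℂ) : ℤ))
  rw [hsum, hTs, hABs, Finset.sum_pair hab] at hsplit
  have ma : a ∈ B := (Finset.mem_sdiff.1 (by rw [hABs]; simp : a ∈ B \ T)).1
  have mb : b ∈ B := (Finset.mem_sdiff.1 (by rw [hABs]; simp : b ∈ B \ T)).1
  obtain ⟨sα, kα, eα⟩ := hδ α mα
  obtain ⟨sα', kα', eα'⟩ := hδ α' mα'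
  obtain ⟨s3, k3, e3⟩ := hδ c3 m3
  obtain ⟨s4, k4, e4⟩ := hδ c4 m4
  obtain ⟨s5, k5, e5⟩ := hδ c5 m5
  obtain ⟨sa, ka, ea⟩ := hδ a ma
  obtain ⟨sb, kb, eb⟩ := hδ b mb
  rw [hα] at eα
  rw [hα'] at eα'
  rw [h3] at e3
  rw [h4] at e4
  rw [h5] at e5
  have t1 : δ α = 1 := by rcases sα with h | h <;> rw [h] at eα <;> push_cast at eα <;> omega
  have t2 : δ α' = 1 := by rcases sα' with h | h <;> rw [h] at eα' <;> push_cast at eα' <;> omega
  have t3 : δ c3 = 1 := by rcases s3 with h | h <;> rw [h] at e3 <;> push_cast at e3 <;> omega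
  have t4 : δ c4 = -1 := by rcases s4 with h | h <;> rw [h] at e4 <;> push_cast at e4 <;> omega
  have t5 : δ c5 = 1 := by rcases s5 with h | h <;> rw [h] at e5 <;> push_cast at e5 <;> omega
  rw [t1, t2, t3, t4, t5] at hsplit
  have hdvd : ∀ χ : IrrCharacter S, charDegree (χ : S → ℂ) ∣ 448345497600 := fun χ => by
    rw [← hcard]
    exact Blocks.Knorr.charDegree_dvd χ.2
  exact no_pair (hdvd a) (hdvd b) sa sb ea (by linarith)

end seven

/-- **Row Suz.** -/
theorem row_Suz {S : Type u} [Group S] [Finite S] [IsSimpleGroup S] (hna : ¬ IsMulCommutative S)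
    (h : Spor.IsoSuz S) : CopRow S := by
  obtain ⟨e⟩ := id h
  have hcard : Nat.card S = 448345497600 := by
    rw [Nat.card_congr e.toEquiv, H812.SuzSeven.card_Suz]
  have h2 : Nat.card (Out S) = 2 := by rw [H55.OutGen.card_out_congr e]; exact S2074.result
  have hidx : (MulAut.conj : S →* MulAut S).range.index = 2 := h2
  have hc : center S = ⊥ := H348.PPD.Rows.center_eq_bot hna
  obtain ⟨x0, hx0, hcx0⟩ := H348.PPD.RowSuz.cent11
  obtain ⟨y0, hy0, hcy0⟩ := H474.Suz13.suz_thirteen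
  have hx : orderOf (e.symm x0) = 11 := by rw [MulEquiv.orderOf_eq, hx0]
  have hy : orderOf (e.symm y0) = 13 := by rw [MulEquiv.orderOf_eq, hy0]
  have hcx : Nat.card (centralizer ({e.symm x0} : Set S)) = 11 := by
    rw [card_cent e, e.apply_symm_apply, hcx0]
  have hcy : Nat.card (centralizer ({e.symm y0} : Set S)) = 13 := by
    rw [card_cent e, e.apply_symm_apply, hcy0]
  obtain ⟨β, hβ1, hβ11, hβ13⟩ := exists_beta hna hcard hx hcx hy hcy
  have hiβ : Inv β := inv_of_not_dvd hc hidx (r := 11) (by norm_num) (by norm_num) hcard (by norm_num) hx hcx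
    (by norm_num) β hβ11
  obtain ⟨α, hα⟩ : ∃ α : IrrCharacter S, charDegree (α : S → ℂ) = 143 := by
    obtain ⟨ψ, hψ, hψ1, -⟩ := H299.K4.SuzX.exists_143
    obtain ⟨e'⟩ := H299.K4.SuzX.isoX
    refine exists_deg e ⟨⟨ψ ∘ e'.symm.toMonoidHom, isIrr_comp e'.symm.toMonoidHom e'.symm.surjective hψ⟩, ?_⟩
    unfold charDegree
    show Nat.floor (ψ (e'.symm 1)).re = _
    rw [map_one, hψ1]
    norm_num
  have : Finite (IrrCharacter S) := finite_irr
  have := Fintype.ofFinite (IrrCharacter S)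
  have hβ : charDegree (β : S → ℂ) ≠ 1 := fun h => hβ1 (one_of_deg (by rw [hcard]; norm_num) β h)
  refine copRow_inv hna (by omega) (α := α) (β := β) (by rw [hα]; norm_num) hβ ?_ ?_ hiβ
  · rw [hα, show (143 : ℕ) = 11 * 13 by norm_num]
    exact Nat.Coprime.mul_left ((Nat.Prime.coprime_iff_not_dvd (by norm_num)).2 hβ11)
      ((Nat.Prime.coprime_iff_not_dvd (by norm_num)).2 hβ13)
  · exact inv_of_unique fun ψ hψ => unique_143 h hα (by rw [hψ, hα])

end Cfsg.Agent.H212.LD

private theorem dce_c05d2ba909ce : _root_.True := by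
  try have : _root_.True := by simp only [_root_.Cfsg.Agent.H653.Sieve.Orth.eq_1]
  exact _root_.True.intro
end
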